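import Cfsg.Agent.Lib.H3.Transv
import Cfsg.Agent.Lib.H3.BaerSuzuki
import Cfsg.Agent.Lib.H3.PSolv4
import Cfsg.Agent.Lib.Solv.PGroup
import Cfsg.Agent.Lib.PLocal.Core

/-! # Sylow subgroups with cyclic commutator subgroup in solvable groups of odd order -/

set_option autoImplicit false
set_option linter.unusedSectionVars false
set_option linter.style.haveILetI false

namespace CfsgLib.CycDer

open Subgroup
open scoped commutatorElement

universe u

variable {p : ℕ}

theorem isPSolvable_of_solvable [Fact p.Prime] : ∀ (n : ℕ) (G : Type u) [Group G] [Finite G] [Group.IsSolvable G],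
    Nat.card G = n → Cfsg.IsPSolvable p G := by
  intro n
  induction n using Nat.strong_induction_on with
  | _ n ih =>
  intro G _ _ _ hn
  by_cases hnt : Nontrivial G
  · have hlt : commutator G < ⊤ := Group.IsSolvable.commutator_lt_top_of_nontrivial G
    have hc : Nat.card (commutator G) < n := by
      rw [← hn]
      by_contra hcon
      push Not at hcon
      have h9 : commutator G = ⊤ := Subgroup.eq_of_le_of_card_ge le_top (by simpa using hcon)
      exact hlt.ne h9
    have h1 := ih _ hc (commutator G) rfl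
    refine CfsgLib.PSolv.ext (commutator G) h1 (CfsgLib.PSolv.of_comm ?_)
    intro a b
    exact mul_comm (G := Abelianization G) a b
  · rw [not_nontrivial_iff_subsingleton] at hnt
    refine CfsgLib.PSolv.of_comm ?_
    intro a b
    exact Subsingleton.elim _ _

lemma fix_of_pow [hpp : Fact p.Prime] {G : Type*} [Group G] {a w : G} {i s : ℕ} (hw : w ^ p = 1)
    (h : a * w * a⁻¹ = w ^ i) (ha : a ^ (p ^ s) = 1) : a * w * a⁻¹ = w := by
  have hit : ∀ n : ℕ, a ^ n * w * (a ^ n)⁻¹ = w ^ (i ^ n) := by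
    intro n
    induction n with
    | zero => simp
    | succ n ih =>
      have : a ^ (n + 1) * w * (a ^ (n + 1))⁻¹ = a * (a ^ n * w * (a ^ n)⁻¹) * a⁻¹ := by
        rw [pow_succ']; group
      rw [this, ih]
      have h2 : a * w ^ i ^ n * a⁻¹ = (a * w * a⁻¹) ^ (i ^ n) := by
        rw [conj_pow]
      rw [h2, h, ← pow_mul, pow_succ']
  have h1 := hit (p ^ s)
  rw [ha] at h1
  simp only [one_mul, inv_one, mul_one] at h1
  rw [h]
  have hmod : i ^ (p ^ s) ≡ i [MOD p] := by
    rw [← ZMod.natCast_eq_natCast_iff]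
    push_cast
    exact ZMod.pow_card_pow (p := p) _
  have hmod' : i ^ (p ^ s) ≡ i [MOD orderOf w] :=
    hmod.of_dvd (orderOf_dvd_of_pow_eq_one hw)
  have h3 : w ^ (i ^ (p ^ s)) = w ^ i := pow_eq_pow_iff_modEq.2 hmod'
  rw [← h3, ← h1]

lemma cyc_of_le {H : Type*} [Group H] {A B : Subgroup H} (h : A ≤ B) (hB : IsCyclic B) : IsCyclic A :=
  isCyclic_of_injective (Subgroup.inclusion h) (Subgroup.inclusion_injective h)

lemma cyc_map {H K : Type*} [Group H] [Group K] (f : H →* K) {A : Subgroup H} (hA : IsCyclic A) :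
    IsCyclic (A.map f) :=
  isCyclic_of_surjective (f.subgroupMap A) (f.subgroupMap_surjective A)

lemma cyc_bracket {H : Type*} [Group H] [Finite H] [Fact p.Prime] (S T : Sylow p H)
    (hS : IsCyclic (commutator (S : Subgroup H))) :
    IsCyclic (⁅(T : Subgroup H), (T : Subgroup H)⁆ : Subgroup H) := by
  obtain ⟨g, hg⟩ := MulAction.exists_smul_eq H S T
  have hT : (T : Subgroup H) = (S : Subgroup H).map (MulAut.conj g).toMonoidHom := by
    rw [← hg]; rfl
  rw [hT, ← Subgroup.map_commutator]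
  apply cyc_map
  rw [← Subgroup.map_subtype_commutator]
  exact cyc_map _ hS

/-- The main reduction: in the reduced case all `p`-elements lie in `O_p`. -/
theorem mem_pCore {H : Type u} [Group H] [Finite H] [Group.IsSolvable H] (hodd : Odd (Nat.card H))
    [hpp : Fact p.Prime] (hp2 : p ≠ 2) (hO : Cfsg.pPrimeCore p H = ⊥) (S : Sylow p H)
    (hS : IsCyclic (commutator (S : Subgroup H))) (x : H) (hx : IsPGroup p (zpowers x)) :
    x ∈ Cfsg.pCore p H := by
  have hp : p.Prime := hpp.out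
  have hsol : Cfsg.IsPSolvable p H := isPSolvable_of_solvable _ H rfl
  obtain ⟨R, hR⟩ : ∃ R, R = Cfsg.pCore p H := ⟨_, rfl⟩
  rw [← hR]
  haveI hRn : R.Normal := hR ▸ CfsgLib.Solv.pCore_normal' p
  have hRp : IsPGroup p R := hR ▸ CfsgLib.Solv.pCore_isPGroup p
  obtain ⟨Φ, hΦ⟩ : ∃ Φ, Φ = (frattini R).map R.subtype := ⟨_, rfl⟩
  haveI hΦn : Φ.Normal := hΦ ▸ CfsgLib.Comp.char_map_normal_of_normal hRn _
  have hΦR : Φ ≤ R := hΦ ▸ Subgroup.map_subtype_le _
  have hΦp : IsPGroup p Φ := hRp.to_le hΦR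
  have hmemΦ : ∀ a : R, a ∈ frattini R → (a : H) ∈ Φ := by
    intro a ha; rw [hΦ]; exact ⟨a, ha, rfl⟩
  obtain ⟨hcom, hpow⟩ := CfsgLib.Solv.pgroup_commutator_pow_le_frattini hRp
  have hR1 : ∀ a ∈ R, ∀ b ∈ R, a * b * a⁻¹ * b⁻¹ ∈ Φ := by
    intro a ha b hb
    have h1 : ⁅(⟨a, ha⟩ : R), (⟨b, hb⟩ : R)⁆ ∈ frattini R :=
      hcom (Subgroup.commutator_mem_commutator trivial trivial)
    exact hmemΦ _ h1
  have hR2 : ∀ a ∈ R, a ^ p ∈ Φ := by
    intro a ha
    exact hmemΦ _ (hpow ⟨a, ha⟩)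
  -- the quotient
  let π := QuotientGroup.mk' Φ
  have hπs : Function.Surjective π := QuotientGroup.mk'_surjective Φ
  have hπk : ∀ a, π a = 1 ↔ a ∈ Φ := fun a => QuotientGroup.eq_one_iff a
  let V : Subgroup (H ⧸ Φ) := R.map π
  haveI hVn : V.Normal := hRn.map π hπs
  have hVc : ∀ a b : V, a * b = b * a := by
    rintro ⟨_, a, ha, rfl⟩ ⟨_, b, hb, rfl⟩
    apply Subtype.ext
    change π a * π b = π b * π a
    have h1 : π (a * b * a⁻¹ * b⁻¹) = 1 := (hπk _).2 (hR1 a ha b hb)
    simp only [map_mul, map_inv] at h1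
    have h2 := mul_inv_eq_one.1 h1
    exact mul_inv_eq_iff_eq_mul.1 h2
  have hVp : ∀ a : V, a ^ p = 1 := by
    rintro ⟨_, a, ha, rfl⟩
    apply Subtype.ext
    change (π a) ^ p = 1
    rw [← map_pow]
    exact (hπk _).2 (hR2 a ha)
  letI instV : CommGroup V := { (inferInstance : Group V) with mul_comm := hVc }
  let ρ : (H ⧸ Φ) →* MulAut V := MulAut.conjNormal
  have hρ : ∀ (g : H ⧸ Φ) (v : V), ((ρ g v : V) : H ⧸ Φ) = g * v * g⁻¹ :=
    fun g v => MulAut.conjNormal_apply g v
  -- the data attached to a `p`-element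
  have htv : ∀ y : H, IsPGroup p (zpowers y) → ∃ u : V, (∀ v : V, ∃ k : ℕ, ρ (π y) v = v * u ^ k) ∧ ρ (π y) u = u := by
    intro y hy
    obtain ⟨s, hs⟩ : ∃ s, y ^ (p ^ s) = 1 := by
      obtain ⟨s, hs⟩ := (IsPGroup.iff_orderOf.1 hy) ⟨y, Subgroup.mem_zpowers y⟩
      refine ⟨s, ?_⟩
      rw [Subgroup.orderOf_mk] at hs
      rw [← hs]; exact pow_orderOf_eq_one y
    have hsup : IsPGroup p ↥(zpowers y ⊔ R) := IsPGroup.to_sup_of_normal_right hy hRp
    obtain ⟨T, hT⟩ := hsup.exists_le_sylow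
    have hyT : y ∈ (T : Subgroup H) := hT (le_sup_left (a := zpowers y) (mem_zpowers y))
    have hRT : R ≤ T := le_sup_right.trans hT
    set D : Subgroup H := ⁅(T : Subgroup H), (T : Subgroup H)⁆ with hD
    have hDT : D ≤ T := by
      rw [hD, Subgroup.commutator_le]
      intro a ha b hb
      exact mul_mem (mul_mem (mul_mem ha hb) (inv_mem ha)) (inv_mem hb)
    have hDc : IsCyclic D := cyc_bracket S T hS
    set C : Subgroup H := D ⊓ R with hC
    have hCc : IsCyclic C := cyc_of_le inf_le_left hDc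
    have hUc : IsCyclic (C.map π) := cyc_map π hCc
    obtain ⟨⟨w, hw⟩, hgen⟩ := IsCyclic.exists_generator (α := C.map π)
    have hwV : w ∈ V := Subgroup.map_mono inf_le_right hw
    have hmem : ∀ a ∈ C, ∃ k : ℕ, π a = w ^ k := by
      intro a ha
      have h1 : (⟨π a, ⟨a, ha, rfl⟩⟩ : C.map π) ∈ zpowers (⟨w, hw⟩ : C.map π) := hgen _
      rw [← mem_powers_iff_mem_zpowers] at h1
      obtain ⟨k, hk⟩ := h1
      refine ⟨k, ?_⟩
      have := congrArg Subtype.val hk
      simpa using this.symm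
    refine ⟨⟨w, hwV⟩, ?_, ?_⟩
    · rintro ⟨_, r, hr, rfl⟩
      have h1 : y * r * y⁻¹ * r⁻¹ ∈ C := by
        refine ⟨Subgroup.commutator_mem_commutator hyT (hRT hr), ?_⟩
        exact R.mul_mem (hRn.conj_mem r hr y) (R.inv_mem hr)
      obtain ⟨k, hk⟩ := hmem _ h1
      refine ⟨k, ?_⟩
      have h2 : ((⟨π r, r, hr, rfl⟩ : V) * (⟨w, hwV⟩ : V) ^ k) = ((⟨w, hwV⟩ : V) ^ k * ⟨π r, r, hr, rfl⟩ : V) :=
        hVc _ _
      rw [h2]
      apply Subtype.ext
      rw [hρ]
      change π y * π r * (π y)⁻¹ = w ^ k * π r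
      rw [← hk]
      simp
    · apply Subtype.ext
      rw [hρ]
      change π y * w * (π y)⁻¹ = w
      have hwp : w ^ p = 1 := by
        have := hVp ⟨w, hwV⟩
        exact congrArg Subtype.val this
      obtain ⟨c, hc, rfl⟩ := hw
      have h1 : y * c * y⁻¹ ∈ C := by
        refine ⟨?_, hRn.conj_mem c hc.2 y⟩
        have h2 : y * c * y⁻¹ * c⁻¹ ∈ D := Subgroup.commutator_mem_commutator hyT (hDT hc.1)
        have h3 := mul_mem h2 hc.1
        simpa using h3
      obtain ⟨i, hi⟩ := hmem _ h1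
      have h4 : π y * π c * (π y)⁻¹ = (π c) ^ i := by
        rw [← hi]; simp
      refine fix_of_pow (s := s) hwp h4 ?_
      rw [← map_pow, hs, map_one]
  -- pairs generate `p`-groups
  have hpair : ∀ (y : H) (hy : IsPGroup p (zpowers y)) (g : H),
      IsPGroup p (closure ({π y, π g * π y * (π g)⁻¹} : Set (H ⧸ Φ))) := by
    intro y hy g
    obtain ⟨u, hu1, hu2⟩ := htv y hy
    have hoddq : Odd (Nat.card (H ⧸ Φ)) := Odd.of_dvd_nat hodd (Subgroup.card_dvd_of_surjective π hπs)
    set z := π g * π y * (π g)⁻¹ with hz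
    have hρz : ρ z = ρ (π g) * ρ (π y) * (ρ (π g))⁻¹ := by
      rw [hz, map_mul, map_mul, map_inv]
    have hz1 : ∀ v : V, ∃ k : ℕ, ρ z v = v * (ρ (π g) u) ^ k := by
      intro v
      obtain ⟨k, hk⟩ := hu1 ((ρ (π g))⁻¹ v)
      refine ⟨k, ?_⟩
      rw [hρz, MulAut.mul_apply, MulAut.mul_apply, hk, map_mul, map_pow]
      simp
    have hz2 : ρ z (ρ (π g) u) = ρ (π g) u := by
      rw [hρz, MulAut.mul_apply, MulAut.mul_apply]
      simp [hu2]
    intro b
    obtain ⟨b, hb⟩ := b
    have h1 := CfsgLib.Transv.main hoddq hp hp2 hVp ρ hu1 hu2 hz1 hz2 hb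
    obtain ⟨t, rfl⟩ := hπs b
    have ht : t ^ p ∈ R := by
      rw [hR]
      apply CfsgLib.PSolv.mem_pCore_of_trivial_frattini hsol hO
      rw [← hR, ← hΦ]
      intro r hr
      have h2 : (ρ (π t) ^ p) ⟨π r, r, hr, rfl⟩ = ⟨π r, r, hr, rfl⟩ := by rw [h1]; rfl
      rw [← map_pow, ← map_pow] at h2
      have h3 := congrArg Subtype.val h2
      rw [hρ] at h3
      rw [← hπk]
      simp only [map_mul, map_inv]
      change π (t ^ p) * π r * (π (t ^ p))⁻¹ = π r at h3
      rw [h3]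
      simp
    obtain ⟨k, hk⟩ := hRp ⟨t ^ p, ht⟩
    refine ⟨k + 1, ?_⟩
    apply Subtype.ext
    have h2 := congrArg Subtype.val hk
    simp only [SubmonoidClass.mk_pow, OneMemClass.coe_one] at h2
    change (π t) ^ (p ^ (k + 1)) = 1
    rw [pow_succ', pow_mul, ← map_pow, ← map_pow, h2, map_one]
  -- Baer–Suzuki
  obtain ⟨N, hNn, hNp, hxN⟩ := CfsgLib.BS.baer_suzuki (p := p) (zpowers (π x)) (by
    intro g
    obtain ⟨g, rfl⟩ := hπs g
    refine (hpair x hx g).to_le ?_
    refine sup_le ?_ ?_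
    · rw [zpowers_le]
      exact subset_closure (by simp)
    · rw [MonoidHom.map_zpowers, zpowers_le]
      exact subset_closure (by simp [MulAut.conj_apply]))
  haveI := hNn
  have hle : N.comap π ≤ R := by
    rw [hR]
    apply CfsgLib.Solv.le_pCore'
    · intro b
      obtain ⟨b, hb⟩ := b
      have hb' : π b ∈ N := hb
      obtain ⟨k, hk⟩ := hNp ⟨π b, hb'⟩
      have h1 : (π b) ^ (p ^ k) = 1 := congrArg Subtype.val hk
      rw [← map_pow, hπk] at h1
      obtain ⟨j, hj⟩ := hΦp ⟨b ^ (p ^ k), h1⟩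
      have h2 := congrArg Subtype.val hj
      simp only [SubmonoidClass.mk_pow, OneMemClass.coe_one] at h2
      refine ⟨k + j, ?_⟩
      apply Subtype.ext
      change b ^ (p ^ (k + j)) = 1
      rw [pow_add, pow_mul, h2]
  exact hle (hxN (mem_zpowers _))

/-- The reduced form: `S` is normal. -/
theorem sylow_normal {H : Type u} [Group H] [Finite H] [Group.IsSolvable H] (hodd : Odd (Nat.card H))
    [hpp : Fact p.Prime] (hO : Cfsg.pPrimeCore p H = ⊥) (S : Sylow p H)
    (hS : IsCyclic (commutator (S : Subgroup H))) : (S : Subgroup H).Normal := by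
  by_cases hp2 : p = 2
  · subst hp2
    have h1 : Nat.card (S : Subgroup H) ∣ Nat.card H := Subgroup.card_subgroup_dvd_card _
    obtain ⟨k, hk⟩ := IsPGroup.iff_card.1 S.isPGroup'
    have h2 : Odd (Nat.card (S : Subgroup H)) := Odd.of_dvd_nat hodd h1
    have h3 : k = 0 := by
      by_contra h
      rw [hk] at h2
      exact (Nat.not_even_iff_odd.2 h2) ((Nat.even_pow' h).2 even_two)
    rw [h3, pow_zero] at hk
    have h4 : (S : Subgroup H) = ⊥ := Subgroup.eq_bot_of_card_eq _ hk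
    rw [h4]
    infer_instance
  haveI hRn : (Cfsg.pCore p H).Normal := CfsgLib.Solv.pCore_normal' p
  have hRp : IsPGroup p (Cfsg.pCore p H) := CfsgLib.Solv.pCore_isPGroup p
  have h1 : (S : Subgroup H) = Cfsg.pCore p H := by
    apply le_antisymm
    · intro x hx
      apply mem_pCore hodd hp2 hO S hS
      refine S.isPGroup'.to_le ?_
      rwa [zpowers_le]
    · exact hRp.le_sylow_of_normal S
  rw [h1]
  exact hRn

/-- S0521. -/
theorem main {X : Type u} [Group X] [Finite X] [Group.IsSolvable X] (hX : Odd (Nat.card X)) [hpp : Fact p.Prime]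
    (S : Sylow p X) (hS : IsCyclic (commutator (S : Subgroup X))) :
    (Cfsg.pPrimeCore p X ⊔ (S : Subgroup X)).Normal := by
  haveI hKn : (Cfsg.pPrimeCore p X).Normal := CfsgLib.Solv.pPrimeCore_normal' p
  set K := Cfsg.pPrimeCore p X with hK
  let π := QuotientGroup.mk' K
  have hπs : Function.Surjective π := QuotientGroup.mk'_surjective K
  let S' : Sylow p (X ⧸ K) := S.mapSurjective hπs
  have hS'c : (S' : Subgroup (X ⧸ K)) = (S : Subgroup X).map π := Sylow.coe_mapSurjective hπs S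
  have hS' : IsCyclic (commutator (S' : Subgroup (X ⧸ K))) := by
    let f : S →* S' := (π.comp (S : Subgroup X).subtype).codRestrict (S' : Subgroup (X ⧸ K)) (by
      intro s
      rw [hS'c]
      exact ⟨s, s.2, rfl⟩)
    have hf : Function.Surjective f := by
      rintro ⟨y, hy⟩
      rw [hS'c] at hy
      obtain ⟨s, hs, rfl⟩ := hy
      exact ⟨⟨s, hs⟩, rfl⟩
    have h1 : (commutator S).map f = commutator S' := by
      rw [commutator_def, commutator_def, Subgroup.map_commutator, ← MonoidHom.range_eq_map,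
        MonoidHom.range_eq_top.2 hf]
    rw [← h1]
    exact cyc_map f hS
  have hodd' : Odd (Nat.card (X ⧸ K)) := Odd.of_dvd_nat hX (Subgroup.card_dvd_of_surjective π hπs)
  have hbot : Cfsg.pPrimeCore p (X ⧸ K) = ⊥ := CfsgLib.PLocal.pPrimeCore_quotient
  have hn := sylow_normal hodd' hbot S' hS'
  have h2 : K ⊔ (S : Subgroup X) = ((S' : Subgroup (X ⧸ K))).comap π := by
    rw [hS'c, Subgroup.comap_map_eq, QuotientGroup.ker_mk', sup_comm]
  rw [h2]
  exact hn.comap π

end CfsgLib.CycDer
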