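import Mathlib

/-! Subgroups `A₄` of `GL₂(ℤ/2ᵏ)` are all conjugate. -/

set_option autoImplicit false

namespace CfsgLib.A4GL

abbrev R (m : ℕ) := ZMod (2 ^ (m + 1))

abbrev Mat (m : ℕ) := Matrix (Fin 2) (Fin 2) (R m)

variable {m : ℕ}

/-- Reduction mod 2. -/
def pi2 (m : ℕ) : R m →+* ZMod 2 := ZMod.castHom (dvd_pow_self 2 (Nat.succ_ne_zero m)) (ZMod 2)

theorem pi2_natCast (n : ℕ) : pi2 m (n : R m) = (n : ZMod 2) := map_natCast _ _

theorem exists_two_mul (x : R m) (h : pi2 m x = 0) : ∃ y, x = 2 * y := by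
  have hx : x = ((x.val : ℕ) : R m) := (ZMod.natCast_zmod_val x).symm
  rw [hx, pi2_natCast] at h
  have hd : 2 ∣ x.val := (ZMod.natCast_eq_zero_iff _ _).mp h
  obtain ⟨y, hy⟩ := hd
  refine ⟨(y : R m), ?_⟩
  rw [hx, hy]
  push_cast
  simp

theorem isUnit_of_pi (x : R m) (h : pi2 m x = 1) : IsUnit x := by
  have hx : x = ((x.val : ℕ) : R m) := (ZMod.natCast_zmod_val x).symm
  rw [hx]
  rw [ZMod.isUnit_iff_coprime]
  apply Nat.Coprime.pow_right
  rw [Nat.coprime_comm]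
  rw [Nat.Prime.coprime_iff_not_dvd Nat.prime_two]
  intro hd
  rw [hx, pi2_natCast] at h
  have h0 : ((x.val : ℕ) : ZMod 2) = 0 := (ZMod.natCast_eq_zero_iff _ _).mpr hd
  rw [h0] at h
  exact zero_ne_one h

/-- The element of order two. -/
def th (m : ℕ) : R m := ((2 ^ m : ℕ) : R m)

theorem two_th : 2 * th m = 0 := by
  have h : ((2 ^ (m + 1) : ℕ) : R m) = 0 := ZMod.natCast_self (2 ^ (m + 1))
  have e : 2 ^ (m + 1) = 2 * 2 ^ m := pow_succ' 2 m
  have h2 : (2 : R m) * th m = ((2 * 2 ^ m : ℕ) : R m) := by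
    rw [th, Nat.cast_mul]
    rfl
  rw [h2, ← e]
  exact h

theorem two_pow_zero : (2 : R m) ^ (m + 1) = 0 := by
  have h := ZMod.natCast_self (2 ^ (m + 1))
  push_cast at h
  exact h

theorem two_mul_eq_zero (x : R m) (h : 2 * x = 0) : x = 0 ∨ x = th m := by
  have hx : x = ((x.val : ℕ) : R m) := (ZMod.natCast_zmod_val x).symm
  have hlt : x.val < 2 ^ (m + 1) := ZMod.val_lt x
  have h1 : ((2 * x.val : ℕ) : R m) = 0 := by
    push_cast
    rw [← hx]
    exact h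
  have hd : 2 ^ (m + 1) ∣ 2 * x.val := (ZMod.natCast_eq_zero_iff _ _).mp h1
  obtain ⟨c, hc⟩ := hd
  have hpos : 0 < 2 ^ m := by positivity
  have e : 2 ^ (m + 1) = 2 ^ m * 2 := pow_succ 2 m
  have hc : 2 * x.val = (2 ^ m * 2) * c := by rw [← e]; exact hc
  have hlt : x.val < 2 ^ m * 2 := by rw [← e]; exact hlt
  have hc2 : c = 0 ∨ c = 1 := by
    by_contra hcon
    have : 2 ≤ c := by omega
    nlinarith
  rcases hc2 with rfl | rfl
  · left
    have : x.val = 0 := by omega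
    rw [hx, this]
    simp
  · right
    have : x.val = 2 ^ m := by omega
    rw [hx, this]
    rfl

theorem mod2 : ∀ p q r s : ZMod 2, p * p + q * r = 1 → p * q + q * s = 0 → r * p + s * r = 0 →
    r * q + s * s = 1 → p * (r + s) + q * (r + s - p - q) = s - q →
    p * (-r) + q * (p - r) = p + q - r - s → r * (r + s) + s * (r + s - p - q) = -q →
    r * (-r) + s * (p - r) = p + q → p = 1 ∧ q = 0 ∧ r = 0 := by decide

theorem two_zero : (2 : ZMod 2) = 0 := by decide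

theorem solve (p q r s : R m) (E1 : p * p + q * r = 1) (E2 : p * q + q * s = 0)
    (E3 : r * p + s * r = 0) (E4 : r * q + s * s = 1)
    (F11 : p * (r + s) + q * (r + s - p - q) = s - q)
    (F12 : p * (-r) + q * (p - r) = p + q - r - s)
    (F21 : r * (r + s) + s * (r + s - p - q) = -q)
    (F22 : r * (-r) + s * (p - r) = p + q) :
    2 * q = 0 ∧ 2 * r = 0 ∧ p = 1 + q + r ∧ s = 1 + q + r := by
  have G2 : s = 1 + q - r := by linear_combination F12 - F21 - F22 + E3 + E4 - E2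
  have G3 : r = p * p + p * q + q * q - p := by
    linear_combination F11 - E1 - E2 - (p - 1) * G2
  have hπ := mod2 (pi2 m p) (pi2 m q) (pi2 m r) (pi2 m s)
    (by have := congrArg (pi2 m) E1; simpa using this)
    (by have := congrArg (pi2 m) E2; simpa using this)
    (by have := congrArg (pi2 m) E3; simpa using this)
    (by have := congrArg (pi2 m) E4; simpa using this)
    (by have := congrArg (pi2 m) F11; simpa using this)
    (by have := congrArg (pi2 m) F12; simpa using this)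
    (by have := congrArg (pi2 m) F21; simpa using this)
    (by have := congrArg (pi2 m) F22; simpa using this)
  obtain ⟨hp1, hq0, hr0⟩ := hπ
  obtain ⟨t₁, ht₁⟩ := exists_two_mul (p - 1) (by rw [map_sub, hp1, map_one, sub_self])
  obtain ⟨q₁, hq₁⟩ := exists_two_mul q hq0
  obtain ⟨r₁, hr₁⟩ := exists_two_mul r hr0
  have hp : p = 1 + 2 * t₁ := by linear_combination ht₁
  set m₀ : R m := t₁ * t₁ + t₁ * q₁ + q₁ * q₁ with hm₀
  have hu : IsUnit (1 - 2 * m₀) := by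
    apply isUnit_of_pi
    rw [map_sub, map_mul, map_one, map_ofNat, two_zero, zero_mul, sub_zero]
  have hps : p + s = 2 * (1 - 2 * m₀) := by
    rw [hm₀]
    have hq2 : q * q = 4 * (q₁ * q₁) := by rw [hq₁]; ring
    have hpq : p * q = (1 + 2 * t₁) * q := by rw [hp]
    have hpp : p * p = (1 + 2 * t₁) * (1 + 2 * t₁) := by rw [hp]
    have h1 : r = (1 + 2 * t₁) * (1 + 2 * t₁) + (1 + 2 * t₁) * q + q * q - (1 + 2 * t₁) := by
      rw [← hpp, ← hpq, ← hp]
      exact G3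
    rw [G2, hp, h1, hq₁]
    ring
  have h2q : 2 * q = 0 := by
    have h1 : (2 * q) * (1 - 2 * m₀) = 0 := by
      have h3 : q * (p + s) = 0 := by linear_combination E2
      rw [hps] at h3
      linear_combination h3
    exact (hu.mul_left_eq_zero).mp h1
  have h2r : 2 * r = 0 := by
    have h1 : (2 * r) * (1 - 2 * m₀) = 0 := by
      have h3 : r * (p + s) = 0 := by linear_combination E3
      rw [hps] at h3
      linear_combination h3
    exact (hu.mul_left_eq_zero).mp h1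
  have hqq : q * q = 0 := by linear_combination q * hq₁ + q₁ * h2q
  have htq : 2 * t₁ * q = 0 := by linear_combination t₁ * h2q
  have hqr : q * r = 0 := by linear_combination q * hr₁ + r₁ * h2q
  have hpp : p * p = 1 := by linear_combination E1 - hqr
  have hr' : r = q - 2 * t₁ := by
    linear_combination G3 + hpp + q * hp + hqq + htq - hp
  refine ⟨h2q, h2r, ?_, ?_⟩
  · linear_combination hp + hr' - h2r
  · linear_combination G2 - h2r

/-! ### Matrices -/

def mC (m : ℕ) : Mat m := !![0, -1; 1, -1]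
def mC2 (m : ℕ) : Mat m := !![-1, 1; -1, 0]
def ma1 (m : ℕ) : Mat m := !![1, th m; th m, 1]
def ma2 (m : ℕ) : Mat m := !![1 + th m, 0; th m, 1 + th m]
def ma3 (m : ℕ) : Mat m := !![1 + th m, th m; 0, 1 + th m]

theorem mC_mul : mC m * mC2 m = 1 := by
  rw [mC, mC2, Matrix.mul_fin_two, Matrix.one_fin_two]
  congr 1
  simp

theorem mC2_mul : mC2 m * mC m = 1 := by
  rw [mC, mC2, Matrix.mul_fin_two, Matrix.one_fin_two]
  congr 1
  simp

theorem mat_eq {a b c d a' b' c' d' : R m} (h1 : a = a') (h2 : b = b') (h3 : c = c') (h4 : d = d') :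
    (!![a, b; c, d] : Mat m) = !![a', b'; c', d'] := by
  rw [h1, h2, h3, h4]

theorem conj_form (p q r s : R m) :
    mC m * !![p, q; r, s] * mC2 m = !![r + s, -r; r + s - p - q, p - r] := by
  rw [mC, mC2, Matrix.mul_fin_two, Matrix.mul_fin_two]
  apply mat_eq <;> ring

theorem conj2_form (p q r s : R m) :
    mC2 m * !![p, q; r, s] * mC m = !![s - q, p + q - r - s; -q, p + q] := by
  rw [mC, mC2, Matrix.mul_fin_two, Matrix.mul_fin_two]
  apply mat_eq <;> ring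

theorem cyc13 : mC m * ma1 m * mC2 m = ma3 m := by
  rw [ma1, conj_form, ma3]
  have h := two_th (m := m)
  apply mat_eq
  · ring
  · linear_combination -h
  · ring
  · linear_combination -h

theorem cyc32 : mC m * ma3 m * mC2 m = ma2 m := by
  rw [ma3, conj_form, ma2]
  have h := two_th (m := m)
  apply mat_eq
  · ring
  · ring
  · linear_combination -h
  · ring

theorem cyc21 : mC m * ma2 m * mC2 m = ma1 m := by
  rw [ma2, conj_form, ma1]
  have h := two_th (m := m)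
  apply mat_eq
  · linear_combination h
  · linear_combination -h
  · ring
  · ring

theorem cyc'12 : mC2 m * ma1 m * mC m = ma2 m := by
  rw [ma1, conj2_form, ma2]
  have h := two_th (m := m)
  apply mat_eq
  · linear_combination -h
  · ring
  · linear_combination -h
  · ring

theorem cyc'23 : mC2 m * ma2 m * mC m = ma3 m := by
  rw [ma2, conj2_form, ma3]
  have h := two_th (m := m)
  apply mat_eq
  · ring
  · linear_combination -h
  · ring
  · ring

theorem cyc'31 : mC2 m * ma3 m * mC m = ma1 m := by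
  rw [ma3, conj2_form, ma1]
  have h := two_th (m := m)
  apply mat_eq
  · ring
  · ring
  · linear_combination -h
  · linear_combination h

theorem solve_mat (b : Mat m) (h1 : b * b = 1) (h2 : b * (mC m * b * mC2 m) = mC2 m * b * mC m)
    (hb : b ≠ 1) : b = ma1 m ∨ b = ma2 m ∨ b = ma3 m := by
  have hb' : b = !![b 0 0, b 0 1; b 1 0, b 1 1] := (Matrix.eta_fin_two b)
  obtain ⟨p, hp⟩ : ∃ p, p = b 0 0 := ⟨_, rfl⟩
  obtain ⟨q, hq⟩ : ∃ q, q = b 0 1 := ⟨_, rfl⟩
  obtain ⟨r, hr⟩ : ∃ r, r = b 1 0 := ⟨_, rfl⟩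
  obtain ⟨s, hs⟩ : ∃ s, s = b 1 1 := ⟨_, rfl⟩
  rw [← hp, ← hq, ← hr, ← hs] at hb'
  subst hb'
  rw [Matrix.mul_fin_two, Matrix.one_fin_two] at h1
  rw [conj_form, conj2_form, Matrix.mul_fin_two] at h2
  have e00 := congrFun (congrFun h1 0) 0
  have e01 := congrFun (congrFun h1 0) 1
  have e10 := congrFun (congrFun h1 1) 0
  have e11 := congrFun (congrFun h1 1) 1
  have f00 := congrFun (congrFun h2 0) 0
  have f01 := congrFun (congrFun h2 0) 1
  have f10 := congrFun (congrFun h2 1) 0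
  have f11 := congrFun (congrFun h2 1) 1
  simp only [Matrix.of_apply, Matrix.cons_val', Matrix.cons_val_zero, Matrix.cons_val_one,
    Matrix.cons_val_fin_one] at e00 e01 e10 e11 f00 f01 f10 f11
  obtain ⟨h2q, h2r, hpe, hse⟩ := solve p q r s e00 e01 e10 e11
    f00 f01 f10 f11
  have ht := two_th (m := m)
  rcases two_mul_eq_zero q h2q with rfl | rfl <;> rcases two_mul_eq_zero r h2r with rfl | rfl
  · exfalso
    apply hb
    rw [Matrix.one_fin_two]
    apply mat_eq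
    · rw [hpe]; ring
    · rfl
    · rfl
    · rw [hse]; ring
  · right; left
    rw [ma2]
    apply mat_eq
    · rw [hpe]; ring
    · rfl
    · rfl
    · rw [hse]; ring
  · right; right
    rw [ma3]
    apply mat_eq
    · rw [hpe]; ring
    · rfl
    · rfl
    · rw [hse]; ring
  · left
    rw [ma1]
    apply mat_eq
    · rw [hpe]; linear_combination ht
    · rfl
    · rfl
    · rw [hse]; linear_combination ht


/-! ### The group level -/

abbrev GLm (m : ℕ) := Matrix.GeneralLinearGroup (Fin 2) (R m)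

def mCu (m : ℕ) : GLm m := ⟨mC m, mC2 m, mC_mul, mC2_mul⟩

theorem two_group (ρ : GLm m) (h : (pi2 m).mapMatrix (ρ : Mat m) = 1) : ρ ^ (2 ^ m) = 1 := by
  obtain ⟨X, hX⟩ : ∃ X : Mat m, X = (ρ : Mat m) := ⟨_, rfl⟩
  rw [← hX] at h
  have hent : ∀ i j, ∃ y, X i j - (1 : Mat m) i j = 2 * y := by
    intro i j
    apply exists_two_mul
    have h1 := congrFun (congrFun h i) j
    simp only [RingHom.mapMatrix_apply, Matrix.map_apply] at h1
    rw [map_sub, h1]
    by_cases hij : i = j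
    · subst hij
      simp
    · simp [hij]
  choose Y hY using hent
  have hX1 : X = 1 + (2 : R m) • Matrix.of Y := by
    ext i j
    have := hY i j
    simp only [Matrix.add_apply, Matrix.smul_apply, Matrix.of_apply, smul_eq_mul]
    linear_combination this
  have key : ∀ j : ℕ, ∃ Z : Mat m, X ^ (2 ^ j) = 1 + ((2 : R m) ^ (j + 1)) • Z := by
    intro j
    induction j with
    | zero => exact ⟨Matrix.of Y, by simpa using hX1⟩
    | succ j ih =>
      obtain ⟨Z, hZ⟩ := ih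
      refine ⟨Z + ((2 : R m) ^ j) • (Z * Z), ?_⟩
      rw [pow_succ 2 j, pow_mul, hZ, pow_two]
      simp only [add_mul, mul_add, one_mul, mul_one, smul_mul_assoc, mul_smul_comm]
      module
  obtain ⟨Z, hZ⟩ := key m
  rw [two_pow_zero, zero_smul, add_zero] at hZ
  apply Units.ext
  rw [Units.val_pow_eq_pow_val, ← hX, hZ]
  rfl

theorem mod2mat : ∀ M : Matrix (Fin 2) (Fin 2) (ZMod 2), M ^ 3 = 1 → M ≠ 1 →
    M 1 0 = 1 ∧ (M 0 0 - 1) * (M 1 1 - 1) - M 0 1 * M 1 0 = 1 := by decide +kernel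

theorem exists_g (ρ : GLm m) (h3 : ρ ^ 3 = 1) (h1 : ρ ≠ 1) : ∃ g : GLm m, g * ρ * g⁻¹ = mCu m := by
  obtain ⟨A, hA⟩ : ∃ A : Mat m, A = (ρ : Mat m) := ⟨_, rfl⟩
  have hA3 : A ^ 3 = 1 := by
    rw [hA, ← Units.val_pow_eq_pow_val, h3]
    rfl
  have hne : (pi2 m).mapMatrix A ≠ 1 := by
    intro h
    rw [hA] at h
    have h2 := two_group ρ h
    apply h1
    have h3' := orderOf_dvd_of_pow_eq_one h3
    have h4 := orderOf_dvd_of_pow_eq_one h2
    have h5 : orderOf ρ ∣ Nat.gcd 3 (2 ^ m) := Nat.dvd_gcd h3' h4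
    have h6 : Nat.gcd 3 (2 ^ m) = 1 := Nat.Coprime.pow_right m (by norm_num)
    rw [h6] at h5
    exact orderOf_eq_one_iff.mp (Nat.dvd_one.mp h5)
  have hM3 : ((pi2 m).mapMatrix A) ^ 3 = 1 := by rw [← map_pow, hA3, map_one]
  obtain ⟨hγ, hdet⟩ := mod2mat _ hM3 hne
  have hγ' : pi2 m (A 1 0) = 1 := hγ
  have hu : IsUnit (A 1 0) := isUnit_of_pi _ hγ'
  have hdet' : pi2 m ((A 0 0 - 1) * (A 1 1 - 1) - A 0 1 * A 1 0) = 1 := by
    rw [map_sub, map_mul, map_sub, map_sub, map_mul, map_one]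
    exact hdet
  have hu2 := isUnit_of_pi _ hdet'
  have hB : IsUnit (A - 1) := by
    rw [Matrix.isUnit_iff_isUnit_det, Matrix.det_fin_two]
    convert hu2 using 1
    simp [Matrix.sub_apply, Matrix.one_apply]
  have hD : A * A + A + 1 = 0 := by
    have h5 : (A - 1) * (A * A + A + 1) = 0 := by
      have e : (A - 1) * (A * A + A + 1) = A ^ 3 - 1 := by noncomm_ring
      rw [e, hA3, sub_self]
    exact (hB.mul_right_eq_zero).mp h5
  have d00 : A 0 0 * A 0 0 + A 0 1 * A 1 0 + A 0 0 + 1 = 0 := by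
    have := congrFun (congrFun hD 0) 0
    simp [Matrix.mul_apply, Fin.sum_univ_two] at this
    linear_combination this
  have d10 : A 1 0 * A 0 0 + A 1 1 * A 1 0 + A 1 0 = 0 := by
    have := congrFun (congrFun hD 1) 0
    simp [Matrix.mul_apply, Fin.sum_univ_two] at this
    linear_combination this
  let B : Mat m := !![1, A 0 0; 0, A 1 0]
  have hBu : IsUnit B := by
    rw [Matrix.isUnit_iff_isUnit_det, Matrix.det_fin_two_of]
    simpa using hu
  obtain ⟨Bu, hBu'⟩ := hBu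
  have hAB : A * B = B * mC m := by
    ext i j
    fin_cases i <;> fin_cases j <;> simp [B, mC, Matrix.mul_apply, Fin.sum_univ_two]
    · linear_combination d00
    · linear_combination d10
  refine ⟨Bu⁻¹, ?_⟩
  have hu3 : ρ * Bu = Bu * mCu m := by
    apply Units.ext
    change (ρ : Mat m) * (Bu : Mat m) = (Bu : Mat m) * mC m
    rw [hBu', ← hA]
    exact hAB
  calc Bu⁻¹ * ρ * Bu⁻¹⁻¹ = Bu⁻¹ * (ρ * Bu) := by group
    _ = Bu⁻¹ * (Bu * mCu m) := by rw [hu3]
    _ = mCu m := by group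

abbrev A4 := ↥(alternatingGroup (Fin 4))

def c0 : A4 := ⟨Equiv.swap 0 1 * Equiv.swap 1 2, by
  rw [Equiv.Perm.mem_alternatingGroup, map_mul, Equiv.Perm.sign_swap (by decide),
    Equiv.Perm.sign_swap (by decide)]
  decide⟩
def x0 : A4 := ⟨Equiv.swap 0 1 * Equiv.swap 2 3, by
  rw [Equiv.Perm.mem_alternatingGroup, map_mul, Equiv.Perm.sign_swap (by decide),
    Equiv.Perm.sign_swap (by decide)]
  decide⟩

theorem c0_3 : c0 ^ 3 = 1 := by decide +kernel
theorem c0_ne : c0 ≠ 1 := by decide +kernel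
theorem x0_2 : x0 * x0 = 1 := by decide +kernel
theorem x0_ne : x0 ≠ 1 := by decide +kernel
theorem a4_rel : x0 * (c0 * x0 * c0⁻¹) = c0⁻¹ * x0 * c0 := by decide +kernel
theorem a4_nf : ∀ y : A4, ∃ i : Fin 3, y = c0 ^ (i : ℕ) ∨ y = x0 * c0 ^ (i : ℕ) ∨
    y = (c0 * x0 * c0⁻¹) * c0 ^ (i : ℕ) ∨ y = (c0⁻¹ * x0 * c0) * c0 ^ (i : ℕ) := by decide +kernel

/-- The standard `A₄`. -/
def Std (m : ℕ) : Set (GLm m) :=
  {x | ∃ (v : Mat m) (i : ℕ), (v = 1 ∨ v = ma1 m ∨ v = ma2 m ∨ v = ma3 m) ∧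
    (x : Mat m) = v * mC m ^ i}

theorem conj_to_std (H : Subgroup (GLm m)) (φ : ↥H ≃* A4) :
    ∃ g : GLm m, ((H.map (MulAut.conj g).toMonoidHom : Subgroup (GLm m)) : Set (GLm m)) = Std m := by
  let χ : A4 →* GLm m := H.subtype.comp φ.symm.toMonoidHom
  have hχ : Function.Injective χ := H.subtype_injective.comp φ.symm.injective
  have hρ3 : χ c0 ^ 3 = 1 := by rw [← map_pow, c0_3, map_one]
  have hρ1 : χ c0 ≠ 1 := fun h => c0_ne (hχ (by rw [h, map_one]))
  obtain ⟨g, hg⟩ := exists_g (χ c0) hρ3 hρ1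
  let κ : A4 →* GLm m := (MulAut.conj g).toMonoidHom.comp χ
  have hκ : Function.Injective κ := (MulAut.conj g).injective.comp hχ
  have hκc : κ c0 = mCu m := hg
  obtain ⟨b, hb⟩ : ∃ b : GLm m, b = κ x0 := ⟨_, rfl⟩
  have hb1 : (b : Mat m) * (b : Mat m) = 1 := by
    have h5 : κ x0 * κ x0 = 1 := by rw [← map_mul, x0_2, map_one]
    rw [hb]
    exact congrArg Units.val h5
  have hW2 : ((κ (c0 * x0 * c0⁻¹) : GLm m) : Mat m) = mC m * (b : Mat m) * mC2 m := by
    rw [map_mul, map_mul, map_inv, hκc, ← hb]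
    rfl
  have hW3 : ((κ (c0⁻¹ * x0 * c0) : GLm m) : Mat m) = mC2 m * (b : Mat m) * mC m := by
    rw [map_mul, map_mul, map_inv, hκc, ← hb]
    rfl
  have hb2 : (b : Mat m) * (mC m * b * mC2 m) = mC2 m * b * mC m := by
    rw [← hW2, ← hW3, hb]
    have h5 := congrArg κ a4_rel
    rw [map_mul κ x0] at h5
    exact congrArg Units.val h5
  have hbne : (b : Mat m) ≠ 1 := by
    intro h5
    apply x0_ne
    apply hκ
    rw [map_one, ← hb]
    exact Units.ext h5
  have hbcase := solve_mat _ hb1 hb2 hbne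
  have hpow : ∀ i : ℕ, ((κ (c0 ^ i) : GLm m) : Mat m) = mC m ^ i := by
    intro i
    rw [map_pow, hκc, Units.val_pow_eq_pow_val]
    rfl
  have hfor : ∀ y : A4, κ y ∈ Std m := by
    intro y
    obtain ⟨i, hy⟩ := a4_nf y
    rcases hy with rfl | rfl | rfl | rfl
    · refine ⟨1, i, Or.inl rfl, ?_⟩
      rw [hpow, one_mul]
    · refine ⟨(b : Mat m), i, Or.inr hbcase, ?_⟩
      rw [map_mul, Units.val_mul, hpow, ← hb]
    · refine ⟨mC m * (b : Mat m) * mC2 m, i, ?_, ?_⟩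
      · rcases hbcase with h5 | h5 | h5 <;> rw [h5]
        · rw [cyc13]; simp
        · rw [cyc21]; simp
        · rw [cyc32]; simp
      · rw [map_mul, Units.val_mul, hpow, hW2]
    · refine ⟨mC2 m * (b : Mat m) * mC m, i, ?_, ?_⟩
      · rcases hbcase with h5 | h5 | h5 <;> rw [h5]
        · rw [cyc'12]; simp
        · rw [cyc'23]; simp
        · rw [cyc'31]; simp
      · rw [map_mul, Units.val_mul, hpow, hW3]
  have hb0 : ((κ x0 : GLm m) : Mat m) = (b : Mat m) := by rw [hb]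
  have hex : ∀ v : Mat m, (v = 1 ∨ v = ma1 m ∨ v = ma2 m ∨ v = ma3 m) →
      ∃ w : A4, ((κ w : GLm m) : Mat m) = v := by
    rintro v (rfl | rfl | rfl | rfl)
    · exact ⟨1, by rw [map_one]; rfl⟩
    · rcases hbcase with h5 | h5 | h5
      · exact ⟨x0, by rw [hb0, h5]⟩
      · exact ⟨c0 * x0 * c0⁻¹, by rw [hW2, h5, cyc21]⟩
      · exact ⟨c0⁻¹ * x0 * c0, by rw [hW3, h5, cyc'31]⟩
    · rcases hbcase with h5 | h5 | h5
      · exact ⟨c0⁻¹ * x0 * c0, by rw [hW3, h5, cyc'12]⟩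
      · exact ⟨x0, by rw [hb0, h5]⟩
      · exact ⟨c0 * x0 * c0⁻¹, by rw [hW2, h5, cyc32]⟩
    · rcases hbcase with h5 | h5 | h5
      · exact ⟨c0 * x0 * c0⁻¹, by rw [hW2, h5, cyc13]⟩
      · exact ⟨c0⁻¹ * x0 * c0, by rw [hW3, h5, cyc'23]⟩
      · exact ⟨x0, by rw [hb0, h5]⟩
  refine ⟨g, ?_⟩
  ext x
  constructor
  · rintro ⟨h, hh, rfl⟩
    have h5 : χ (φ ⟨h, hh⟩) = h := by
      change ((φ.symm (φ ⟨h, hh⟩) : ↥H) : GLm m) = h
      rw [MulEquiv.symm_apply_apply]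
    have h6 := hfor (φ ⟨h, hh⟩)
    have h7 : κ (φ ⟨h, hh⟩) = (MulAut.conj g).toMonoidHom h := by
      change (MulAut.conj g).toMonoidHom (χ (φ ⟨h, hh⟩)) = _
      rw [h5]
    rw [h7] at h6
    exact h6
  · rintro ⟨v, i, hv, hx⟩
    obtain ⟨w, hw⟩ := hex v hv
    have h5 : κ (w * c0 ^ i) = x := by
      apply Units.ext
      rw [map_mul, Units.val_mul, hpow, hw, hx]
    rw [← h5]
    exact ⟨χ (w * c0 ^ i), (φ.symm (w * c0 ^ i)).2, rfl⟩

theorem main (k : ℕ) (hk : 2 ≤ k) (H₁ H₂ : Subgroup (Matrix.GeneralLinearGroup (Fin 2) (ZMod (2 ^ k))))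
    (h₁ : Nonempty (↥H₁ ≃* ↥(alternatingGroup (Fin 4))))
    (h₂ : Nonempty (↥H₂ ≃* ↥(alternatingGroup (Fin 4)))) :
    ∃ g : Matrix.GeneralLinearGroup (Fin 2) (ZMod (2 ^ k)), H₂ = H₁.map (MulAut.conj g).toMonoidHom := by
  obtain ⟨m, rfl⟩ : ∃ m, k = m + 1 := ⟨k - 1, by omega⟩
  obtain ⟨φ₁⟩ := h₁
  obtain ⟨φ₂⟩ := h₂
  obtain ⟨g₁, hg₁⟩ := conj_to_std H₁ φ₁
  obtain ⟨g₂, hg₂⟩ := conj_to_std H₂ φ₂
  have hK : H₁.map (MulAut.conj g₁).toMonoidHom = H₂.map (MulAut.conj g₂).toMonoidHom :=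
    SetLike.coe_injective (hg₁.trans hg₂.symm)
  refine ⟨g₂⁻¹ * g₁, ?_⟩
  ext x
  constructor
  · intro hx
    have h5 : g₂ * x * g₂⁻¹ ∈ H₂.map (MulAut.conj g₂).toMonoidHom := ⟨x, hx, rfl⟩
    rw [← hK] at h5
    obtain ⟨h, hh, he⟩ := h5
    refine ⟨h, hh, ?_⟩
    have he' : g₁ * h * g₁⁻¹ = g₂ * x * g₂⁻¹ := he
    change (g₂⁻¹ * g₁) * h * (g₂⁻¹ * g₁)⁻¹ = x
    calc (g₂⁻¹ * g₁) * h * (g₂⁻¹ * g₁)⁻¹ = g₂⁻¹ * (g₁ * h * g₁⁻¹) * g₂ := by group
      _ = g₂⁻¹ * (g₂ * x * g₂⁻¹) * g₂ := by rw [he']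
      _ = x := by group
  · rintro ⟨h, hh, rfl⟩
    have h5 : g₁ * h * g₁⁻¹ ∈ H₁.map (MulAut.conj g₁).toMonoidHom := ⟨h, hh, rfl⟩
    rw [hK] at h5
    obtain ⟨h', hh', he⟩ := h5
    have he' : g₂ * h' * g₂⁻¹ = g₁ * h * g₁⁻¹ := he
    have h6 : (MulAut.conj (g₂⁻¹ * g₁)).toMonoidHom h = h' := by
      change (g₂⁻¹ * g₁) * h * (g₂⁻¹ * g₁)⁻¹ = h'
      calc (g₂⁻¹ * g₁) * h * (g₂⁻¹ * g₁)⁻¹ = g₂⁻¹ * (g₁ * h * g₁⁻¹) * g₂ := by group
        _ = g₂⁻¹ * (g₂ * h' * g₂⁻¹) * g₂ := by rw [he']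
        _ = h' := by group
    rw [h6]
    exact hh'

end CfsgLib.A4GL
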