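import Mathlib
import Cfsg.Agent.Lib.Solv.Nilp
import Cfsg.Agent.Lib.Solv.Core
import Cfsg.Agent.Lib.Char.Burnside

/-!
The group `x ↦ ζ^k x^{3^e} + v` of semilinear affine maps of `F₉` (order 144),
with `F₉ = F₃(i)` written as pairs and `ζ = 1 + i`.
-/

set_option autoImplicit false

namespace CfsgLib.AGL9

/-- Underlying type: `(k, e, a, b)`. -/
structure T where
  k : ZMod 8
  e : ZMod 2
  a : ZMod 3
  b : ZMod 3
  deriving DecidableEq

/-- Multiplication by `ζ = 1 + i`. -/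
def zeta (v : ZMod 3 × ZMod 3) : ZMod 3 × ZMod 3 := (v.1 - v.2, v.1 + v.2)

/-- The semilinear map `x ↦ ζ^k x^{3^e}`. -/
def lin (k : ZMod 8) (e : ZMod 2) (v : ZMod 3 × ZMod 3) : ZMod 3 × ZMod 3 :=
  zeta^[k.val] (if e = 0 then v else (v.1, -v.2))

/-- `3^e` modulo `8`. -/
def pw (e : ZMod 2) : ZMod 8 := if e = 0 then 1 else 3

theorem pw_add : ∀ e f : ZMod 2, pw (e + f) = pw e * pw f := by decide

theorem pw_mul_self : ∀ e : ZMod 2, pw e * pw e = 1 := by decide

theorem lin_comp : ∀ (k l : ZMod 8) (e f : ZMod 2) (v : ZMod 3 × ZMod 3),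
    lin k e (lin l f v) = lin (k + pw e * l) (e + f) v := by decide +kernel

theorem lin_add : ∀ (k : ZMod 8) (e : ZMod 2) (v w : ZMod 3 × ZMod 3),
    lin k e (v + w) = lin k e v + lin k e w := by decide +kernel

theorem lin_zero_zero : ∀ v : ZMod 3 × ZMod 3, lin 0 0 v = v := by decide +kernel

theorem lin_zero : ∀ (k : ZMod 8) (e : ZMod 2), lin k e 0 = 0 := by decide +kernel

instance : Mul T where
  mul x y :=
    let w := lin x.k x.e (y.a, y.b) + (x.a, x.b)
    ⟨x.k + pw x.e * y.k, x.e + y.e, w.1, w.2⟩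

instance : One T := ⟨⟨0, 0, 0, 0⟩⟩

instance : Inv T where
  inv x :=
    let k' := -(pw x.e * x.k)
    let w := -lin k' x.e (x.a, x.b)
    ⟨k', x.e, w.1, w.2⟩

theorem T.ext' {x y : T} (h1 : x.k = y.k) (h2 : x.e = y.e) (h3 : x.a = y.a) (h4 : x.b = y.b) :
    x = y := by
  cases x; cases y; simp_all

theorem mul_k (x y : T) : (x * y).k = x.k + pw x.e * y.k := rfl
theorem mul_e (x y : T) : (x * y).e = x.e + y.e := rfl
theorem mul_v (x y : T) : ((x * y).a, (x * y).b) = lin x.k x.e (y.a, y.b) + (x.a, x.b) := rfl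

theorem T.ext'' {x y : T} (h1 : x.k = y.k) (h2 : x.e = y.e) (h3 : (x.a, x.b) = (y.a, y.b)) :
    x = y := by
  have := Prod.ext_iff.1 h3
  exact T.ext' h1 h2 this.1 this.2

theorem mul_assoc' (x y z : T) : x * y * z = x * (y * z) := by
  apply T.ext''
  · rw [mul_k, mul_k, mul_e, mul_k, mul_k, pw_add]; ring
  · rw [mul_e, mul_e, mul_e, mul_e, add_assoc]
  · rw [mul_v, mul_v (x) (y * z), mul_v (y) z, mul_v, lin_add, lin_comp, mul_k, mul_e,
      add_assoc]

theorem one_mul' (x : T) : 1 * x = x := by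
  apply T.ext''
  · rw [mul_k]; show (0 : ZMod 8) + pw 0 * x.k = x.k
    simp [pw]
  · rw [mul_e]; show (0 : ZMod 2) + x.e = x.e
    simp
  · rw [mul_v]
    show lin 0 0 (x.a, x.b) + ((0 : ZMod 3), (0 : ZMod 3)) = (x.a, x.b)
    rw [lin_zero_zero]
    simp

theorem inv_k (x : T) : (x⁻¹).k = -(pw x.e * x.k) := rfl
theorem inv_e (x : T) : (x⁻¹).e = x.e := rfl
theorem inv_v (x : T) : ((x⁻¹).a, (x⁻¹).b) = -lin (-(pw x.e * x.k)) x.e (x.a, x.b) := rfl

theorem inv_mul' (x : T) : x⁻¹ * x = 1 := by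
  apply T.ext''
  · rw [mul_k, inv_k, inv_e]; show _ = (0 : ZMod 8); ring
  · rw [mul_e, inv_e]; show _ = (0 : ZMod 2)
    have : ∀ e : ZMod 2, e + e = 0 := by decide
    exact this _
  · rw [mul_v, inv_v, inv_k, inv_e]
    show _ = ((0 : ZMod 3), (0 : ZMod 3))
    exact add_neg_cancel _

instance : Group T := Group.ofLeftAxioms mul_assoc' one_mul' inv_mul'

/-- Enumerating `T`. -/
def toProd : T ≃ ZMod 8 × ZMod 2 × ZMod 3 × ZMod 3 where
  toFun x := (x.k, x.e, x.a, x.b)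
  invFun p := ⟨p.1, p.2.1, p.2.2.1, p.2.2.2⟩
  left_inv _ := rfl
  right_inv _ := rfl

instance : Fintype T := Fintype.ofEquiv _ toProd.symm

theorem card_T : Nat.card T = 144 := by
  rw [Nat.card_congr toProd]
  simp [Nat.card_prod]

/-- The field automorphism. -/
def tau : T := ⟨0, 1, 0, 0⟩

theorem tau_sq : tau * tau = 1 := by decide

theorem tau_ne : tau ≠ 1 := by decide

/-- The translation by `i`. -/
def transl : T := ⟨0, 0, 0, 1⟩

theorem main_decide : ∀ c : T, ∃ x : T, ((x * c * x⁻¹).a = 0 ∧ (x * c * x⁻¹).b = 0) ∨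
    (x * c * x⁻¹) * tau = tau * (x * c * x⁻¹) := by
  decide +kernel

theorem p_sub : ∀ c : T, (c.a = 0 ∧ c.b = 0) → c ^ 16 = 1 := by
  decide +kernel

theorem transl_conj : (tau * (transl * tau * transl⁻¹)) ^ 3 = 1 := by decide +kernel

theorem transl_conj_ne : tau * (transl * tau * transl⁻¹) ≠ 1 := by decide +kernel

/-- The subgroup of elements fixing `0`. -/
def P : Subgroup T where
  carrier := {c | c.a = 0 ∧ c.b = 0}
  mul_mem' := by
    have h : ∀ x y : T, (x.a = 0 ∧ x.b = 0) → (y.a = 0 ∧ y.b = 0) →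
        ((x * y).a = 0 ∧ (x * y).b = 0) := by decide +kernel
    exact fun {x y} hx hy => h x y hx hy
  one_mem' := by
    show (1 : T).a = 0 ∧ (1 : T).b = 0
    exact ⟨rfl, rfl⟩
  inv_mem' := by
    have h : ∀ x : T, (x.a = 0 ∧ x.b = 0) → ((x⁻¹).a = 0 ∧ (x⁻¹).b = 0) := by decide +kernel
    exact fun {x} hx => h x hx

theorem isPGroup_P : IsPGroup 2 P := by
  intro y
  refine ⟨4, ?_⟩
  apply Subtype.ext
  simpa using p_sub y.1 y.2

end CfsgLib.AGL9
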