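import Mathlib
import Cfsg.Prelude.Def_Local
import Cfsg.Agent.Lib.H3.Comp2
import Cfsg.Agent.Lib.H3.ConjTools

/-! Conjugating components of subgroups; standard subgroups. -/

set_option autoImplicit false

namespace CfsgLib.Std

open Subgroup CfsgLib.Comp CfsgLib.CT

variable {G : Type*} [Group G]

/-- The conjugate of a component of `A` is a component of the conjugate of `A`. -/
lemma comp_conj {A L : Subgroup G} (hLA : L ≤ A) (h : Cfsg.IsComponent (L.subgroupOf A)) (g : G) :
    L.map (MulAut.conj g).toMonoidHom ≤ A.map (MulAut.conj g).toMonoidHom ∧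
      Cfsg.IsComponent ((L.map (MulAut.conj g).toMonoidHom).subgroupOf
        (A.map (MulAut.conj g).toMonoidHom)) := by
  refine ⟨Subgroup.map_mono hLA, ?_⟩
  let e : A ≃* A.map (MulAut.conj g).toMonoidHom :=
    A.equivMapOfInjective _ (MulAut.conj g).injective
  have h1 := component_map_equiv h e
  have h2 : (L.subgroupOf A).map e.toMonoidHom =
      (L.map (MulAut.conj g).toMonoidHom).subgroupOf (A.map (MulAut.conj g).toMonoidHom) := by
    ext ⟨y, hy⟩
    constructor
    · rintro ⟨⟨a, ha⟩, ha', hae⟩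
      rw [Subgroup.mem_subgroupOf]
      have : (MulAut.conj g).toMonoidHom a = y := congrArg Subtype.val hae
      change y ∈ _
      rw [← this]
      exact Subgroup.mem_map_of_mem _ (Subgroup.mem_subgroupOf.1 ha')
    · intro hy'
      rw [Subgroup.mem_subgroupOf] at hy'
      obtain ⟨l, hl, hly⟩ := hy'
      refine ⟨⟨l, hLA hl⟩, Subgroup.mem_subgroupOf.2 hl, ?_⟩
      exact Subtype.ext hly
  rw [← h2]
  exact h1

/-- Two components of `A` coincide or commute. -/
lemma comp_eq_or_comm {A L K : Subgroup G} (hL : L ≤ A) (hK : K ≤ A)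
    (h1 : Cfsg.IsComponent (L.subgroupOf A)) (h2 : Cfsg.IsComponent (K.subgroupOf A)) :
    L = K ∨ ⁅L, K⁆ = ⊥ := by
  by_cases he : L.subgroupOf A = K.subgroupOf A
  · left
    have h3 := congrArg (Subgroup.map A.subtype) he
    rwa [Subgroup.subgroupOf_map_subtype, Subgroup.subgroupOf_map_subtype,
      inf_eq_left.2 hL, inf_eq_left.2 hK] at h3
  · right
    have h3 := comm_bot_iff.1 (components_commute h1 h2 he)
    apply comm_bot_iff.2
    intro a ha b hb
    have := h3 ⟨a, hL ha⟩ (Subgroup.mem_subgroupOf.2 ha) ⟨b, hK hb⟩ (Subgroup.mem_subgroupOf.2 hb)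
    exact congrArg Subtype.val this

lemma map_conj_centralizer (S : Subgroup G) (g : G) :
    (Subgroup.centralizer (S : Set G)).map (MulAut.conj g).toMonoidHom =
      Subgroup.centralizer ((S.map (MulAut.conj g).toMonoidHom : Subgroup G) : Set G) := by
  ext y
  rw [mem_map_conj', Subgroup.mem_centralizer_iff, Subgroup.mem_centralizer_iff]
  constructor
  · intro h s hs
    obtain ⟨s', hs', rfl⟩ := hs
    have := h s' hs'
    simp only [MulEquiv.coe_toMonoidHom, MulAut.conj_apply]
    have h2 : y = g * (g⁻¹ * y * g) * g⁻¹ := by group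
    rw [h2]
    calc g * s' * g⁻¹ * (g * (g⁻¹ * y * g) * g⁻¹) = g * (s' * (g⁻¹ * y * g)) * g⁻¹ := by group
      _ = g * ((g⁻¹ * y * g) * s') * g⁻¹ := by rw [this]
      _ = _ := by group
  · intro h s hs
    have h3 := h (g * s * g⁻¹) (conj_mem_map hs)
    calc s * (g⁻¹ * y * g) = g⁻¹ * ((g * s * g⁻¹) * y) * g := by group
      _ = g⁻¹ * (y * (g * s * g⁻¹)) * g := by rw [h3]
      _ = _ := by group

lemma map_conj_centralizer_singleton (x g : G) :
    (Subgroup.centralizer ({x} : Set G)).map (MulAut.conj g).toMonoidHom =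
      Subgroup.centralizer ({g * x * g⁻¹} : Set G) := by
  ext y
  rw [mem_map_conj', Subgroup.mem_centralizer_singleton_iff, Subgroup.mem_centralizer_singleton_iff]
  constructor
  · intro h
    have h2 : y = g * (g⁻¹ * y * g) * g⁻¹ := by group
    rw [h2]
    calc g * (g⁻¹ * y * g) * g⁻¹ * (g * x * g⁻¹) = g * ((g⁻¹ * y * g) * x) * g⁻¹ := by group
      _ = g * (x * (g⁻¹ * y * g)) * g⁻¹ := by rw [h]
      _ = _ := by group
  · intro h
    calc g⁻¹ * y * g * x = g⁻¹ * (y * (g * x * g⁻¹)) * g := by group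
      _ = g⁻¹ * ((g * x * g⁻¹) * y) * g := by rw [h]
      _ = _ := by group

end CfsgLib.Std
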