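import Mathlib
import Cfsg.Agent.Lib.H3.Comp4
import Cfsg.Agent.Lib.H3.Standard
import Cfsg.Agent.Lib.Solv.Core
import Cfsg.Agent.Lib.Solv.CoprimeSylow
import Cfsg.Agent.Lib.H3.TransferTools

/-! Bender's theorem on pairs of maximal subgroups. -/

set_option autoImplicit false

namespace CfsgLib.BMax

open Subgroup CfsgLib.Comp CfsgLib.CT

variable {G : Type*} [Group G]

lemma sub1 {S C A : Subgroup G} (hCA : C ≤ A)
    (h : (S.subgroupOf A).IsSubnormal) : (S.subgroupOf C).IsSubnormal := by
  exact h.comap (Subgroup.inclusion hCA)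

lemma sub2 {S C A : Subgroup G} (hSC : S ≤ C) (hCA : C ≤ A)
    (h1 : (C.subgroupOf A).IsSubnormal) (h2 : (S.subgroupOf C).IsSubnormal) :
    (S.subgroupOf A).IsSubnormal := by
  let e : C ≃* C.subgroupOf A := (Subgroup.subgroupOfEquivOfLe hCA).symm
  have h3 := (h2.map (f := e.toMonoidHom) e.surjective).trans' h1
  convert h3 using 1
  ext ⟨x, hx⟩
  constructor
  · intro hxS
    have hxS' : x ∈ S := Subgroup.mem_subgroupOf.1 hxS
    refine ⟨⟨⟨x, hx⟩, Subgroup.mem_subgroupOf.2 (hSC hxS')⟩, ?_, rfl⟩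
    refine ⟨⟨x, hSC hxS'⟩, Subgroup.mem_subgroupOf.2 hxS', ?_⟩
    apply Subtype.ext
    apply Subtype.ext
    rfl
  · rintro ⟨⟨⟨y, hy⟩, hy2⟩, ⟨⟨z, hz⟩, hz1, hz2⟩, hy3⟩
    have h4 : y = x := congrArg Subtype.val hy3
    have h5 : z = y := by
      have := congrArg Subtype.val hz2
      exact congrArg Subtype.val this
    rw [Subgroup.mem_subgroupOf]
    change x ∈ S
    rw [← h4, ← h5]
    exact Subgroup.mem_subgroupOf.1 hz1

/-- `M ⊔ N = ⊤` for distinct coatoms. -/
lemma coatoms_sup {M N : Subgroup G} (hM : IsCoatom M) (hN : IsCoatom N) (hMN : M ≠ N) :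
    M ⊔ N = ⊤ := by
  by_contra h
  have h1 : M = M ⊔ N := by
    by_contra h2
    exact h (hM.2 _ (lt_of_le_of_ne le_sup_left h2))
  have h1' : N ≤ M := by rw [h1]; exact le_sup_right
  rcases eq_or_lt_of_le h1' with h3 | h3
  · exact hMN h3.symm
  · exact hM.1 (hN.2 _ h3)

lemma normal_of_le {X M N : Subgroup G} (hM : M ≤ normalizer (X : Set G))
    (hN : N ≤ normalizer (X : Set G)) (h : M ⊔ N = ⊤) : X.Normal := by
  rw [← Subgroup.normalizer_eq_top_iff, eq_top_iff, ← h]
  exact sup_le hM hN

/-- In a simple group a subgroup normalized by a coatom and nontrivial has its centralizer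
inside the coatom. -/
lemma centralizer_le_coatom [IsSimpleGroup G] {S M : Subgroup G} (hM : IsCoatom M) (hSM : S ≤ M)
    (hMS : M ≤ normalizer (S : Set G)) (hS : S ≠ ⊥) : centralizer (S : Set G) ≤ M := by
  have h1 : normalizer (S : Set G) ≠ ⊤ := by
    intro h2
    have h3 : S.Normal := Subgroup.normalizer_eq_top_iff.1 h2
    rcases h3.eq_bot_or_eq_top with h4 | h4
    · exact hS h4
    · apply hM.1
      exact top_le_iff.1 (h4 ▸ hSM)
  have h2 : normalizer (S : Set G) = M := by
    by_contra h3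
    exact h1 (hM.2 _ (lt_of_le_of_ne hMS (Ne.symm h3)))
  rw [← h2]
  exact Subgroup.centralizer_le_normalizer _

lemma normalizer_centralizer {S : Subgroup G} {g : G} (hg : g ∈ normalizer (S : Set G)) :
    g ∈ normalizer (centralizer (S : Set G) : Set G) := by
  rw [← CfsgLib.CT.map_conj_eq_iff, CfsgLib.Std.map_conj_centralizer, CfsgLib.CT.map_conj_eq_iff.2 hg]

lemma map_subtype_normalized {M : Subgroup G} (X : Subgroup M) [hX : X.Normal] :
    M ≤ normalizer ((X.map M.subtype : Subgroup G) : Set G) := by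
  intro m hm
  have h1 : (⟨m, hm⟩ : M) ∈ normalizer (X : Set M) := by
    rw [Subgroup.normalizer_eq_top_iff.2 hX]
    trivial
  exact Subgroup.le_normalizer_map M.subtype ⟨⟨m, hm⟩, h1, rfl⟩

/-- Subgroups normalizing each other with trivial intersection commute. -/
lemma cross {X Y : Subgroup G} (hXY : X ≤ normalizer (Y : Set G)) (hYX : Y ≤ normalizer (X : Set G))
    (h : X ⊓ Y = ⊥) {x y : G} (hx : x ∈ X) (hy : y ∈ Y) : x * y = y * x := by
  have h1 : x * y * x⁻¹ * y⁻¹ ∈ X := by
    have h2 := conj_mem_of_mem_normalizer (hYX hy) (X.inv_mem hx)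
    have : x * y * x⁻¹ * y⁻¹ = x * (y * x⁻¹ * y⁻¹) := by group
    rw [this]
    exact X.mul_mem hx h2
  have h2 : x * y * x⁻¹ * y⁻¹ ∈ Y := by
    have h2 := conj_mem_of_mem_normalizer (hXY hx) hy
    exact Y.mul_mem h2 (Y.inv_mem hy)
  have h3 : x * y * x⁻¹ * y⁻¹ ∈ X ⊓ Y := ⟨h1, h2⟩
  rw [h, Subgroup.mem_bot] at h3
  calc x * y = (x * y * x⁻¹ * y⁻¹) * (y * x) := by group
    _ = y * x := by rw [h3, one_mul]

section Comp

variable [Finite G]

/-- Components transfer between two subgroups containing each other's generalized Fitting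
subgroups. -/
lemma comp_transfer {M N : Subgroup G} (h1 : (Cfsg.generalizedFittingSubgroup M).map M.subtype ≤ N)
    (h2 : (Cfsg.generalizedFittingSubgroup N).map N.subtype ≤ M) {K : Subgroup M}
    (hK : Cfsg.IsComponent K) : K.map M.subtype ≤ N ∧
      Cfsg.IsComponent ((K.map M.subtype).subgroupOf N) := by
  obtain ⟨H, hHdef⟩ : ∃ H, H = (Cfsg.generalizedFittingSubgroup N).map N.subtype := ⟨_, rfl⟩
  rw [← hHdef] at h2
  have hKH0 : K ≤ Cfsg.generalizedFittingSubgroup M :=
    (comp_le_layer hK).trans le_sup_left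
  have hKN : K.map M.subtype ≤ N := (Subgroup.map_mono hKH0).trans h1
  have hHN : H ≤ N := by rw [hHdef]; exact Subgroup.map_subtype_le _
  have hHsub : H.subgroupOf N = Cfsg.generalizedFittingSubgroup N := by
    rw [hHdef]
    exact Subgroup.comap_map_eq_self_of_injective N.subtype_injective _
  have hHn : (H.subgroupOf N).Normal := by
    rw [hHsub]
    infer_instance
  have hHnorm : N ≤ normalizer (H : Set G) := by
    rwa [← Subgroup.normal_subgroupOf_iff_le_normalizer hHN]
  -- the subgroup of `M` induced by `H`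
  have hnorm : K ≤ normalizer ((H.subgroupOf M : Subgroup M) : Set M) := by
    intro k hk
    rw [Subgroup.mem_normalizer_iff]
    intro x
    have h3 : (k : G) ∈ normalizer (H : Set G) := hHnorm (hKN (Subgroup.mem_map_of_mem _ hk))
    rw [Subgroup.mem_subgroupOf, Subgroup.mem_subgroupOf]
    exact (Subgroup.mem_normalizer_iff.1 h3 x)
  have hKH : K.map M.subtype ≤ H := by
    rcases le_or_commute_of_normalized hK hnorm le_normalizer le_rfl with h3 | h3
    · rw [Subgroup.map_le_iff_le_comap]
      exact h3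
    · -- centralizes
      rw [hHdef]
      rintro _ ⟨k, hk, rfl⟩
      have hkN : (k : G) ∈ N := hKN (Subgroup.mem_map_of_mem _ hk)
      have h4 : (⟨(k : G), hkN⟩ : N) ∈ centralizer
          ((Cfsg.generalizedFittingSubgroup N : Subgroup N) : Set N) := by
        rw [Subgroup.mem_centralizer_iff]
        intro y hy
        have hyH : (y : G) ∈ H := by
          rw [hHdef]
          exact Subgroup.mem_map_of_mem _ hy
        have := comm_bot_iff.1 h3 k hk ⟨y, h2 hyH⟩ (Subgroup.mem_subgroupOf.2 hyH)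
        apply Subtype.ext
        exact (congrArg Subtype.val this).symm
      exact ⟨_, gfit_self_centralizing h4, rfl⟩
  refine ⟨hKN, ?_, ?_⟩
  · have h5 : ((K.map M.subtype).subgroupOf M).IsSubnormal := by
      have : (K.map M.subtype).subgroupOf M = K :=
        Subgroup.comap_map_eq_self_of_injective M.subtype_injective K
      rw [this]
      exact hK.1
    exact sub2 hKH hHN hHn.isSubnormal (sub1 h2 h5)
  · exact (quasi_subgroupOf_iff hKN).2
      (quasi_of_mulEquiv (K.equivMapOfInjective M.subtype M.subtype_injective) hK.2)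

lemma layer_map_le {M N : Subgroup G} (h1 : (Cfsg.generalizedFittingSubgroup M).map M.subtype ≤ N)
    (h2 : (Cfsg.generalizedFittingSubgroup N).map N.subtype ≤ M) :
    (Cfsg.layer M).map M.subtype ≤ (Cfsg.layer N).map N.subtype := by
  rw [Subgroup.map_le_iff_le_comap]
  refine sSup_le ?_
  intro K hK
  rw [← Subgroup.map_le_iff_le_comap]
  obtain ⟨h3, h4⟩ := comp_transfer h1 h2 hK
  have h5 := Subgroup.map_mono (f := N.subtype) (comp_le_layer h4)
  rwa [Subgroup.subgroupOf_map_subtype, inf_eq_left.2 h3] at h5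

lemma layer_eq_bot [IsSimpleGroup G] {M N : Subgroup G} (hM : IsCoatom M) (hN : IsCoatom N)
    (hMN : M ≠ N) (h1 : (Cfsg.generalizedFittingSubgroup M).map M.subtype ≤ N)
    (h2 : (Cfsg.generalizedFittingSubgroup N).map N.subtype ≤ M) :
    Cfsg.layer M = ⊥ := by
  have he : (Cfsg.layer M).map M.subtype = (Cfsg.layer N).map N.subtype :=
    le_antisymm (layer_map_le h1 h2) (layer_map_le h2 h1)
  have hn : ((Cfsg.layer M).map M.subtype).Normal := by
    apply normal_of_le (M := M) (N := N) _ _ (coatoms_sup hM hN hMN)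
    · exact map_subtype_normalized _
    · rw [he]
      exact map_subtype_normalized _
  rcases hn.eq_bot_or_eq_top with h3 | h3
  · exact (Subgroup.map_eq_bot_iff_of_injective _ M.subtype_injective).1 h3
  · exfalso
    apply hM.1
    rw [eq_top_iff, ← h3]
    exact Subgroup.map_subtype_le _

end Comp

section Abstract

variable [Finite G]

/-- The abstract heart of Bender's argument: the `q'`-elements of `C(A_q)` centralize `B_q`. -/
lemma key_commute {q : ℕ} [Fact q.Prime] {M Aq At Bq : Subgroup G}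
    (hAq : IsPGroup q Aq) (hAt : (Nat.card At).Coprime q)
    (hAc : ∀ a ∈ Aq, ∀ t ∈ At, a * t = t * a)
    (hM1 : M ≤ normalizer (Aq : Set G)) (hM2 : M ≤ normalizer (At : Set G))
    (hC1 : centralizer (Aq : Set G) ≤ M)
    (hself : ∀ y ∈ M, y ∈ centralizer (Aq : Set G) → y ∈ centralizer (At : Set G) → y ∈ Aq ⊔ At)
    (hBq : IsPGroup q Bq) (hBM : Bq ≤ M) (hBc : Bq ≤ centralizer (At : Set G))
    {y b : G} (hy : y ∈ centralizer (Aq : Set G)) (hyq : (orderOf y).Coprime q) (hb : b ∈ Bq) :
    y * b = b * y := by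
  have hyM := hC1 hy
  have hbM := hBM hb
  have hbA := hBc hb
  -- the commutator
  obtain ⟨c, hc⟩ : ∃ c, c = y * b * y⁻¹ * b⁻¹ := ⟨_, rfl⟩
  have hc1 : c ∈ centralizer (Aq : Set G) := by
    have h1 : b * y⁻¹ * b⁻¹ ∈ centralizer (Aq : Set G) :=
      conj_mem_of_mem_normalizer (normalizer_centralizer (hM1 hbM)) (Subgroup.inv_mem _ hy)
    have h2 : c = y * (b * y⁻¹ * b⁻¹) := by rw [hc]; group
    rw [h2]
    exact Subgroup.mul_mem _ hy h1
  have hc2 : c ∈ centralizer (At : Set G) := by
    have h1 : y * b * y⁻¹ ∈ centralizer (At : Set G) :=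
      conj_mem_of_mem_normalizer (normalizer_centralizer (hM2 hyM)) hbA
    rw [hc]
    exact Subgroup.mul_mem _ h1 (Subgroup.inv_mem _ hbA)
  have hcM : c ∈ M := hC1 hc1
  obtain ⟨a, ha, t, ht, hcat⟩ := mem_sup_of_commute hAc (hself c hcM hc1 hc2)
  -- `y b y⁻¹ = a * t * b`
  have hbb : y * b * y⁻¹ = a * t * b := by
    rw [← hcat, hc]; group
  have htb : t * b = b * t := by
    exact Subgroup.mem_centralizer_iff.1 hbA t ht
  have hab : IsPGroup q ((Aq ⊔ Bq : Subgroup G)) := by
    rw [sup_comm]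
    exact CfsgLib.Solv.isPGroup_sup_of_le_normalizer hBq hAq (hBM.trans hM1)
  have hb' : a * b ∈ Aq ⊔ Bq := Subgroup.mul_mem _ (Subgroup.mem_sup_left ha) (Subgroup.mem_sup_right hb)
  obtain ⟨k, hk⟩ := pow_eq_one_of_mem_pgroup hab hb'
  obtain ⟨m, hm⟩ := pow_eq_one_of_mem_pgroup hBq hb
  have hcomm : Commute t (a * b) := by
    have h1 : t * a = a * t := (hAc a ha t ht).symm
    change t * (a * b) = (a * b) * t
    rw [← mul_assoc, h1, mul_assoc, htb, mul_assoc]
  have hbb2 : y * b * y⁻¹ = t * (a * b) := by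
    rw [hbb, ← mul_assoc, (hAc a ha t ht).symm]
  have hpow : t ^ q ^ (k + m) = 1 := by
    have h1 : (y * b * y⁻¹) ^ q ^ (k + m) = 1 := by
      rw [conj_pow, pow_add, mul_comm, pow_mul, hm, one_pow]
      simp
    have h2 : (a * b) ^ q ^ (k + m) = 1 := by rw [pow_add, pow_mul, hk, one_pow]
    rw [hbb2, hcomm.mul_pow, h2, mul_one] at h1
    exact h1
  have ht1 : t = 1 := by
    have h1 : t ^ Nat.card At = 1 := by
      have := pow_card_eq_one' (x := (⟨t, ht⟩ : At))
      exact congrArg Subtype.val this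
    exact CfsgLib.Tr.eq_one_of_pow_eq_one_of_coprime h1 hpow (hAt.pow_right (k + m))
  subst ht1
  -- now `a` is centralized by `y`
  have hya : y * a = a * y := (Subgroup.mem_centralizer_iff.1 hy a ha).symm
  have hbb3 : y * b * y⁻¹ = a * b := by simpa using hbb
  have hind : ∀ n : ℕ, y ^ n * b * (y ^ n)⁻¹ = a ^ n * b := by
    intro n
    induction n with
    | zero => simp
    | succ n ih =>
      have hcomm2 : Commute y (a ^ n) := Commute.pow_right hya n
      calc y ^ (n + 1) * b * (y ^ (n + 1))⁻¹ = y * (y ^ n * b * (y ^ n)⁻¹) * y⁻¹ := by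
            rw [pow_succ']; group
        _ = y * (a ^ n * b) * y⁻¹ := by rw [ih]
        _ = (a ^ n) * (y * b * y⁻¹) := by
            rw [← mul_assoc y, hcomm2.eq]; group
        _ = a ^ n * (a * b) := by rw [hbb3]
        _ = a ^ (n + 1) * b := by rw [pow_succ]; group
  have h5 := hind (orderOf y)
  rw [pow_orderOf_eq_one] at h5
  simp only [one_mul, inv_one, mul_one] at h5
  have h6 : a ^ orderOf y = 1 := by
    exact (mul_eq_right.1 h5.symm)
  obtain ⟨j, hj⟩ := pow_eq_one_of_mem_pgroup hAq ha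
  have ha1 : a = 1 := CfsgLib.Tr.eq_one_of_pow_eq_one_of_coprime h6 hj (hyq.pow_right j)
  subst ha1
  simp only [one_mul] at hbb3
  calc y * b = (y * b * y⁻¹) * y := by group
    _ = b * y := by rw [hbb3]

/-- The abstract contradiction. -/
lemma no_prime_part [IsSimpleGroup G] {q : ℕ} [Fact q.Prime] {M N Aq At Bq Bt : Subgroup G}
    (hM : IsCoatom M) (hN : IsCoatom N) (hMN : M ≠ N)
    (hAq : IsPGroup q Aq) (hAt : (Nat.card At).Coprime q)
    (hBq : IsPGroup q Bq) (hBt : (Nat.card Bt).Coprime q)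
    (hAc : ∀ a ∈ Aq, ∀ t ∈ At, a * t = t * a)
    (hBc : ∀ a ∈ Bq, ∀ t ∈ Bt, a * t = t * a)
    (hM1 : M ≤ normalizer (Aq : Set G)) (hM2 : M ≤ normalizer (At : Set G))
    (hN1 : N ≤ normalizer (Bq : Set G)) (hN2 : N ≤ normalizer (Bt : Set G))
    (hAqM : Aq ≤ M) (hAtM : At ≤ M) (hBqN : Bq ≤ N) (hBtN : Bt ≤ N)
    (hAqN : Aq ≤ N) (hBqM : Bq ≤ M) (hAtN : At ≤ N) (hBtM : Bt ≤ M)
    (hselfM : ∀ y ∈ M, y ∈ centralizer (Aq : Set G) → y ∈ centralizer (At : Set G) → y ∈ Aq ⊔ At)
    (hselfN : ∀ y ∈ N, y ∈ centralizer (Bq : Set G) → y ∈ centralizer (Bt : Set G) → y ∈ Bq ⊔ Bt)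
    (hAq0 : Aq ≠ ⊥) (hBq0 : Bq ≠ ⊥) : At = ⊥ := by
  by_contra hAt0
  have hCA1 := centralizer_le_coatom hM hAqM hM1 hAq0
  have hCB1 := centralizer_le_coatom hN hBqN hN1 hBq0
  -- crossing
  have hinf1 : At ⊓ Bq = ⊥ := inf_bot_of_coprime hAt hBq
  have hinf2 : Bt ⊓ Aq = ⊥ := inf_bot_of_coprime hBt hAq
  have hcr1 : Bq ≤ centralizer (At : Set G) := by
    intro b hb
    rw [Subgroup.mem_centralizer_iff]
    intro t ht
    exact cross (hAtN.trans hN1) (hBqM.trans hM2) hinf1 ht hb
  have hS1 : ∀ y ∈ centralizer (Aq : Set G), (orderOf y).Coprime q → y ∈ centralizer (Bq : Set G) := by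
    intro y hy hyq
    rw [Subgroup.mem_centralizer_iff]
    intro b hb
    exact (key_commute hAq hAt hAc hM1 hM2 hCA1 hselfM hBq hBqM hcr1 hy hyq hb).symm
  -- `S₁` the set of `q'`-elements of `C(A_q)`
  have hfinal : ∀ J : Subgroup G, J.Normal → J ≤ M → (∀ t ∈ At, t ∈ J) → False := by
    intro J hJ hJM hJt
    rcases hJ.eq_bot_or_eq_top with h1 | h1
    · apply hAt0
      rw [eq_bot_iff]
      intro t ht
      have := hJt t ht
      rwa [h1] at this
    · apply hM.1
      rw [eq_top_iff, ← h1]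
      exact hJM
  have hmemAt : ∀ t ∈ At, t ∈ centralizer (Aq : Set G) ∧ (orderOf t).Coprime q := by
    intro t ht
    constructor
    · rw [Subgroup.mem_centralizer_iff]
      intro a ha
      exact hAc a ha t ht
    · have h1 : orderOf t ∣ Nat.card At := by
        have := Subgroup.orderOf_dvd_natCard At ht
        exact this
      exact Nat.Coprime.coprime_dvd_left h1 hAt
  by_cases hBt0 : Bt = ⊥
  · -- `B` is a `q`-group
    have h1 : ∀ y ∈ centralizer (Aq : Set G), (orderOf y).Coprime q → y = 1 := by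
      intro y hy hyq
      have h2 := hS1 y hy hyq
      have h3 : y ∈ Bq ⊔ Bt := by
        apply hselfN y (hCB1 h2) h2
        rw [hBt0, Subgroup.mem_centralizer_iff]
        intro z hz
        have hz' : z ∈ (⊥ : Subgroup G) := hz
        rw [Subgroup.mem_bot] at hz'
        rw [hz']
        simp
      rw [hBt0, sup_bot_eq] at h3
      obtain ⟨k, hk⟩ := pow_eq_one_of_mem_pgroup hBq h3
      exact CfsgLib.Tr.eq_one_of_pow_eq_one_of_coprime (pow_orderOf_eq_one y) hk (hyq.pow_right k)
    apply hAt0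
    rw [eq_bot_iff]
    intro t ht
    obtain ⟨h2, h3⟩ := hmemAt t ht
    exact h1 t h2 h3
  · -- symmetric
    have hCA2 := centralizer_le_coatom hN hBtN hN2 hBt0
    have hcr2 : Aq ≤ centralizer (Bt : Set G) := by
      intro b hb
      rw [Subgroup.mem_centralizer_iff]
      intro t ht
      exact cross (hBtM.trans hM1) (hAqN.trans hN2) hinf2 ht hb
    have hS2 : ∀ y ∈ centralizer (Bq : Set G), (orderOf y).Coprime q → y ∈ centralizer (Aq : Set G) := by
      intro y hy hyq
      rw [Subgroup.mem_centralizer_iff]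
      intro b hb
      exact (key_commute hBq hBt hBc hN1 hN2 hCB1 hselfN hAq hAqN hcr2 hy hyq hb).symm
    -- the subgroup generated
    obtain ⟨J, hJdef⟩ : ∃ J : Subgroup G, J = Subgroup.closure
        {y | y ∈ centralizer (Aq : Set G) ∧ (orderOf y).Coprime q} := ⟨_, rfl⟩
    have hJ2 : J = Subgroup.closure {y | y ∈ centralizer (Bq : Set G) ∧ (orderOf y).Coprime q} := by
      rw [hJdef]
      congr 1
      ext y
      exact ⟨fun h => ⟨hS1 y h.1 h.2, h.2⟩, fun h => ⟨hS2 y h.1 h.2, h.2⟩⟩
    have hnormgen : ∀ (C : Subgroup G) (K : Subgroup G), K ≤ normalizer (C : Set G) →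
        K ≤ normalizer ((Subgroup.closure {y | y ∈ C ∧ (orderOf y).Coprime q} : Subgroup G) : Set G) := by
      intro C K hK k hk
      apply mem_normalizer_of_conj_le
      intro a ha
      have h1 : Subgroup.closure {y | y ∈ C ∧ (orderOf y).Coprime q} ≤
          (Subgroup.closure {y | y ∈ C ∧ (orderOf y).Coprime q}).comap (MulAut.conj k).toMonoidHom := by
        rw [Subgroup.closure_le]
        rintro y ⟨hy1, hy2⟩
        apply Subgroup.subset_closure
        refine ⟨?_, ?_⟩
        · exact conj_mem_of_mem_normalizer (hK hk) hy1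
        · have : orderOf ((MulAut.conj k).toMonoidHom y) = orderOf y :=
            MulEquiv.orderOf_eq (MulAut.conj k) y
          rw [this]
          exact hy2
      exact h1 ha
    have hJn : J.Normal := by
      apply normal_of_le (M := M) (N := N) _ _ (coatoms_sup hM hN hMN)
      · rw [hJdef]
        apply hnormgen
        intro m hm
        exact normalizer_centralizer (hM1 hm)
      · rw [hJ2]
        apply hnormgen
        intro m hm
        exact normalizer_centralizer (hN1 hm)
    refine hfinal J hJn ?_ ?_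
    · rw [hJdef, Subgroup.closure_le]
      rintro y ⟨hy1, -⟩
      exact hCA1 hy1
    · intro t ht
      rw [hJdef]
      exact Subgroup.subset_closure (hmemAt t ht)

end Abstract

section Concrete

variable [Finite G]

lemma fit_decomp {X : Type*} [Group X] [Finite X] (q : ℕ) [Fact q.Prime] :
    Cfsg.fittingSubgroup X =
      Cfsg.pCore q X ⊔ (Cfsg.fittingSubgroup X ⊓ Cfsg.pPrimeCore q X) := by
  have hle : ∀ p : ℕ, p.Prime → Cfsg.pCore p X ≤ Cfsg.fittingSubgroup X := by
    intro p hp
    haveI : Fact p.Prime := ⟨hp⟩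
    exact CfsgLib.Solv.le_fittingSubgroup' _ (CfsgLib.Solv.pCore_isPGroup p).isNilpotent
  apply le_antisymm
  · calc Cfsg.fittingSubgroup X = ⨆ p : Nat.Primes, Cfsg.pCore (p : ℕ) X :=
          CfsgLib.Solv.fitting_eq_iSup_pCore
      _ ≤ _ := by
          apply iSup_le
          rintro ⟨p, hp⟩
          haveI : Fact p.Prime := ⟨hp⟩
          by_cases hpq : p = q
          · subst hpq
            exact le_sup_left
          · exact le_sup_of_le_right (le_inf (hle p hp) (CfsgLib.Solv.pCore_le_pPrimeCore hpq))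
  · exact sup_le (hle q Fact.out) inf_le_left

/-- The hypotheses of the abstract lemma for a subgroup `M` with trivial layer. -/
lemma side (q : ℕ) [Fact q.Prime] (M : Subgroup G) (hL : Cfsg.layer M = ⊥) :
    let Aq := (Cfsg.pCore q M).map M.subtype
    let At := (Cfsg.fittingSubgroup M ⊓ Cfsg.pPrimeCore q M).map M.subtype
    IsPGroup q Aq ∧ (Nat.card At).Coprime q ∧ (∀ a ∈ Aq, ∀ t ∈ At, a * t = t * a) ∧
    M ≤ normalizer (Aq : Set G) ∧ M ≤ normalizer (At : Set G) ∧
    Aq ≤ (Cfsg.generalizedFittingSubgroup M).map M.subtype ∧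
    At ≤ (Cfsg.generalizedFittingSubgroup M).map M.subtype ∧
    (∀ y ∈ M, y ∈ centralizer (Aq : Set G) → y ∈ centralizer (At : Set G) → y ∈ Aq ⊔ At) := by
  intro Aq At
  have hgf : Cfsg.generalizedFittingSubgroup M = Cfsg.fittingSubgroup M := by
    unfold Cfsg.generalizedFittingSubgroup
    rw [hL, bot_sup_eq]
  have hpf : Cfsg.pCore q M ≤ Cfsg.fittingSubgroup M :=
    CfsgLib.Solv.le_fittingSubgroup' _ (CfsgLib.Solv.pCore_isPGroup q).isNilpotent
  haveI hTn : (Cfsg.fittingSubgroup M ⊓ Cfsg.pPrimeCore q M).Normal := inferInstance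
  have hAqp : IsPGroup q Aq := (CfsgLib.Solv.pCore_isPGroup (G := M) q).map _
  have hcardT : (Nat.card (Cfsg.fittingSubgroup M ⊓ Cfsg.pPrimeCore q M : Subgroup M)).Coprime q :=
    Nat.Coprime.coprime_dvd_left (Subgroup.card_dvd_of_le inf_le_right)
      (CfsgLib.Solv.pPrimeCore_coprime (G := M) q)
  have hAtc : (Nat.card At).Coprime q := by
    have : Nat.card At = Nat.card (Cfsg.fittingSubgroup M ⊓ Cfsg.pPrimeCore q M : Subgroup M) :=
      Subgroup.card_map_of_injective M.subtype_injective
    rw [this]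
    exact hcardT
  have hinfb : Cfsg.pCore q M ⊓ (Cfsg.fittingSubgroup M ⊓ Cfsg.pPrimeCore q M) = ⊥ := by
    rw [inf_comm]
    exact inf_bot_of_coprime hcardT (CfsgLib.Solv.pCore_isPGroup q)
  have hcomm : ∀ a ∈ Aq, ∀ t ∈ At, a * t = t * a := by
    rintro _ ⟨a, ha, rfl⟩ _ ⟨t, ht, rfl⟩
    have h1 : a * t = t * a :=
      (Subgroup.commute_of_normal_of_disjoint _ _ inferInstance inferInstance
        (disjoint_iff.2 hinfb) a t ha ht)
    exact congrArg Subtype.val h1
  have hsup : Aq ⊔ At = (Cfsg.generalizedFittingSubgroup M).map M.subtype := by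
    rw [hgf, fit_decomp q (X := M), Subgroup.map_sup]
  refine ⟨hAqp, hAtc, hcomm, map_subtype_normalized _, map_subtype_normalized _, ?_, ?_, ?_⟩
  · rw [← hsup]; exact le_sup_left
  · rw [← hsup]; exact le_sup_right
  · intro y hy h1 h2
    rw [hsup]
    have h3 : (⟨y, hy⟩ : M) ∈ centralizer ((Cfsg.generalizedFittingSubgroup M : Subgroup M) : Set M) := by
      rw [Subgroup.mem_centralizer_iff]
      intro w hw
      apply Subtype.ext
      have hw' : (w : G) ∈ Aq ⊔ At := by
        rw [hsup]
        exact Subgroup.mem_map_of_mem _ hw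
      have h4 : (y : G) ∈ centralizer ((Aq ⊔ At : Subgroup G) : Set G) := by
        have h5 : Aq ⊔ At ≤ centralizer ({y} : Set G) := by
          apply sup_le
          · intro a ha
            rw [Subgroup.mem_centralizer_singleton_iff]
            exact Subgroup.mem_centralizer_iff.1 h1 a ha
          · intro a ha
            rw [Subgroup.mem_centralizer_singleton_iff]
            exact Subgroup.mem_centralizer_iff.1 h2 a ha
        rw [Subgroup.mem_centralizer_iff]
        intro z hz
        exact (Subgroup.mem_centralizer_singleton_iff.1 (h5 hz))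
      exact (Subgroup.mem_centralizer_iff.1 h4 (w : G) hw')
    exact ⟨_, gfit_self_centralizing h3, rfl⟩

lemma pgroup_of_bot {X : Type*} [Group X] [Finite X] {q : ℕ} [Fact q.Prime] (hL : Cfsg.layer X = ⊥)
    (h : Cfsg.fittingSubgroup X ⊓ Cfsg.pPrimeCore q X = ⊥) :
    IsPGroup q (Cfsg.generalizedFittingSubgroup X) := by
  have hgf : Cfsg.generalizedFittingSubgroup X = Cfsg.pCore q X := by
    unfold Cfsg.generalizedFittingSubgroup
    rw [hL, bot_sup_eq, fit_decomp q (X := X), h, sup_bot_eq]
  rw [hgf]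
  exact CfsgLib.Solv.pCore_isPGroup q

theorem main [IsSimpleGroup G] {M N : Subgroup G} (hM : IsCoatom M) (hN : IsCoatom N) (hMN : M ≠ N)
    (h1 : (Cfsg.generalizedFittingSubgroup M).map M.subtype ≤ N)
    (h2 : (Cfsg.generalizedFittingSubgroup N).map N.subtype ≤ M) :
    ∃ p : ℕ, p.Prime ∧ IsPGroup p (Cfsg.generalizedFittingSubgroup M) ∧
      IsPGroup p (Cfsg.generalizedFittingSubgroup N) := by
  have hLM := layer_eq_bot hM hN hMN h1 h2
  have hLN := layer_eq_bot hN hM hMN.symm h2 h1
  have hgM : Cfsg.generalizedFittingSubgroup M = Cfsg.fittingSubgroup M := by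
    unfold Cfsg.generalizedFittingSubgroup
    rw [hLM, bot_sup_eq]
  have hgN : Cfsg.generalizedFittingSubgroup N = Cfsg.fittingSubgroup N := by
    unfold Cfsg.generalizedFittingSubgroup
    rw [hLN, bot_sup_eq]
  -- a common prime
  have hcommon : ∃ q : ℕ, q.Prime ∧ (Cfsg.pCore q M).map M.subtype ≠ ⊥ ∧
      (Cfsg.pCore q N).map N.subtype ≠ ⊥ := by
    by_contra hno
    push Not at hno
    have hparts : ∀ p r : Nat.Primes, (Cfsg.pCore (r : ℕ) N).map N.subtype ≤
        centralizer (((Cfsg.pCore (p : ℕ) M).map M.subtype : Subgroup G) : Set G) := by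
      rintro ⟨p, hp⟩ ⟨r, hr⟩
      haveI : Fact p.Prime := ⟨hp⟩
      haveI : Fact r.Prime := ⟨hr⟩
      by_cases hpr : p = r
      · subst hpr
        by_cases hb : (Cfsg.pCore p M).map M.subtype = ⊥
        · change _ ≤ centralizer (((Cfsg.pCore p M).map M.subtype : Subgroup G) : Set G)
          rw [hb]
          intro x _
          rw [Subgroup.mem_centralizer_iff]
          intro z hz
          have hz' : z ∈ (⊥ : Subgroup G) := hz
          rw [Subgroup.mem_bot] at hz'
          rw [hz']
          simp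
        · have hb2 := hno p hp hb
          change (Cfsg.pCore p N).map N.subtype ≤ _
          rw [hb2]
          exact bot_le
      · -- coprime parts
        have hpM : (Cfsg.pCore p M).map M.subtype ≤ N :=
          (Subgroup.map_mono ((CfsgLib.Solv.le_fittingSubgroup' _
            (CfsgLib.Solv.pCore_isPGroup p).isNilpotent).trans (le_of_eq hgM.symm))).trans h1
        have hrN : (Cfsg.pCore r N).map N.subtype ≤ M :=
          (Subgroup.map_mono ((CfsgLib.Solv.le_fittingSubgroup' _
            (CfsgLib.Solv.pCore_isPGroup r).isNilpotent).trans (le_of_eq hgN.symm))).trans h2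
        have hinf : (Cfsg.pCore p M).map M.subtype ⊓ (Cfsg.pCore r N).map N.subtype = ⊥ := by
          rw [inf_comm]
          apply inf_bot_of_coprime (p := p)
          · have h3 : IsPGroup r ((Cfsg.pCore r N).map N.subtype : Subgroup G) :=
              (CfsgLib.Solv.pCore_isPGroup (G := N) r).map _
            obtain ⟨k, hk⟩ := h3.exists_card_eq
            rw [hk]
            exact Nat.Coprime.pow_left k ((Nat.coprime_primes hr hp).2 (Ne.symm hpr))
          · exact (CfsgLib.Solv.pCore_isPGroup (G := M) p).map _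
        intro b hb
        rw [Subgroup.mem_centralizer_iff]
        intro a ha
        exact cross (hpM.trans (map_subtype_normalized _)) (hrN.trans (map_subtype_normalized _))
          hinf ha hb
    have hFM : (Cfsg.fittingSubgroup N).map N.subtype ≤
        centralizer (((Cfsg.fittingSubgroup M).map M.subtype : Subgroup G) : Set G) := by
      rw [CfsgLib.Solv.fitting_eq_iSup_pCore (G := N), Subgroup.map_iSup]
      apply iSup_le
      intro r
      rw [Subgroup.le_centralizer_iff, CfsgLib.Solv.fitting_eq_iSup_pCore (G := M), Subgroup.map_iSup]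
      apply iSup_le
      intro p
      rw [Subgroup.le_centralizer_iff]
      exact hparts p r
    have hFNM : (Cfsg.fittingSubgroup N).map N.subtype ≤ (Cfsg.fittingSubgroup M).map M.subtype := by
      rintro _ ⟨b, hb, rfl⟩
      have hbM : (b : G) ∈ M := h2 (Subgroup.mem_map_of_mem _ (hgN ▸ hb))
      have h3 : (⟨(b : G), hbM⟩ : M) ∈ centralizer ((Cfsg.generalizedFittingSubgroup M : Subgroup M) : Set M) := by
        rw [Subgroup.mem_centralizer_iff]
        intro w hw
        apply Subtype.ext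
        have := Subgroup.mem_centralizer_iff.1 (hFM (Subgroup.mem_map_of_mem _ hb)) (w : G)
          (Subgroup.mem_map_of_mem _ (hgM ▸ hw))
        exact this
      have h4 := gfit_self_centralizing h3
      rw [hgM] at h4
      exact ⟨_, h4, rfl⟩
    have hFMN : (Cfsg.fittingSubgroup M).map M.subtype ≤ (Cfsg.fittingSubgroup N).map N.subtype := by
      rintro _ ⟨b, hb, rfl⟩
      have hbM : (b : G) ∈ N := h1 (Subgroup.mem_map_of_mem _ (hgM ▸ hb))
      have h3 : (⟨(b : G), hbM⟩ : N) ∈ centralizer ((Cfsg.generalizedFittingSubgroup N : Subgroup N) : Set N) := by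
        rw [Subgroup.mem_centralizer_iff]
        intro w hw
        apply Subtype.ext
        have := Subgroup.mem_centralizer_iff.1 (hFM (Subgroup.mem_map_of_mem _ (hgN ▸ hw))) (b : G)
          (Subgroup.mem_map_of_mem _ hb)
        exact this.symm
      have h4 := gfit_self_centralizing h3
      rw [hgN] at h4
      exact ⟨_, h4, rfl⟩
    have heq := le_antisymm hFMN hFNM
    have hn : ((Cfsg.fittingSubgroup M).map M.subtype).Normal := by
      apply normal_of_le (M := M) (N := N) _ _ (coatoms_sup hM hN hMN)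
      · exact map_subtype_normalized _
      · rw [heq]
        exact map_subtype_normalized _
    have hbot : ∀ {M : Subgroup G}, IsCoatom M → (Cfsg.layer M = ⊥) →
        (Cfsg.fittingSubgroup M) = ⊥ → M = ⊥ := by
      intro M _ hL hF
      have h5 : Cfsg.generalizedFittingSubgroup M = ⊥ := by
        unfold Cfsg.generalizedFittingSubgroup
        rw [hL, hF, bot_sup_eq]
      have h6 := gfit_self_centralizing (G := M)
      rw [h5] at h6
      rw [eq_bot_iff]
      intro x hx
      have h7 : (⟨x, hx⟩ : M) ∈ (⊥ : Subgroup M) := by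
        apply h6
        rw [Subgroup.mem_centralizer_iff]
        intro z hz
        have hz' : z ∈ (⊥ : Subgroup M) := hz
        rw [Subgroup.mem_bot] at hz'
        rw [hz']
        simp
      rw [Subgroup.mem_bot] at h7
      have := congrArg Subtype.val h7
      exact this
    rcases hn.eq_bot_or_eq_top with h3 | h3
    · have h4 : Cfsg.fittingSubgroup M = ⊥ :=
        (Subgroup.map_eq_bot_iff_of_injective _ M.subtype_injective).1 h3
      have h5 : Cfsg.fittingSubgroup N = ⊥ :=
        (Subgroup.map_eq_bot_iff_of_injective _ N.subtype_injective).1 (heq ▸ h3)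
      exact hMN ((hbot hM hLM h4).trans (hbot hN hLN h5).symm)
    · apply hM.1
      rw [eq_top_iff, ← h3]
      exact Subgroup.map_subtype_le _
  obtain ⟨q, hq, hq1, hq2⟩ := hcommon
  haveI : Fact q.Prime := ⟨hq⟩
  obtain ⟨a1, a2, a3, a4, a5, a6, a7, a8⟩ := side q M hLM
  obtain ⟨b1, b2, b3, b4, b5, b6, b7, b8⟩ := side q N hLN
  have h3 := no_prime_part hM hN hMN a1 a2 b1 b2 a3 b3 a4 a5 b4 b5
    (a6.trans (Subgroup.map_subtype_le _)) (a7.trans (Subgroup.map_subtype_le _))
    (b6.trans (Subgroup.map_subtype_le _)) (b7.trans (Subgroup.map_subtype_le _))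
    (a6.trans h1) (b6.trans h2) (a7.trans h1) (b7.trans h2) a8 b8 hq1 hq2
  have h4 := no_prime_part hN hM hMN.symm b1 b2 a1 a2 b3 a3 b4 b5 a4 a5
    (b6.trans (Subgroup.map_subtype_le _)) (b7.trans (Subgroup.map_subtype_le _))
    (a6.trans (Subgroup.map_subtype_le _)) (a7.trans (Subgroup.map_subtype_le _))
    (b6.trans h2) (a6.trans h1) (b7.trans h2) (a7.trans h1) b8 a8 hq2 hq1
  refine ⟨q, hq, pgroup_of_bot hLM ?_, pgroup_of_bot hLN ?_⟩
  · exact (Subgroup.map_eq_bot_iff_of_injective _ M.subtype_injective).1 h3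
  · exact (Subgroup.map_eq_bot_iff_of_injective _ N.subtype_injective).1 h4

end Concrete

end CfsgLib.BMax
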