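import Cfsg.Agent.Lib.H3.PSolv4
import Cfsg.Agent.Lib.H3.AlpFus
import Cfsg.Agent.Lib.Solv.PGroup

/-! Cyclic Sylow subgroups. -/

set_option linter.style.haveILetI false
set_option linter.unusedSectionVars false

namespace CfsgLib.CycSyl

universe u

open Subgroup CfsgLib.CT1 CfsgLib.Solv

variable {G : Type*} [Group G] [Finite G] {p : ℕ} [hpp : Fact p.Prime]

/-- The Frattini subgroup of a subgroup, inside the ambient group. -/
abbrev F (A : Subgroup G) : Subgroup G := (frattini A).map A.subtype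

lemma F_le (A : Subgroup G) : F A ≤ A := Subgroup.map_subtype_le _

lemma pow_mem_F {A : Subgroup G} (hA : IsPGroup p A) {a : G} (ha : a ∈ A) : a ^ p ∈ F A := by
  have h := (CfsgLib.Solv.pgroup_commutator_pow_le_frattini hA).2 ⟨a, ha⟩
  exact ⟨_, h, by simp⟩

omit [Finite G] in
lemma norm_F (A : Subgroup G) : normalizer (A : Set G) ≤ normalizer ((F A : Subgroup G) : Set G) :=
  CfsgLib.Comp.char_map_le_normalizer (frattini A)

omit [Finite G] [Fact p.Prime] in
/-- Bezout in a subgroup. -/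
lemma mem_of_pow_coprime {B : Subgroup G} {w : G} {m n : ℕ} (hc : m.Coprime n) (h1 : w ^ m ∈ B)
    (h2 : w ^ n ∈ B) : w ∈ B := by
  have h := Nat.gcd_eq_gcd_ab m n
  rw [hc.gcd_eq_one] at h
  have h3 : w = (w ^ m) ^ (m.gcdA n) * (w ^ n) ^ (m.gcdB n) := by
    rw [← zpow_natCast, ← zpow_natCast, ← zpow_mul, ← zpow_mul, ← zpow_add, ← h]
    simp
  rw [h3]
  exact Subgroup.mul_mem _ (Subgroup.zpow_mem _ h1 _) (Subgroup.zpow_mem _ h2 _)

/-- If the action is trivial on the Frattini quotient and the element is in a group with Sylow `A`,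
then it centralizes `A`. -/
theorem mem_centralizer_of_trivial {A K : Subgroup G} (hsyl : IsSylowIn p A K) {u : G} (hu : zpowers u = A)
    {y : G} (hyK : y ∈ K) (hyN : y ∈ normalizer (A : Set G)) (hy : y * u * y⁻¹ * u⁻¹ ∈ F A) :
    y ∈ centralizer (A : Set G) := by
  have hAp : IsPGroup p A := hsyl.2.1
  have hFn := norm_F A hyN
  have hcomm : ∀ a ∈ A, ∀ b ∈ A, a * b = b * a := by
    rw [← hu]
    intro a ha b hb
    obtain ⟨i, rfl⟩ := Subgroup.mem_zpowers_iff.1 ha
    obtain ⟨j, rfl⟩ := Subgroup.mem_zpowers_iff.1 hb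
    exact ((Commute.refl u).zpow_zpow i j).eq
  have huA : u ∈ A := hu ▸ mem_zpowers u
  -- step 1
  have h1 : ∀ a ∈ A, y * a * y⁻¹ * a⁻¹ ∈ F A := by
    intro a ha
    rw [← hu] at ha
    obtain ⟨i, rfl⟩ := Subgroup.mem_zpowers_iff.1 ha
    have hc : Commute (y * u * y⁻¹) u⁻¹ :=
      hcomm _ (CfsgLib.CT.conj_mem_of_mem_normalizer hyN huA) _ (Subgroup.inv_mem _ huA)
    have h2 : y * u ^ i * y⁻¹ * (u ^ i)⁻¹ = (y * u * y⁻¹ * u⁻¹) ^ i := by
      rw [hc.mul_zpow, conj_zpow, inv_zpow]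
    rw [h2]
    exact Subgroup.zpow_mem _ hy _
  -- step 2
  have h2 : ∀ j : ℕ, ∀ a ∈ A, y ^ j * a * (y ^ j)⁻¹ * a⁻¹ ∈ F A := by
    intro j
    induction j with
    | zero =>
      intro a _
      simp
    | succ j ih =>
      intro a ha
      have h3 := ih a ha
      have h4 := CfsgLib.CT.conj_mem_of_mem_normalizer hFn h3
      have h5 := h1 a ha
      have h6 : y ^ (j + 1) * a * (y ^ (j + 1))⁻¹ * a⁻¹ =
          (y * (y ^ j * a * (y ^ j)⁻¹ * a⁻¹) * y⁻¹) * (y * a * y⁻¹ * a⁻¹) := by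
        rw [pow_succ']
        group
      rw [h6]
      exact Subgroup.mul_mem _ h4 h5
  -- decomposition of the order
  have hyo : orderOf y ≠ 0 := (orderOf_pos y).ne'
  obtain ⟨s, o, hpo, heq⟩ := Nat.exists_eq_pow_mul_and_not_dvd hyo p hpp.out.ne_one
  have hocop : o.Coprime p := ((Nat.Prime.coprime_iff_not_dvd hpp.out).2 hpo).symm
  have hzo : orderOf (y ^ p ^ s) = o := by
    rw [orderOf_pow' y (pow_ne_zero _ hpp.out.ne_zero), heq, Nat.gcd_eq_right (Dvd.intro _ rfl)]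
    exact Nat.mul_div_cancel_left _ (pow_pos hpp.out.pos _)
  have hwo : orderOf (y ^ o) = p ^ s := by
    have ho0 : o ≠ 0 := by
      rintro rfl
      exact hpo (dvd_zero _)
    rw [orderOf_pow' y ho0, heq, Nat.gcd_eq_right (Dvd.intro_left _ rfl)]
    exact Nat.mul_div_cancel _ (Nat.pos_of_ne_zero ho0)
  -- the `p'`-part centralizes `A`
  have hz : y ^ p ^ s ∈ centralizer (A : Set G) := by
    have hzN : zpowers (y ^ p ^ s) ≤ normalizer (A : Set G) := by
      rw [Subgroup.zpowers_le]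
      exact Subgroup.pow_mem _ hyN _
    have hcop : (Nat.card (zpowers (y ^ p ^ s))).Coprime (Nat.card (frattini A)) := by
      rw [Nat.card_zpowers, hzo]
      have hfp : IsPGroup p (frattini A) := hAp.to_subgroup _
      obtain ⟨k, hk⟩ := IsPGroup.iff_card.1 hfp
      rw [hk]
      exact Nat.Coprime.pow_right k hocop
    refine frattini_coprime_trivial _ A hzN hcop ?_ (mem_zpowers _)
    intro a ha k hk
    have ha' : a ∈ Submonoid.powers (y ^ p ^ s) := mem_powers_iff_mem_zpowers.2 ha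
    obtain ⟨n, rfl⟩ := ha'
    change (y ^ p ^ s) ^ n * k * ((y ^ p ^ s) ^ n)⁻¹ * k⁻¹ ∈ _
    rw [← pow_mul]
    exact h2 _ k hk
  -- the `p`-part lies in `A`
  have hw : y ^ o ∈ centralizer (A : Set G) := by
    have hwp : IsPGroup p (zpowers (y ^ o)) :=
      IsPGroup.of_card (by rw [Nat.card_zpowers, hwo])
    have hwN : zpowers (y ^ o) ≤ normalizer (A : Set G) := by
      rw [Subgroup.zpowers_le]
      exact Subgroup.pow_mem _ hyN _
    have hsup : IsPGroup p (zpowers (y ^ o) ⊔ A : Subgroup G) :=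
      isPGroup_sup_of_le_normalizer hwp hAp hwN
    have hle : zpowers (y ^ o) ⊔ A ≤ K :=
      sup_le (by rw [Subgroup.zpowers_le]; exact Subgroup.pow_mem _ hyK _) hsyl.1
    have heq2 := hsyl.eq_of_pgroup le_sup_right hle hsup
    have hwA : y ^ o ∈ A := by
      rw [heq2]
      exact Subgroup.mem_sup_left (mem_zpowers _)
    rw [Subgroup.mem_centralizer_iff]
    intro a ha
    exact hcomm a ha _ hwA
  exact mem_of_pow_coprime (Nat.Coprime.pow_left s hocop.symm) hz hw

open scoped IsMulCommutative in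
/-- A central subgroup: the power map to it is a homomorphism. -/
theorem power_map {C B : Subgroup G} (hBC : B ≤ C) (hcent : ∀ a ∈ B, ∀ c ∈ C, a * c = c * a) :
    (∀ c ∈ C, c ^ B.relIndex C ∈ B) ∧
      ∀ c ∈ C, ∀ d ∈ C, (c * d) ^ B.relIndex C = c ^ B.relIndex C * d ^ B.relIndex C := by
  classical
  set H : Subgroup C := B.subgroupOf C with hH
  haveI : H.FiniteIndex := inferInstance
  have hHcent : H ≤ center C := by
    intro a ha
    rw [Subgroup.mem_center_iff]
    intro c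
    apply Subtype.ext
    exact (hcent a ha c c.2).symm
  let ϕ : H →* center C :=
    { toFun := fun a => ⟨a, hHcent a.2⟩
      map_one' := rfl
      map_mul' := fun _ _ => rfl }
  have key : ∀ g : C, ∀ (k : ℕ) (g₀ : C), g₀⁻¹ * g ^ k * g₀ ∈ H → g₀⁻¹ * g ^ k * g₀ = g ^ k := by
    intro g k g₀ hk
    have h1 := Subgroup.mem_center_iff.1 (hHcent hk) g₀
    have h2 : g₀ * (g₀⁻¹ * g ^ k * g₀) = g ^ k * g₀ := by group
    exact mul_right_cancel (h1.symm.trans h2)
  have hV : ∀ g : C, ϕ.transfer g = ϕ ⟨g ^ H.index, MonoidHom.transfer_eq_pow_aux g (key g)⟩ :=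
    fun g => MonoidHom.transfer_eq_pow ϕ g (key g)
  refine ⟨?_, ?_⟩
  · intro c hc
    have h1 := MonoidHom.transfer_eq_pow_aux (H := H) (⟨c, hc⟩ : C) (key _)
    have h2 : ((⟨c, hc⟩ : C) ^ H.index : C).1 ∈ B := h1
    have hidx : H.index = B.relIndex C := rfl
    rw [← hidx]
    simpa using h2
  · intro c hc d hd
    have h1 := map_mul ϕ.transfer (⟨c, hc⟩ : C) (⟨d, hd⟩ : C)
    rw [hV, hV, hV] at h1
    have h2 := congrArg (fun z : center C => ((z : C) : G)) h1
    have hidx : H.index = B.relIndex C := rfl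
    rw [← hidx]
    simpa [ϕ] using h2

/-- Commutators with powers of `x`. -/
theorem comm_pow_computation {C B : Subgroup G} {x y : G} (hBC : B ≤ C)
    (hcent : ∀ a ∈ B, ∀ c ∈ C, a * c = c * a) (hxB : ∀ b ∈ B, x * b = b * x)
    (hf : ∀ a : ℕ, x ^ a * y * (x ^ a)⁻¹ * y⁻¹ ∈ C)
    (hxC : x ∈ normalizer (C : Set G)) (a : ℕ) :
    (x ^ a * y * (x ^ a)⁻¹ * y⁻¹) ^ B.relIndex C = ((x * y * x⁻¹ * y⁻¹) ^ B.relIndex C) ^ a := by
  obtain ⟨hm1, hm2⟩ := power_map hBC hcent
  obtain ⟨m, hm⟩ : ∃ m, m = B.relIndex C := ⟨_, rfl⟩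
  rw [← hm] at hm1 hm2 ⊢
  induction a with
  | zero => simp
  | succ a ih =>
    have hc1 := hf 1
    rw [pow_one] at hc1
    have h1 : x ^ (a + 1) * y * (x ^ (a + 1))⁻¹ * y⁻¹ =
        (x * (x ^ a * y * (x ^ a)⁻¹ * y⁻¹) * x⁻¹) * (x * y * x⁻¹ * y⁻¹) := by
      rw [pow_succ']
      group
    have h2 := CfsgLib.CT.conj_mem_of_mem_normalizer hxC (hf a)
    rw [h1, hm2 _ h2 _ hc1, conj_pow, ih, pow_succ]
    congr 1
    have h3 := hm1 _ hc1
    have h4 : ((x * y * x⁻¹ * y⁻¹) ^ m) ^ a ∈ B := Subgroup.pow_mem _ h3 _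
    have h5 := hxB _ h4
    rw [h5]
    group

omit [Finite G] [Fact p.Prime] in
lemma exists_gen {A B : Subgroup G} (hA : IsCyclic A) (hBA : B ≤ A) : ∃ u, zpowers u = B := by
  haveI : IsCyclic (B.subgroupOf A) := Subgroup.isCyclic _
  obtain ⟨g, hg⟩ := IsCyclic.exists_generator (α := B.subgroupOf A)
  refine ⟨((g : A) : G), ?_⟩
  ext z
  constructor
  · intro hz
    obtain ⟨i, rfl⟩ := Subgroup.mem_zpowers_iff.1 hz
    exact Subgroup.zpow_mem _ g.2 i
  · intro hz
    obtain ⟨i, hi⟩ := Subgroup.mem_zpowers_iff.1 (hg ⟨⟨z, hBA hz⟩, hz⟩)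
    have := congrArg (fun w : B.subgroupOf A => ((w : A) : G)) hi
    simp only [SubgroupClass.coe_zpow] at this
    rw [← this]
    exact Subgroup.zpow_mem _ (mem_zpowers _) i

lemma isSylowIn_top (P : Sylow p G) : IsSylowIn p (P : Subgroup G) ⊤ := by
  refine ⟨le_top, P.isPGroup', ?_⟩
  rw [Subgroup.relIndex_top_right]
  exact P.not_dvd_index

/-- Part one: normal complement. -/
theorem normal_complement (P : Sylow p G) (hP : IsCyclic (P : Subgroup G)) (H : Subgroup G) [hHn : H.Normal]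
    (h1 : p ∣ Nat.card H) (h2 : p ∣ H.index) : Cfsg.HasNormalPComplement p H := by
  classical
  have hPp := P.isPGroup'
  obtain ⟨P₀, hP₀d⟩ : ∃ P₀, P₀ = (P : Subgroup G) ⊓ H := ⟨_, rfl⟩
  have hHtop : normalizer (H : Set G) = ⊤ := Subgroup.normalizer_eq_top_iff.2 hHn
  have hP₀ : IsSylowIn p P₀ H :=
    hP₀d ▸ CfsgLib.AlpGold.isSylowIn_inf_normal (isSylowIn_top P) le_top (hHtop ▸ le_refl _)
  have hP₀P : P₀ ≤ (P : Subgroup G) := hP₀d ▸ inf_le_left
  obtain ⟨x, hx⟩ := exists_gen hP (le_refl (P : Subgroup G))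
  obtain ⟨u, hu⟩ := exists_gen hP hP₀P
  have huP₀ : u ∈ P₀ := hu ▸ mem_zpowers u
  have hcommP : ∀ a ∈ (P : Subgroup G), ∀ b ∈ (P : Subgroup G), a * b = b * a := by
    rw [← hx]
    intro a ha b hb
    obtain ⟨i, rfl⟩ := Subgroup.mem_zpowers_iff.1 ha
    obtain ⟨j, rfl⟩ := Subgroup.mem_zpowers_iff.1 hb
    exact ((Commute.refl x).zpow_zpow i j).eq
  have hxP : x ∈ (P : Subgroup G) := hx ▸ mem_zpowers x
  obtain ⟨n, hn⟩ := IsPGroup.iff_card.1 hPp
  have hxo : orderOf x = p ^ n := by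
    rw [← Nat.card_zpowers, hx, hn]
  -- `u` is a `p`-th power
  have huP : u ∈ Submonoid.powers x := by
    rw [mem_powers_iff_mem_zpowers, hx]
    exact hP₀P huP₀
  obtain ⟨t, ht₀⟩ := huP
  have ht : x ^ t = u := ht₀
  have hpt : p ∣ t := by
    by_contra hnd
    have hc : t.Coprime (orderOf x) := by
      rw [hxo]
      exact Nat.Coprime.pow_right n ((Nat.Prime.coprime_iff_not_dvd hpp.out).2 hnd).symm
    obtain ⟨m, hm⟩ := exists_pow_eq_self_of_coprime hc
    have hxu : x ∈ P₀ := by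
      rw [← hm]
      refine Subgroup.pow_mem _ ?_ _
      rw [ht]
      exact huP₀
    have hPH : (P : Subgroup G) ≤ H := by
      rw [← hx, Subgroup.zpowers_le]
      exact hP₀.1 hxu
    exact P.not_dvd_index (h2.trans (Subgroup.index_dvd_of_le hPH))
  obtain ⟨t', rfl⟩ := hpt
  -- the key computation
  have key : ∀ y ∈ H, y ∈ normalizer (P₀ : Set G) → y ∈ centralizer (P₀ : Set G) := by
    intro y hyH hyN
    apply mem_centralizer_of_trivial hP₀ hu hyH hyN
    obtain ⟨C, hC⟩ : ∃ C, C = H ⊓ centralizer (P₀ : Set G) := ⟨_, rfl⟩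
    have hBC : P₀ ≤ C := by
      rw [hC]
      refine le_inf hP₀.1 ?_
      intro a ha
      rw [Subgroup.mem_centralizer_iff]
      intro b hb
      exact hcommP _ (hP₀P hb) _ (hP₀P ha)
    have hcent : ∀ a ∈ P₀, ∀ c ∈ C, a * c = c * a := by
      intro a ha c hc
      rw [hC] at hc
      exact Subgroup.mem_centralizer_iff.1 hc.2 a ha
    have hxB : ∀ b ∈ P₀, x * b = b * x := fun b hb => hcommP _ hxP _ (hP₀P hb)
    have hf : ∀ a : ℕ, x ^ a * y * (x ^ a)⁻¹ * y⁻¹ ∈ C := by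
      intro a
      rw [hC]
      refine ⟨Subgroup.mul_mem _ (hHn.conj_mem _ hyH _) (Subgroup.inv_mem _ hyH), ?_⟩
      change _ ∈ centralizer (P₀ : Set G)
      rw [Subgroup.mem_centralizer_iff]
      intro v hv
      have hv' : y⁻¹ * v * y ∈ P₀ := by
        have := CfsgLib.CT.conj_mem_of_mem_normalizer (Subgroup.inv_mem _ hyN) hv
        simpa using this
      have hc1 : Commute (x ^ a) v := Commute.pow_left (show Commute x v from hxB v hv) a
      have hc2 : Commute (x ^ a) (y⁻¹ * v * y) := Commute.pow_left (show Commute x _ from hxB _ hv') a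
      have hc3 : (x ^ a)⁻¹ * (y⁻¹ * v * y) = (y⁻¹ * v * y) * (x ^ a)⁻¹ := hc2.inv_left.eq
      calc v * (x ^ a * y * (x ^ a)⁻¹ * y⁻¹) = (v * x ^ a) * y * (x ^ a)⁻¹ * y⁻¹ := by group
        _ = (x ^ a * v) * y * (x ^ a)⁻¹ * y⁻¹ := by rw [hc1.eq]
        _ = x ^ a * y * ((y⁻¹ * v * y) * (x ^ a)⁻¹) * y⁻¹ := by group
        _ = x ^ a * y * ((x ^ a)⁻¹ * (y⁻¹ * v * y)) * y⁻¹ := by rw [hc3]
        _ = _ := by group
    have hxC : x ∈ normalizer (C : Set G) := by
      apply CfsgLib.CT.mem_normalizer_of_conj_le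
      intro c hc
      rw [hC] at hc ⊢
      refine ⟨hHn.conj_mem _ hc.1 _, ?_⟩
      have hxN : x ∈ normalizer (P₀ : Set G) := by
        apply CfsgLib.CT.mem_normalizer_of_conj_le
        intro a ha
        rw [hxB a ha]
        simpa using ha
      exact CfsgLib.CT.conj_mem_of_mem_normalizer (CfsgLib.AlpGold.norm_le_norm_cent P₀ hxN) hc.2
    have hcomp := comm_pow_computation hBC hcent hxB hf hxC (p * t')
    obtain ⟨hm1, _⟩ := power_map hBC hcent
    have hmcop : (P₀.relIndex C).Coprime p := by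
      have hCH : C ≤ H := hC ▸ inf_le_left
      have h3 : P₀.relIndex C * C.relIndex H = P₀.relIndex H := Subgroup.relIndex_mul_relIndex _ _ _ hBC hCH
      refine ((Nat.Prime.coprime_iff_not_dvd hpp.out).2 fun hd => hP₀.2.2 ?_).symm
      rw [← h3]
      exact hd.mul_right _
    obtain ⟨m, hm⟩ : ∃ m, m = P₀.relIndex C := ⟨_, rfl⟩
    rw [← hm] at hcomp hm1 hmcop
    have hc1 := hf 1
    rw [pow_one] at hc1
    have hcm := hm1 _ hc1
    -- the commutator of `u` and `y`
    have hu2 : x ^ (p * t') = u := ht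
    rw [hu2] at hcomp
    have hfu : u * y * u⁻¹ * y⁻¹ ∈ P₀ := by
      have h4 : u * y * u⁻¹ * y⁻¹ = u * (y * u⁻¹ * y⁻¹) := by group
      rw [h4]
      exact Subgroup.mul_mem _ huP₀ (CfsgLib.CT.conj_mem_of_mem_normalizer hyN (Subgroup.inv_mem _ huP₀))
    have hF1 : (u * y * u⁻¹ * y⁻¹) ^ m ∈ F P₀ := by
      rw [hcomp, mul_comm p t', pow_mul]
      exact pow_mem_F hP₀.2.1 (Subgroup.pow_mem _ hcm _)
    have hF2 := pow_mem_F hP₀.2.1 hfu
    have hF3 := mem_of_pow_coprime hmcop hF1 hF2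
    have h5 : y * u * y⁻¹ * u⁻¹ = (u * y * u⁻¹ * y⁻¹)⁻¹ := by group
    rw [h5]
    exact Subgroup.inv_mem _ hF3
  obtain ⟨Q, hQ⟩ := hP₀.exists_sylow
  refine CfsgLib.Trans.hasNormalPComplement_of_le_centralizer Q ?_
  intro y hy
  have hyN : (y : G) ∈ normalizer (P₀ : Set G) := by
    apply CfsgLib.CT.mem_normalizer_of_conj_le
    intro a ha
    rw [← hQ] at ha ⊢
    obtain ⟨q, hq, rfl⟩ := ha
    have h3 := CfsgLib.CT.conj_mem_of_mem_normalizer hy hq
    exact ⟨_, h3, by simp⟩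
  have h4 := key y y.2 hyN
  rw [Subgroup.mem_centralizer_iff]
  intro q hq
  apply Subtype.ext
  have hq2 : (q : G) ∈ P₀ := by
    rw [← hQ]
    exact ⟨q, hq, rfl⟩
  exact Subgroup.mem_centralizer_iff.1 h4 _ hq2

/-- An element of a cyclic `p`-group which does not generate lies in the Frattini subgroup. -/
lemma mem_F_of_not_gen {A : Subgroup G} {x w : G} (hx : zpowers x = A) (hA : IsPGroup p A) (hw : w ∈ A)
    (hne : x ∉ zpowers w) : w ∈ F A := by
  have hwp : w ∈ Submonoid.powers x := by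
    rw [mem_powers_iff_mem_zpowers, hx]
    exact hw
  obtain ⟨e, he₀⟩ := hwp
  have he : x ^ e = w := he₀
  obtain ⟨n, hn⟩ := IsPGroup.iff_card.1 hA
  have hxo : orderOf x = p ^ n := by
    rw [← Nat.card_zpowers, hx, hn]
  have hpe : p ∣ e := by
    by_contra hnd
    have hc : e.Coprime (orderOf x) := by
      rw [hxo]
      exact Nat.Coprime.pow_right n ((Nat.Prime.coprime_iff_not_dvd hpp.out).2 hnd).symm
    obtain ⟨m, hm⟩ := exists_pow_eq_self_of_coprime hc
    apply hne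
    have h9 : w ^ m = x := by
      rw [← he]
      exact hm
    rw [← h9]
    exact Subgroup.pow_mem (zpowers w) (mem_zpowers w) m
  obtain ⟨e', rfl⟩ := hpe
  rw [← he, mul_comm, pow_mul]
  refine pow_mem_F hA (Subgroup.pow_mem _ ?_ _)
  rw [← hx]
  exact mem_zpowers x

/-- A cyclic Sylow subgroup and a nontrivial normal `p`-subgroup force `p`-solvability. -/
theorem psolvable_of_normal_pgroup {G : Type u} [Group G] [Finite G] (P : Sylow p G)
    (hP : IsCyclic (P : Subgroup G)) (H : Subgroup G) [hHn : H.Normal] (hHp : IsPGroup p H) (hH1 : H ≠ ⊥) :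
    Cfsg.IsPSolvable p G := by
  classical
  have hHP : H ≤ (P : Subgroup G) := CfsgLib.CT1.le_of_normal_sylow' P hHn hHp
  obtain ⟨x, hx⟩ := exists_gen hP (le_refl (P : Subgroup G))
  obtain ⟨v₀, hv₀⟩ := exists_gen hP hHP
  have hHtop : normalizer (H : Set G) = ⊤ := Subgroup.normalizer_eq_top_iff.2 hHn
  have hDn : (centralizer (H : Set G)).Normal := by
    rw [← Subgroup.normalizer_eq_top_iff, eq_top_iff, ← hHtop]
    exact CfsgLib.AlpGold.norm_le_norm_cent H
  haveI := hDn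
  have hcommP : ∀ a ∈ (P : Subgroup G), ∀ b ∈ (P : Subgroup G), a * b = b * a := by
    rw [← hx]
    intro a ha b hb
    obtain ⟨i, rfl⟩ := Subgroup.mem_zpowers_iff.1 ha
    obtain ⟨j, rfl⟩ := Subgroup.mem_zpowers_iff.1 hb
    exact ((Commute.refl x).zpow_zpow i j).eq
  have hPD : (P : Subgroup G) ≤ centralizer (H : Set G) := by
    intro a ha
    rw [Subgroup.mem_centralizer_iff]
    intro b hb
    exact hcommP _ (hHP hb) _ ha
  have hsyl : IsSylowIn p (P : Subgroup G) (centralizer (H : Set G)) :=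
    CfsgLib.AlpFus.isSylowIn_mono (isSylowIn_top P) hPD le_top
  have hxP : x ∈ (P : Subgroup G) := hx ▸ mem_zpowers x
  refine CfsgLib.PSolv.ext (centralizer (H : Set G)) ?_ ?_
  · -- the centralizer has a normal complement
    apply CfsgLib.PSolv.of_normal_complement
    obtain ⟨Q, hQ⟩ := hsyl.exists_sylow
    refine CfsgLib.Trans.hasNormalPComplement_of_le_centralizer Q ?_
    intro y hy
    have hyN : (y : G) ∈ normalizer ((P : Subgroup G) : Set G) := by
      apply CfsgLib.CT.mem_normalizer_of_conj_le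
      intro a ha
      rw [← hQ] at ha ⊢
      obtain ⟨q, hq, rfl⟩ := ha
      have h3 := CfsgLib.CT.conj_mem_of_mem_normalizer hy hq
      exact ⟨_, h3, by simp⟩
    have h4 : (y : G) ∈ centralizer ((P : Subgroup G) : Set G) := by
      apply mem_centralizer_of_trivial hsyl hx y.2 hyN
      -- the commutator does not generate
      have hw : (y : G) * x * (y : G)⁻¹ * x⁻¹ ∈ (P : Subgroup G) :=
        Subgroup.mul_mem _ (CfsgLib.CT.conj_mem_of_mem_normalizer hyN hxP) (Subgroup.inv_mem _ hxP)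
      apply mem_F_of_not_gen hx P.isPGroup' hw
      intro hgen
      -- a nontrivial element of `H`
      obtain ⟨v, hv, hv1⟩ : ∃ v ∈ H, v ≠ 1 := by
        by_contra hc
        push Not at hc
        exact hH1 ((Subgroup.eq_bot_iff_forall _).2 hc)
      have hvP : v ∈ Submonoid.powers x := by
        rw [mem_powers_iff_mem_zpowers, hx]
        exact hHP hv
      obtain ⟨t, ht₀⟩ := hvP
      have ht : x ^ t = v := ht₀
      -- the commutator has order dividing `t`
      obtain ⟨w, hwd⟩ : ∃ w, w = (y : G) * x * (y : G)⁻¹ * x⁻¹ := ⟨_, rfl⟩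
      rw [← hwd] at hw hgen
      have hcw : Commute w x := hcommP _ hw _ hxP
      have h5 : (y : G) * x * (y : G)⁻¹ = w * x := by rw [hwd]; group
      have h6 : (w * x) ^ t = x ^ t := by
        rw [← h5, conj_pow, ht]
        have h7 := Subgroup.mem_centralizer_iff.1 y.2 v hv
        rw [← h7]
        group
      rw [hcw.mul_pow, ht, mul_eq_right] at h6
      obtain ⟨i, hi⟩ := Subgroup.mem_zpowers_iff.1 hgen
      apply hv1
      rw [← ht, ← hi, ← zpow_natCast, ← zpow_mul, mul_comm, zpow_mul, zpow_natCast, h6, one_zpow]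
    rw [Subgroup.mem_centralizer_iff]
    intro q hq
    apply Subtype.ext
    have hq2 : (q : G) ∈ (P : Subgroup G) := by
      rw [← hQ]
      exact ⟨q, hq, rfl⟩
    exact Subgroup.mem_centralizer_iff.1 h4 _ hq2
  · -- the quotient is commutative
    apply CfsgLib.PSolv.of_comm
    intro a b
    obtain ⟨a, rfl⟩ := QuotientGroup.mk'_surjective (centralizer (H : Set G)) a
    obtain ⟨b, rfl⟩ := QuotientGroup.mk'_surjective (centralizer (H : Set G)) b
    rw [← map_mul, ← map_mul, QuotientGroup.mk'_apply, QuotientGroup.mk'_apply, QuotientGroup.eq]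
    -- action on the cyclic group `H`
    have hact : ∀ g : G, ∃ r : ℤ, ∀ v ∈ H, g * v * g⁻¹ = v ^ r := by
      intro g
      have hv₀H : v₀ ∈ H := hv₀ ▸ mem_zpowers v₀
      have h1 : g * v₀ * g⁻¹ ∈ H := hHn.conj_mem _ hv₀H g
      rw [← hv₀] at h1
      obtain ⟨r, hr⟩ := Subgroup.mem_zpowers_iff.1 h1
      refine ⟨r, ?_⟩
      intro v hv
      rw [← hv₀] at hv
      obtain ⟨i, rfl⟩ := Subgroup.mem_zpowers_iff.1 hv
      rw [← conj_zpow, ← hr, zpow_comm]
    obtain ⟨r, hr⟩ := hact a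
    obtain ⟨s, hs⟩ := hact b
    have hE : ∀ v ∈ H, (b * a) * v * (b * a)⁻¹ = (a * b) * v * (a * b)⁻¹ := by
      intro v hv
      have h1 : (b * a) * v * (b * a)⁻¹ = b * (a * v * a⁻¹) * b⁻¹ := by group
      have h2 : (a * b) * v * (a * b)⁻¹ = a * (b * v * b⁻¹) * a⁻¹ := by group
      rw [h1, h2, hr v hv, hs v hv, hs _ (Subgroup.zpow_mem _ hv _), hr _ (Subgroup.zpow_mem _ hv _), zpow_comm]
    rw [Subgroup.mem_centralizer_iff]
    intro v hv
    calc v * ((a * b)⁻¹ * (b * a)) = (a * b)⁻¹ * ((a * b) * v * (a * b)⁻¹) * (b * a) := by group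
      _ = (a * b)⁻¹ * ((b * a) * v * (b * a)⁻¹) * (b * a) := by rw [hE v hv]
      _ = (a * b)⁻¹ * (b * a) * v := by group

/-- The theorem. -/
theorem main {G : Type u} [Group G] [Finite G] (P : Sylow p G) (hP : IsCyclic (P : Subgroup G))
    (H : Subgroup G) [hHn : H.Normal] (h1 : p ∣ Nat.card H) (h2 : p ∣ H.index) :
    Cfsg.HasNormalPComplement p H ∧ Cfsg.IsPSolvable p G := by
  have hcompl := normal_complement P hP H h1 h2
  refine ⟨hcompl, ?_⟩
  obtain ⟨K₀, hn, hc, k, hk⟩ := CfsgLib.Trans.hasNormalPComplement_iff.1 hcompl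
  haveI := hn
  have hK₀ : K₀ ≤ Cfsg.pPrimeCore p H := CfsgLib.Solv.le_pPrimeCore' K₀ hc
  haveI : (Cfsg.pPrimeCore p H).Characteristic := CfsgLib.Comp.pPrimeCore_char p
  have hKn : (CfsgLib.AlpGold.O1 p H).Normal := CfsgLib.Comp.char_map_normal_of_normal hHn _
  obtain ⟨K, hK⟩ : ∃ K, K = CfsgLib.AlpGold.O1 p H := ⟨_, rfl⟩
  rw [← hK] at hKn
  haveI := hKn
  have hKH : K ≤ H := hK ▸ CfsgLib.AlpGold.O1_le H
  have hKcop : (Nat.card K).Coprime p := hK ▸ CfsgLib.AlpGold.O1_coprime H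
  refine CfsgLib.PSolv.of_bottom_step (O := K) (Or.inr hKcop) ?_
  have hπs : Function.Surjective (QuotientGroup.mk' K) := QuotientGroup.mk'_surjective _
  -- the image of `H` is a nontrivial `p`-group
  have hidx : ∃ j, K.relIndex H = p ^ j := by
    have h3 : K.relIndex H = (Cfsg.pPrimeCore p H).index := by
      rw [hK, CfsgLib.AlpGold.O1]
      rw [Subgroup.relIndex, Subgroup.subgroupOf, Subgroup.comap_map_eq_self_of_injective H.subtype_injective]
    rw [h3]
    have h4 : (Cfsg.pPrimeCore p H).index ∣ p ^ k := by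
      rw [← hk]
      exact Subgroup.index_dvd_of_le hK₀
    obtain ⟨j, -, hj⟩ := (Nat.dvd_prime_pow hpp.out).1 h4
    exact ⟨j, hj⟩
  obtain ⟨j, hj⟩ := hidx
  have hcard : Nat.card (H.map (QuotientGroup.mk' K)) = p ^ j := by
    have h5 := Subgroup.relIndex_comap (H := (⊥ : Subgroup (G ⧸ K))) (QuotientGroup.mk' K) H
    rw [MonoidHom.comap_bot, QuotientGroup.ker_mk', Subgroup.relIndex_bot_left] at h5
    rw [← h5, hj]
  have hHp : IsPGroup p (H.map (QuotientGroup.mk' K)) := IsPGroup.of_card hcard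
  have hH1 : H.map (QuotientGroup.mk' K) ≠ ⊥ := by
    intro hb
    rw [Subgroup.map_eq_bot_iff, QuotientGroup.ker_mk'] at hb
    have h6 : H = K := le_antisymm hb hKH
    rw [h6] at h1
    exact (Nat.Prime.coprime_iff_not_dvd hpp.out).1 hKcop.symm h1
  haveI hHn' : (H.map (QuotientGroup.mk' K)).Normal := Subgroup.Normal.map hHn _ hπs
  refine psolvable_of_normal_pgroup (P.mapSurjective hπs) ?_ (H.map (QuotientGroup.mk' K)) hHp hH1
  rw [Sylow.coe_mapSurjective]
  haveI : IsCyclic (P : Subgroup G) := hP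
  exact isCyclic_of_surjective ((QuotientGroup.mk' K).subgroupMap (P : Subgroup G))
    ((QuotientGroup.mk' K).subgroupMap_surjective (P : Subgroup G))

end CfsgLib.CycSyl
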