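import Mathlib

/-!
# A dihedral group acting with the rotations fixed point free on a normal subgroup.
-/

set_option linter.unusedSectionVars false
set_option linter.style.haveILetI false
set_option linter.unusedSimpArgs false
set_option linter.unusedVariables false

namespace CfsgLib.DihAct

open Subgroup

universe u

theorem card_of_fibers {Q : Type*} [Group Q] [Finite Q] (C : Subgroup Q) {X : Type*} (ψ : Q → X)
    (hsurj : Function.Surjective ψ) (hfib : ∀ p q, ψ p = ψ q ↔ p⁻¹ * q ∈ C) :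
    Nat.card Q = Nat.card X * Nat.card C := by
  classical
  let f : Q ⧸ C → X := Quotient.lift ψ (by
    intro p q h
    exact (hfib p q).mpr (QuotientGroup.leftRel_apply.mp h))
  have hf : Function.Bijective f := by
    constructor
    · intro p q
      induction p using QuotientGroup.induction_on with
      | H p =>
        induction q using QuotientGroup.induction_on with
        | H q =>
          intro h
          exact QuotientGroup.eq.mpr ((hfib p q).mp h)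
    · intro w
      obtain ⟨q, rfl⟩ := hsurj w
      exact ⟨(q : Q ⧸ C), rfl⟩
  rw [Subgroup.card_eq_card_quotient_mul_card_subgroup C, Nat.card_congr (Equiv.ofBijective f hf)]

variable {G : Type u} [Group G] [Finite G]

/-- If `y` acts without fixed points on the normal subgroup `Q`, then every element of `Qy` is a
`Q`-conjugate of `y`. -/
theorem exists_conj_of_fix (Q : Subgroup G) [hQ : Q.Normal] (y : G) (hfix : ∀ c ∈ Q, c * y = y * c → c = 1)
    (w : G) (hw : w ∈ Q) : ∃ q ∈ Q, q * y * q⁻¹ * y⁻¹ = w := by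
  classical
  let f : Q → Q := fun q => ⟨q * (y * (q : G)⁻¹ * y⁻¹), Q.mul_mem q.2 (hQ.conj_mem _ (Q.inv_mem q.2) y)⟩
  have hf : Function.Injective f := by
    intro p q hpq
    have h1 : (p : G) * (y * (p : G)⁻¹ * y⁻¹) = q * (y * (q : G)⁻¹ * y⁻¹) := congrArg Subtype.val hpq
    have h2 : ((q : G)⁻¹ * p) * y = y * ((q : G)⁻¹ * p) := by
      have h3 : (q : G)⁻¹ * p = (y * (q : G)⁻¹ * y⁻¹) * (y * (p : G)⁻¹ * y⁻¹)⁻¹ := by
        have h4 : (p : G) = q * (y * (q : G)⁻¹ * y⁻¹) * (y * (p : G)⁻¹ * y⁻¹)⁻¹ := by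
          rw [← h1]; group
        calc (q : G)⁻¹ * p = (q : G)⁻¹ * (q * (y * (q : G)⁻¹ * y⁻¹) * (y * (p : G)⁻¹ * y⁻¹)⁻¹) := by
              rw [← h4]
          _ = _ := by group
      have h3' : (q : G)⁻¹ * p = y * ((q : G)⁻¹ * p) * y⁻¹ := by
        have h6 : y * (q : G)⁻¹ * y⁻¹ * (y * (p : G)⁻¹ * y⁻¹)⁻¹ = y * ((q : G)⁻¹ * p) * y⁻¹ := by group
        rw [h6] at h3
        exact h3
      calc (q : G)⁻¹ * p * y = (y * ((q : G)⁻¹ * p) * y⁻¹) * y := by rw [← h3']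
        _ = y * ((q : G)⁻¹ * p) := by group
    have h5 := hfix _ (Q.mul_mem (Q.inv_mem q.2) p.2) h2
    apply Subtype.ext
    exact (inv_mul_eq_one.mp h5).symm
  obtain ⟨q, hq⟩ := (Finite.injective_iff_surjective.mp hf) ⟨w, hw⟩
  refine ⟨q, q.2, ?_⟩
  have h1 : (q : G) * (y * (q : G)⁻¹ * y⁻¹) = w := congrArg Subtype.val hq
  rw [← h1]
  group

/-- The key computation: two involutions with product `y` with the first one in the coset `Qa`. -/
theorem key (Q : Subgroup G) [hQ : Q.Normal] (a y : G) (ha : a ^ 2 = 1) (hy : a * y * a⁻¹ = y⁻¹)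
    (hfix : ∀ c ∈ Q, c * y = y * c → c = 1) (b s : G) (hb : b ^ 2 = 1) (hs : s ^ 2 = 1)
    (hbs : b * s = y) (hba : b * a⁻¹ ∈ Q) : b = a := by
  have hb' : b⁻¹ = b := by
    rw [inv_eq_iff_mul_eq_one, ← pow_two, hb]
  have hs' : s⁻¹ = s := by
    rw [inv_eq_iff_mul_eq_one, ← pow_two, hs]
  have h1 : b * y * b⁻¹ = y⁻¹ := by
    rw [← hbs, mul_inv_rev, hs', hb']
    have : b * b = 1 := by rw [← pow_two, hb]
    calc b * (b * s) * b = (b * b) * s * b := by group
      _ = s * b := by rw [this, one_mul]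
  have h2 : (b * a⁻¹) * y = y * (b * a⁻¹) := by
    have h3 : a⁻¹ * y = y⁻¹ * a⁻¹ := by
      have ha' : a⁻¹ = a := by rw [inv_eq_iff_mul_eq_one, ← pow_two, ha]
      calc a⁻¹ * y = (a * y * a⁻¹) * a⁻¹ := by
            rw [ha']
            have : a * a = 1 := by rw [← pow_two, ha]
            calc a * y = a * y * (a * a) := by rw [this, mul_one]
              _ = a * y * a * a := by group
        _ = y⁻¹ * a⁻¹ := by rw [hy]
    have h4 : b * y⁻¹ = y * b := by
      have h5 : y⁻¹ = b * y * b⁻¹ := h1.symm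
      calc b * y⁻¹ = b * (b * y * b⁻¹) := by rw [← h5]
        _ = (b * b) * y * b⁻¹ := by group
        _ = y * b := by
          have : b * b = 1 := by rw [← pow_two, hb]
          rw [this, one_mul, hb']
    calc b * a⁻¹ * y = b * (a⁻¹ * y) := by group
      _ = b * (y⁻¹ * a⁻¹) := by rw [h3]
      _ = (b * y⁻¹) * a⁻¹ := by group
      _ = y * b * a⁻¹ := by rw [h4]
      _ = y * (b * a⁻¹) := by group
  have h6 := hfix _ hba h2
  exact mul_inv_eq_one.mp h6

/-- The main lemma: all involutions of `Qa` are `Q`-conjugates of `a`, and `|C_Q(a)|² = |Q|`. -/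
theorem main (Q : Subgroup G) [hQ : Q.Normal] (a x : G) (ha : a ^ 2 = 1) (hx : a * x * a⁻¹ = x⁻¹)
    (r : ℕ) (hr : Odd r) (hxr : x ^ r = 1) (hfix : ∀ c ∈ Q, c * x = x * c → c = 1) :
    (∀ b : G, b ^ 2 = 1 → b * a⁻¹ ∈ Q → ∃ q ∈ Q, q * a * q⁻¹ = b) ∧
      Nat.card (Q ⊓ centralizer ({a} : Set G) : Subgroup G) ^ 2 = Nat.card Q := by
  classical
  set y : G := x⁻¹ * x⁻¹ with hydef
  have ha' : a⁻¹ = a := by rw [inv_eq_iff_mul_eq_one, ← pow_two, ha]
  have haa : a * a = 1 := by rw [← pow_two, ha]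
  have hxinv : a * x⁻¹ * a = x := by
    have h1 : a * x⁻¹ * a⁻¹ = (a * x * a⁻¹)⁻¹ := by group
    rw [hx, inv_inv, ha'] at h1
    exact h1
  have hx' : a * x * a = x⁻¹ := by
    have := hx
    rwa [ha'] at this
  have hy : a * y * a⁻¹ = y⁻¹ := by
    rw [ha', hydef]
    calc a * (x⁻¹ * x⁻¹) * a = (a * x⁻¹ * a) * (a * x⁻¹ * a) := by
          calc a * (x⁻¹ * x⁻¹) * a = a * x⁻¹ * 1 * x⁻¹ * a := by group
            _ = a * x⁻¹ * (a * a) * x⁻¹ * a := by rw [haa]
            _ = _ := by group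
      _ = x * x := by rw [hxinv]
      _ = (x⁻¹ * x⁻¹)⁻¹ := by rw [mul_inv_rev, inv_inv]
  -- fixed points of `y`
  have hfixy : ∀ c ∈ Q, c * y = y * c → c = 1 := by
    intro c hc hcy
    apply hfix c hc
    obtain ⟨k, hk⟩ := hr
    have h1 : Commute c y := hcy
    have h2 : Commute c (y ^ k) := h1.pow_right k
    have h3 : y ^ k = x := by
      have hcomm : Commute x⁻¹ x⁻¹ := Commute.refl _
      rw [hydef, ← pow_two, ← pow_mul, inv_pow]
      have h4 : x ^ (2 * k) * x = 1 := by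
        rw [← pow_succ, ← hk, hxr]
      rw [inv_eq_iff_mul_eq_one]
      rw [mul_comm 2 k] at h4 ⊢
      exact h4
    rw [h3] at h2
    exact h2
  -- the second involution
  set a₂ : G := y⁻¹ * a with ha₂def
  have haa₂ : a * a₂ = y := by
    have h1 : a * y⁻¹ * a = y := by
      have h2 : a * y⁻¹ * a⁻¹ = (a * y * a⁻¹)⁻¹ := by group
      rw [hy, inv_inv, ha'] at h2
      exact h2
    rw [ha₂def, ← mul_assoc]
    exact h1
  have ha₂sq : a₂ ^ 2 = 1 := by
    have h1 : a * y⁻¹ * a = y := by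
      have h2 : a * y⁻¹ * a⁻¹ = (a * y * a⁻¹)⁻¹ := by group
      rw [hy, inv_inv, ha'] at h2
      exact h2
    rw [pow_two, ha₂def]
    calc y⁻¹ * a * (y⁻¹ * a) = y⁻¹ * (a * y⁻¹ * a) := by group
      _ = 1 := by rw [h1]; group
  have ha₂conj : x * a * x⁻¹ = a₂ := by
    rw [ha₂def, hydef]
    have h1 : a * x⁻¹ = x * a := by
      calc a * x⁻¹ = a * x⁻¹ * (a * a) := by rw [haa, mul_one]
        _ = (a * x⁻¹ * a) * a := by group
        _ = x * a := by rw [hxinv]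
    calc x * a * x⁻¹ = x * (a * x⁻¹) := by group
      _ = x * (x * a) := by rw [h1]
      _ = (x⁻¹ * x⁻¹)⁻¹ * a := by rw [mul_inv_rev, inv_inv, mul_assoc]
  -- involution coset sets
  have hmem : ∀ (z q : G), q ∈ Q → (q * z * q⁻¹) * z⁻¹ ∈ Q := by
    intro z q hq
    have h1 : q * z * q⁻¹ * z⁻¹ = q * (z * q⁻¹ * z⁻¹) := by group
    rw [h1]
    exact Q.mul_mem hq (hQ.conj_mem _ (Q.inv_mem hq) z)
  have hsqc : ∀ (z q : G), z ^ 2 = 1 → (q * z * q⁻¹) ^ 2 = 1 := by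
    intro z q hz
    have : (q * z * q⁻¹) ^ 2 = q * z ^ 2 * q⁻¹ := by
      rw [pow_two, pow_two]; group
    rw [this, hz]
    group
  -- conjugation property
  have hkey : ∀ b : G, b ^ 2 = 1 → b * a⁻¹ ∈ Q → ∀ s : G, s ^ 2 = 1 → ∀ q ∈ Q, b * s = q * y * q⁻¹ →
      b = q * a * q⁻¹ := by
    intro b hb hbQ s hs q hq hbs
    have h1 : (q⁻¹ * b * q) ^ 2 = 1 := by
      have := hsqc b q⁻¹ hb
      simpa using this
    have h2 : (q⁻¹ * s * q) ^ 2 = 1 := by
      have := hsqc s q⁻¹ hs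
      simpa using this
    have h3 : (q⁻¹ * b * q) * (q⁻¹ * s * q) = y := by
      calc (q⁻¹ * b * q) * (q⁻¹ * s * q) = q⁻¹ * (b * s) * q := by group
        _ = y := by rw [hbs]; group
    have h4 : (q⁻¹ * b * q) * a⁻¹ ∈ Q := by
      have h5 : (q⁻¹ * b * q) * a⁻¹ = q⁻¹ * (b * a⁻¹) * (a * q * a⁻¹) := by group
      rw [h5]
      exact Q.mul_mem (Q.mul_mem (Q.inv_mem hq) hbQ) (hQ.conj_mem _ hq a)
    have h6 := key Q a y ha hy hfixy _ _ h1 h2 h3 h4
    calc b = q * (q⁻¹ * b * q) * q⁻¹ := by group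
      _ = q * a * q⁻¹ := by rw [h6]
  have hA : ∀ b : G, b ^ 2 = 1 → b * a⁻¹ ∈ Q → ∃ q ∈ Q, q * a * q⁻¹ = b := by
    intro b hb hbQ
    have h1 : b * a₂ * y⁻¹ ∈ Q := by
      have h2 : b * a₂ * y⁻¹ = (b * a⁻¹) * (a * a₂) * y⁻¹ := by group
      rw [h2, haa₂, mul_inv_cancel_right]
      exact hbQ
    obtain ⟨q, hq, hqw⟩ := exists_conj_of_fix Q y hfixy _ h1
    have h3 : b * a₂ = q * y * q⁻¹ := by
      have := mul_right_cancel hqw
      exact this.symm
    exact ⟨q, hq, (hkey b hb hbQ a₂ ha₂sq q hq h3).symm⟩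
  refine ⟨hA, ?_⟩
  -- counting
  let I : Type u := {b : G // b ^ 2 = 1 ∧ b * a⁻¹ ∈ Q}
  let I₂ : Type u := {b : G // b ^ 2 = 1 ∧ b * a₂⁻¹ ∈ Q}
  haveI : Finite I := Subtype.finite
  haveI : Finite I₂ := Subtype.finite
  -- |I| = |I₂|
  have hback : ∀ b : G, b * a₂⁻¹ ∈ Q → x⁻¹ * b * x * a⁻¹ ∈ Q := by
    intro b hb
    have h1 : x⁻¹ * b * x * a⁻¹ = x⁻¹ * (b * a₂⁻¹) * x⁻¹⁻¹ := by
      rw [← ha₂conj]; group
    rw [h1]
    exact hQ.conj_mem _ hb x⁻¹
  have hforw : ∀ b : G, b * a⁻¹ ∈ Q → x * b * x⁻¹ * a₂⁻¹ ∈ Q := by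
    intro b hb
    have h1 : x * b * x⁻¹ * a₂⁻¹ = x * (b * a⁻¹) * x⁻¹ := by
      rw [← ha₂conj]; group
    rw [h1]
    exact hQ.conj_mem _ hb x
  have hI₂ : Nat.card I₂ = Nat.card I := by
    apply Nat.card_congr
    symm
    refine ⟨fun b => ⟨x * b.1 * x⁻¹, ?_, ?_⟩, fun b => ⟨x⁻¹ * b.1 * x, ?_, ?_⟩, ?_, ?_⟩
    · exact hsqc _ _ b.2.1
    · exact hforw _ b.2.2
    · have := hsqc b.1 x⁻¹ b.2.1
      simpa using this
    · exact hback _ b.2.2
    · intro b
      apply Subtype.ext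
      show x⁻¹ * (x * b.1 * x⁻¹) * x = b.1
      group
    · intro b
      apply Subtype.ext
      show x * (x⁻¹ * b.1 * x) * x⁻¹ = b.1
      group
  -- |I| |I₂| = |Q|
  have hprod : Nat.card Q = Nat.card I * Nat.card I₂ := by
    rw [← Nat.card_prod]
    symm
    apply Nat.card_congr
    have hmemQ : ∀ p : I × I₂, p.1.1 * p.2.1 * y⁻¹ ∈ Q := by
      rintro ⟨⟨b, hb, hbQ⟩, ⟨s, hs, hsQ⟩⟩
      show b * s * y⁻¹ ∈ Q
      have h1 : b * s * y⁻¹ = (b * a⁻¹) * (a * (s * a₂⁻¹) * a⁻¹) * (a * a₂ * y⁻¹) := by group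
      rw [h1, haa₂, mul_inv_cancel, mul_one]
      exact Q.mul_mem hbQ (hQ.conj_mem _ hsQ a)
    refine Equiv.ofBijective (fun p : I × I₂ => (⟨p.1.1 * p.2.1 * y⁻¹, hmemQ p⟩ : Q)) ⟨?_, ?_⟩
    · rintro ⟨⟨b, hb, hbQ⟩, ⟨s, hs, hsQ⟩⟩ ⟨⟨b', hb', hbQ'⟩, ⟨s', hs', hsQ'⟩⟩ h
      have h0 : b * s * y⁻¹ = b' * s' * y⁻¹ := congrArg Subtype.val h
      have h1 : b * s = b' * s' := mul_right_cancel h0
      obtain ⟨q, hq, hqw⟩ := exists_conj_of_fix Q y hfixy _ (hmemQ (⟨b, hb, hbQ⟩, ⟨s, hs, hsQ⟩))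
      have h3 : b * s = q * y * q⁻¹ := (mul_right_cancel hqw).symm
      have h4 := hkey b hb hbQ s hs q hq h3
      have h5 := hkey b' hb' hbQ' s' hs' q hq (by rw [← h1, h3])
      have h6 : b = b' := by rw [h4, h5]
      have h7 : s = s' := by
        rw [h6] at h1
        exact mul_left_cancel h1
      subst h6
      subst h7
      rfl
    · rintro ⟨w, hw⟩
      obtain ⟨q, hq, hqw⟩ := exists_conj_of_fix Q y hfixy w hw
      have h1 : (q * a * q⁻¹) * a⁻¹ ∈ Q := hmem a q hq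
      have h2 : (q * a₂ * q⁻¹) * a₂⁻¹ ∈ Q := hmem a₂ q hq
      refine ⟨(⟨q * a * q⁻¹, hsqc a q ha, h1⟩, ⟨q * a₂ * q⁻¹, hsqc a₂ q ha₂sq, h2⟩), ?_⟩
      apply Subtype.ext
      show q * a * q⁻¹ * (q * a₂ * q⁻¹) * y⁻¹ = w
      rw [← hqw]
      have h3 : q * a * q⁻¹ * (q * a₂ * q⁻¹) * y⁻¹ = q * (a * a₂) * q⁻¹ * y⁻¹ := by group
      rw [h3, haa₂]
  -- |Q| = |I| |C|
  set C : Subgroup Q := (centralizer ({a} : Set G)).subgroupOf Q with hCdef
  have hCcard : Nat.card C = Nat.card (Q ⊓ centralizer ({a} : Set G) : Subgroup G) := by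
    have h1 : C = ((Q ⊓ centralizer ({a} : Set G) : Subgroup G)).subgroupOf Q :=
      (Subgroup.inf_subgroupOf_left _ _).symm
    rw [h1]
    exact Nat.card_congr (Subgroup.subgroupOfEquivOfLe inf_le_left).toEquiv
  have hfiber : Nat.card Q = Nat.card I * Nat.card C := by
    refine card_of_fibers C (fun q : Q => (⟨q * a * (q : G)⁻¹, hsqc a q ha, hmem a q q.2⟩ : I)) ?_ ?_
    · rintro ⟨b, hb, hbQ⟩
      obtain ⟨q, hq, hqb⟩ := hA b hb hbQ
      exact ⟨⟨q, hq⟩, Subtype.ext hqb⟩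
    · intro p q
      constructor
      · intro h
        have h1 : (p : G) * a * (p : G)⁻¹ = q * a * (q : G)⁻¹ := congrArg Subtype.val h
        show ((p⁻¹ * q : Q) : G) ∈ centralizer ({a} : Set G)
        rw [mem_centralizer_iff]
        intro z hz
        rw [Set.mem_singleton_iff] at hz
        subst hz
        have h2 : (q : G) * z = p * z * (p : G)⁻¹ * q := by
          rw [h1]; group
        simp only [Subgroup.coe_mul, Subgroup.coe_inv]
        calc z * ((p : G)⁻¹ * q) = (p : G)⁻¹ * (p * z * (p : G)⁻¹ * q) := by group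
          _ = (p : G)⁻¹ * (q * z) := by rw [← h2]
          _ = _ := by group
      · intro h
        apply Subtype.ext
        have h0 : ((p⁻¹ * q : Q) : G) ∈ centralizer ({a} : Set G) := h
        rw [mem_centralizer_iff] at h0
        have h2 := h0 a rfl
        simp only [Subgroup.coe_mul, Subgroup.coe_inv] at h2
        show (p : G) * a * (p : G)⁻¹ = q * a * (q : G)⁻¹
        have h3 : (q : G) * a = p * (a * ((p : G)⁻¹ * q)) := by
          rw [h2]; group
        rw [h3]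
        group
  -- conclude
  rw [← hCcard, pow_two]
  rw [hI₂] at hprod
  have hpos : 0 < Nat.card I := by
    apply Nat.pos_of_ne_zero
    intro h0
    rw [h0] at hprod
    have : 0 < Nat.card Q := Nat.card_pos
    omega
  have h9 : Nat.card I * Nat.card C = Nat.card I * Nat.card I := by
    rw [← hfiber, hprod]
  have h10 : Nat.card C = Nat.card I := Nat.eq_of_mul_eq_mul_left hpos h9
  rw [hprod, h10]

end CfsgLib.DihAct
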