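import Cfsg.Agent.Lib.H3.DihAct

/-!
# Groups `G` with `G / O₂(G)` dihedral of order `2r` with fixed point free action.
-/

set_option linter.unusedSectionVars false
set_option linter.style.haveILetI false
set_option linter.unusedSimpArgs false
set_option linter.unusedVariables false

namespace CfsgLib.DihAct

open Subgroup DihedralGroup

universe u

variable {G : Type u} [Group G] [Finite G]

theorem main2 (Q : Subgroup G) [hQn : Q.Normal] (hQ2 : IsPGroup 2 Q) {p : ℕ} [hrp : Fact p.Prime] (hr : p ≠ 2)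
    (Φ : G →* DihedralGroup p) (hΦs : Function.Surjective Φ) (hΦk : ∀ g, Φ g = 1 ↔ g ∈ Q)
    (R : Sylow p G) (hC : Q ⊓ centralizer ((R : Subgroup G) : Set G) = ⊥) :
    Nonempty (↥(normalizer ((R : Subgroup G) : Set G)) ≃* DihedralGroup p) ∧
      ∀ a : G, a ∈ normalizer ((R : Subgroup G) : Set G) → orderOf a = 2 →
        (∀ b : G, orderOf b = 2 → b ∉ Q → ∃ g : G, g * a * g⁻¹ = b) ∧
          Nat.card ↥(Q ⊓ centralizer ({a} : Set G)) ^ 2 = Nat.card Q := by
  classical
  haveI : NeZero p := ⟨hrp.out.ne_zero⟩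
  have hodd : Odd p := hrp.out.odd_of_ne_two hr
  have h2ne : (2 : ZMod p) ≠ 0 := by
    intro h
    have h1 : ((2 : ℕ) : ZMod p) = 0 := by exact_mod_cast h
    rw [ZMod.natCast_eq_zero_iff] at h1
    exact hr ((Nat.prime_dvd_prime_iff_eq hrp.out Nat.prime_two).mp h1)
  -- (0) R ∩ Q = 1
  have hRQ : ∀ u ∈ (R : Subgroup G), u ∈ Q → u = 1 := by
    intro u hu hq
    obtain ⟨k, hk⟩ := R.2 ⟨u, hu⟩
    obtain ⟨m, hm⟩ := hQ2 ⟨u, hq⟩
    have h1 : u ^ p ^ k = 1 := congrArg Subtype.val hk
    have h2 : u ^ 2 ^ m = 1 := congrArg Subtype.val hm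
    have h3 : Nat.Coprime (p ^ k) (2 ^ m) :=
      Nat.Coprime.pow _ _ (Nat.coprime_two_right.mpr hodd)
    exact orderOf_eq_one_iff.mp (Nat.eq_one_of_dvd_coprimes h3 (orderOf_dvd_of_pow_eq_one h1)
      (orderOf_dvd_of_pow_eq_one h2))
  -- reflections have even order
  have hsr_pow : ∀ (i : ZMod p) (n : ℕ), Odd n → (sr i : DihedralGroup p) ^ n = sr i := by
    intro i n hn
    obtain ⟨m, rfl⟩ := hn
    rw [pow_succ, pow_mul, pow_two, sr_mul_self, one_pow, one_mul]
  have hsr_ne : ∀ i : ZMod p, (sr i : DihedralGroup p) ≠ 1 := by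
    intro i h
    rw [DihedralGroup.one_def] at h
    cases h
  -- (1) rotations
  have hrot : ∀ u ∈ (R : Subgroup G), ∃ i : ZMod p, Φ u = r i := by
    intro u hu
    rcases h : Φ u with i | i
    · exact ⟨i, rfl⟩
    · exfalso
      obtain ⟨k, hk⟩ := R.2 ⟨u, hu⟩
      have h1 : u ^ p ^ k = 1 := congrArg Subtype.val hk
      have h2 : (sr i : DihedralGroup p) ^ p ^ k = 1 := by
        rw [← h, ← map_pow, h1, map_one]
      rw [hsr_pow i _ (hodd.pow)] at h2
      exact hsr_ne i h2
  -- (2) a good element of R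
  have hdvd : p ∣ Nat.card G := by
    obtain ⟨x₀, hx₀⟩ := hΦs (r 1)
    have h1 : orderOf (r 1 : DihedralGroup p) ∣ orderOf x₀ := by
      rw [← hx₀]
      exact orderOf_map_dvd Φ x₀
    rw [orderOf_r_one] at h1
    exact h1.trans (orderOf_dvd_natCard x₀)
  have hdvdR : p ∣ Nat.card (R : Subgroup G) := by
    have h1 := R.pow_dvd_card_of_pow_dvd_card (n := 1) (by rwa [pow_one])
    rwa [pow_one] at h1
  obtain ⟨u, hu⟩ := exists_prime_orderOf_dvd_card' (G := (R : Subgroup G)) p hdvdR
  have hu1 : (u : G) ≠ 1 := by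
    intro h
    have h0 : u = 1 := Subtype.ext h
    rw [h0, orderOf_one] at hu
    exact hrp.out.one_lt.ne hu
  obtain ⟨i, hi⟩ := hrot u u.2
  have hi0 : i ≠ 0 := by
    intro h
    apply hu1
    apply hRQ _ u.2
    rw [← hΦk, hi, h, r_zero]
  set x : G := (u : G) ^ (i⁻¹).val with hxdef
  have hxR : x ∈ (R : Subgroup G) := pow_mem u.2 _
  have hΦx : Φ x = r 1 := by
    rw [hxdef, map_pow, hi]
    rw [r_pow]
    congr 1
    rw [ZMod.natCast_zmod_val]
    field_simp
  have hΦxpow : ∀ k : ℕ, Φ (x ^ k) = r (k : ZMod p) := by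
    intro k
    rw [map_pow, hΦx, r_one_pow]
  -- (3)
  have hxr : x ^ p = 1 := by
    apply hRQ _ (pow_mem hxR p)
    rw [← hΦk, hΦxpow]
    simp
  -- (4)
  have hgen : ∀ u ∈ (R : Subgroup G), ∃ k : ℕ, u = x ^ k := by
    intro w hw
    obtain ⟨j, hj⟩ := hrot w hw
    refine ⟨j.val, ?_⟩
    have h1 : w * (x ^ j.val)⁻¹ = 1 := by
      apply hRQ _ ((R : Subgroup G).mul_mem hw ((R : Subgroup G).inv_mem (pow_mem hxR _)))
      rw [← hΦk, map_mul, map_inv, hΦxpow, hj, ZMod.natCast_zmod_val]
      simp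
    exact mul_inv_eq_one.mp h1
  -- (5)
  have hfix : ∀ c ∈ Q, c * x = x * c → c = 1 := by
    intro c hc hcx
    have h1 : c ∈ Q ⊓ centralizer ((R : Subgroup G) : Set G) := by
      refine ⟨hc, ?_⟩
      show c ∈ centralizer ((R : Subgroup G) : Set G)
      rw [mem_centralizer_iff]
      intro w hw
      obtain ⟨k, rfl⟩ := hgen w hw
      have h2 : Commute c x := hcx
      exact (h2.pow_right k).eq.symm
    rw [hC, Subgroup.mem_bot] at h1
    exact h1
  -- (6)
  have hNQ : ∀ a ∈ normalizer ((R : Subgroup G) : Set G), a ∈ Q → a = 1 := by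
    intro a haN haQ
    have h1 : a ∈ Q ⊓ centralizer ((R : Subgroup G) : Set G) := by
      refine ⟨haQ, ?_⟩
      show a ∈ centralizer ((R : Subgroup G) : Set G)
      rw [mem_centralizer_iff]
      intro w hw
      have h2 : a * w * a⁻¹ ∈ (R : Subgroup G) := (Subgroup.mem_normalizer_iff.mp haN w).mp hw
      have h3 : a * w * a⁻¹ * w⁻¹ = 1 := by
        apply hRQ _ ((R : Subgroup G).mul_mem h2 ((R : Subgroup G).inv_mem hw))
        have h4 : a * w * a⁻¹ * w⁻¹ = a * (w * a⁻¹ * w⁻¹) := by group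
        rw [h4]
        exact Q.mul_mem haQ (hQn.conj_mem _ (Q.inv_mem haQ) w)
      have h5 : a * w * a⁻¹ = w := mul_inv_eq_one.mp h3
      calc w * a = (a * w * a⁻¹) * a := by rw [h5]
        _ = a * w := by group
    rw [hC, Subgroup.mem_bot] at h1
    exact h1
  -- (7) involutions outside Q map to reflections
  have hinv : ∀ g : G, orderOf g = 2 → g ∉ Q → ∃ i : ZMod p, Φ g = sr i := by
    intro g hg hgQ
    have hg2 : g ^ 2 = 1 := by rw [← hg, pow_orderOf_eq_one]
    rcases h : Φ g with j | j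
    · exfalso
      have h1 : (r j : DihedralGroup p) ^ 2 = 1 := by
        rw [← h, ← map_pow, hg2, map_one]
      rw [r_pow, ← r_zero, DihedralGroup.r.injEq] at h1
      push_cast at h1
      have h2 : (2 : ZMod p) * j = 0 := by
        rw [← h1]
        ring
      have h3 : j = 0 := by
        rcases mul_eq_zero.mp h2 with h4 | h4
        · exact absurd h4 h2ne
        · exact h4
      apply hgQ
      rw [← hΦk, h, h3, r_zero]
    · exact ⟨j, rfl⟩
  refine ⟨?_, ?_⟩
  · -- the isomorphism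
    let f : normalizer ((R : Subgroup G) : Set G) →* DihedralGroup p :=
      Φ.comp (normalizer ((R : Subgroup G) : Set G)).subtype
    have hfinj : Function.Injective f := by
      rw [injective_iff_map_eq_one]
      intro n hn
      have h1 : (n : G) ∈ Q := (hΦk n).mp hn
      exact Subtype.ext (hNQ n n.2 h1)
    have hfsurj : Function.Surjective f := by
      intro d
      let K : Subgroup (DihedralGroup p) := zpowers (r 1)
      have hKmem : ∀ j : ZMod p, (r j : DihedralGroup p) ∈ K := by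
        intro j
        refine ⟨(j.val : ℤ), ?_⟩
        show (r 1 : DihedralGroup p) ^ (j.val : ℤ) = r j
        rw [zpow_natCast, r_one_pow, ZMod.natCast_zmod_val]
      have hKrot : ∀ e ∈ K, ∃ j : ZMod p, e = r j := by
        intro e he
        obtain ⟨k, rfl⟩ := mem_zpowers_iff.mp he
        induction k using Int.induction_on with
        | zero => exact ⟨0, by simp [r_zero]⟩
        | succ k ih =>
          refine ⟨((k + 1 : ℕ) : ZMod p), ?_⟩
          have : ((k : ℤ) + 1) = ((k + 1 : ℕ) : ℤ) := by push_cast; ring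
          rw [this, zpow_natCast, r_one_pow]
        | pred k ih =>
          refine ⟨-((k + 1 : ℕ) : ZMod p), ?_⟩
          have : (-(k : ℤ) - 1) = -((k + 1 : ℕ) : ℤ) := by push_cast; ring
          rw [this, zpow_neg, zpow_natCast, r_one_pow, inv_r]
      haveI hKn : K.Normal := by
        constructor
        intro n hn g
        obtain ⟨j, rfl⟩ := hKrot n hn
        rcases g with t | t
        · simp only [inv_r, r_mul_r]
          exact hKmem _
        · simp only [inv_sr, sr_mul_r, sr_mul_sr]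
          exact hKmem _
      let M : Subgroup G := K.comap Φ
      haveI hMn : M.Normal := hKn.comap Φ
      have hRM : (R : Subgroup G) ≤ M := by
        intro w hw
        obtain ⟨j, hj⟩ := hrot w hw
        show Φ w ∈ K
        rw [hj]
        exact hKmem j
      have htop := Sylow.normalizer_sup_eq_top' R hRM
      obtain ⟨g, hg⟩ := hΦs d
      have hgmem : g ∈ normalizer ((R : Subgroup G) : Set G) ⊔ M := by
        have htop' : normalizer ((R : Subgroup G) : Set G) ⊔ M = ⊤ := htop
        rw [htop']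
        exact mem_top g
      have hset := Subgroup.mul_normal (normalizer ((R : Subgroup G) : Set G)) M
      rw [← SetLike.mem_coe, hset] at hgmem
      obtain ⟨n, hn, m, hm, rfl⟩ := Set.mem_mul.mp hgmem
      obtain ⟨j, hj⟩ := hKrot _ (show Φ m ∈ K from hm)
      have hxN : x ^ j.val ∈ normalizer ((R : Subgroup G) : Set G) :=
        Subgroup.le_normalizer (pow_mem hxR _)
      refine ⟨⟨n * x ^ j.val, mul_mem hn hxN⟩, ?_⟩
      show Φ (n * x ^ j.val) = d
      rw [← hg, map_mul, map_mul, hΦxpow, hj, ZMod.natCast_zmod_val]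
    exact ⟨(MulEquiv.ofBijective f ⟨hfinj, hfsurj⟩)⟩
  · intro a haN hao
    have ha2 : a ^ 2 = 1 := by rw [← hao, pow_orderOf_eq_one]
    have haQ : a ∉ Q := by
      intro h
      have h1 := hNQ a haN h
      rw [h1, orderOf_one] at hao
      omega
    obtain ⟨i, hi⟩ := hinv a hao haQ
    -- (8) a inverts x
    have hax : a * x * a⁻¹ = x⁻¹ := by
      have h1 : a * x * a⁻¹ ∈ (R : Subgroup G) := (Subgroup.mem_normalizer_iff.mp haN x).mp hxR
      have h2 : a * x * a⁻¹ * x = 1 := by
        apply hRQ _ ((R : Subgroup G).mul_mem h1 hxR)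
        rw [← hΦk, map_mul, map_mul, map_mul, map_inv, hi, hΦx]
        simp only [inv_sr, sr_mul_r, sr_mul_sr, r_mul_r]
        rw [← r_zero]
        congr 1
        ring
      exact eq_inv_of_mul_eq_one_left h2
    obtain ⟨hA, hcount⟩ := main Q a x ha2 hax p hodd hxr hfix
    refine ⟨?_, hcount⟩
    intro b hbo hbQ
    have hb2 : b ^ 2 = 1 := by rw [← hbo, pow_orderOf_eq_one]
    obtain ⟨j, hj⟩ := hinv b hbo hbQ
    -- conjugate `a` by a rotation to get into the coset of `b`
    set t : ZMod p := (i - j) / 2 with ht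
    obtain ⟨g₁, hg₁⟩ := hΦs (r t)
    have h2t : t + t = i - j := by
      rw [ht]
      field_simp
      ring
    have h1 : (g₁⁻¹ * b * g₁) ^ 2 = 1 := by
      have : (g₁⁻¹ * b * g₁) ^ 2 = g₁⁻¹ * b ^ 2 * g₁ := by
        rw [pow_two, pow_two]; group
      rw [this, hb2]
      group
    have h2 : (g₁⁻¹ * b * g₁) * a⁻¹ ∈ Q := by
      rw [← hΦk, map_mul, map_mul, map_mul, map_inv, map_inv, hg₁, hj, hi]
      simp only [inv_sr, inv_r, r_mul_sr, sr_mul_r, sr_mul_sr]
      rw [← r_zero]
      congr 1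
      have h3 : i = t + t + j := by rw [h2t]; ring
      rw [h3]
      ring
    obtain ⟨q, hq, hqb⟩ := hA _ h1 h2
    refine ⟨g₁ * q, ?_⟩
    calc g₁ * q * a * (g₁ * q)⁻¹ = g₁ * (q * a * q⁻¹) * g₁⁻¹ := by group
      _ = b := by rw [hqb]; group

end CfsgLib.DihAct
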