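import Cfsg.Agent.Lib.Fusion.Normal

set_option autoImplicit false

namespace CfsgLib.FusEss

open Subgroup Cfsg Cfsg.FusionSystem CfsgLib.Fusion

/-- A `p`-power-order permutation of a `p`-element set with a fixed point is trivial. -/
theorem perm_fix {Y : Type*} [Finite Y] (p : ℕ) [hp : Fact p.Prime] (hc : Nat.card Y = p)
    (σ : Equiv.Perm Y) (n : ℕ) (hσ : σ ^ (p ^ n) = 1) (a : Y) (ha : σ a = a) : σ = 1 := by
  classical
  have hP : IsPGroup p (zpowers σ) := by
    rintro ⟨g, k, rfl⟩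
    refine ⟨n, Subtype.ext ?_⟩
    show ((σ ^ k) ^ (p ^ n) : Equiv.Perm Y) = 1
    rw [← zpow_natCast, zpow_comm, zpow_natCast, hσ, one_zpow]
  have hmod := hP.card_modEq_card_fixedPoints Y
  have ha' : a ∈ MulAction.fixedPoints (zpowers σ) Y := by
    rintro ⟨g, k, rfl⟩
    show (σ ^ k) a = a
    have h1 : ∀ m : ℕ, (σ ^ m) a = a := by
      intro m
      induction m with
      | zero => rfl
      | succ m ih => rw [pow_succ, Equiv.Perm.mul_apply, ha, ih]
    have h2 : ∀ m : ℕ, (σ⁻¹ ^ m) a = a := by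
      intro m
      induction m with
      | zero => rfl
      | succ m ih =>
        have : σ⁻¹ a = a := by rw [Equiv.Perm.inv_eq_iff_eq]; exact ha.symm
        rw [pow_succ, Equiv.Perm.mul_apply, this, ih]
    cases k with
    | ofNat m => simpa using h1 m
    | negSucc m =>
      rw [zpow_negSucc, ← inv_pow]
      exact h2 _
  have hpos : 0 < Nat.card (MulAction.fixedPoints (zpowers σ) Y) := by
    haveI : Nonempty (MulAction.fixedPoints (zpowers σ) Y) := ⟨⟨a, ha'⟩⟩
    exact Nat.card_pos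
  have hdvd : p ∣ Nat.card (MulAction.fixedPoints (zpowers σ) Y) := by
    have h0 : Nat.card Y ≡ 0 [MOD p] := by rw [hc]; exact (Nat.modEq_zero_iff_dvd).2 dvd_rfl
    exact (Nat.modEq_zero_iff_dvd).1 (hmod.symm.trans h0)
  have hle : p ≤ Nat.card (MulAction.fixedPoints (zpowers σ) Y) := Nat.le_of_dvd hpos hdvd
  have htop : MulAction.fixedPoints (zpowers σ) Y = Set.univ := by
    apply Set.eq_of_subset_of_ncard_le (Set.subset_univ _) _ Set.finite_univ
    rw [Set.ncard_univ, hc, ← Nat.card_coe_set_eq]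
    exact hle
  ext y
  have hy : y ∈ MulAction.fixedPoints (zpowers σ) Y := htop ▸ Set.mem_univ y
  have h3 : σ y = y := hy ⟨σ, mem_zpowers σ⟩
  rw [h3]
  rfl

/-- A `p`-element acts trivially on an invariant section of order `p`. -/
theorem step {H : Type*} [Group H] [Finite H] (p : ℕ) [hp : Fact p.Prime] (t : MulAut H) (n : ℕ)
    (ht : t ^ (p ^ n) = 1) (C₁ C₂ : Subgroup H) (h12 : C₁ ≤ C₂) (hidx : C₁.relIndex C₂ = p)
    (h1 : ∀ x ∈ C₁, t x ∈ C₁) (h1' : ∀ x ∈ C₁, t⁻¹ x ∈ C₁)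
    (h2 : ∀ x ∈ C₂, t x ∈ C₂) (h2' : ∀ x ∈ C₂, t⁻¹ x ∈ C₂) :
    ∀ x ∈ C₂, x⁻¹ * t x ∈ C₁ := by
  classical
  let L := C₁.subgroupOf C₂
  let f : C₂ → C₂ := fun x => ⟨t x, h2 x x.2⟩
  let g : C₂ → C₂ := fun x => ⟨t⁻¹ x, h2' x x.2⟩
  have hfr : ∀ a b : C₂, (QuotientGroup.leftRel L) a b → (QuotientGroup.leftRel L) (f a) (f b) := by
    intro a b hab
    rw [QuotientGroup.leftRel_apply] at hab ⊢
    rw [mem_subgroupOf] at hab ⊢
    have e : (((f a)⁻¹ * f b : C₂) : H) = t (((a⁻¹ * b : C₂) : H)) := by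
      show (t (a : H))⁻¹ * t (b : H) = t (((a : H))⁻¹ * (b : H))
      rw [map_mul, map_inv]
    rw [e]
    exact h1 _ hab
  have hgr : ∀ a b : C₂, (QuotientGroup.leftRel L) a b → (QuotientGroup.leftRel L) (g a) (g b) := by
    intro a b hab
    rw [QuotientGroup.leftRel_apply] at hab ⊢
    rw [mem_subgroupOf] at hab ⊢
    have e : (((g a)⁻¹ * g b : C₂) : H) = t⁻¹ (((a⁻¹ * b : C₂) : H)) := by
      show (t⁻¹ (a : H))⁻¹ * t⁻¹ (b : H) = t⁻¹ (((a : H))⁻¹ * (b : H))
      rw [map_mul, map_inv]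
    rw [e]
    exact h1' _ hab
  let σf : C₂ ⧸ L → C₂ ⧸ L := Quotient.map f hfr
  let σg : C₂ ⧸ L → C₂ ⧸ L := Quotient.map g hgr
  have hσf : ∀ a : C₂, σf (a : C₂ ⧸ L) = (f a : C₂ ⧸ L) := fun a => rfl
  have hσg : ∀ a : C₂, σg (a : C₂ ⧸ L) = (g a : C₂ ⧸ L) := fun a => rfl
  let σ : Equiv.Perm (C₂ ⧸ L) :=
    { toFun := σf
      invFun := σg
      left_inv := by
        intro c
        induction c using QuotientGroup.induction_on with
        | H a =>
          rw [hσf, hσg]
          congr 1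
          apply Subtype.ext
          show t⁻¹ (t (a : H)) = a
          simp
      right_inv := by
        intro c
        induction c using QuotientGroup.induction_on with
        | H a =>
          rw [hσg, hσf]
          congr 1
          apply Subtype.ext
          show t (t⁻¹ (a : H)) = a
          simp }
  have hσ : ∀ a : C₂, σ (a : C₂ ⧸ L) = (f a : C₂ ⧸ L) := fun a => rfl
  have hpow : ∀ (k : ℕ) (a : C₂), ∃ b : C₂, (σ ^ k) (a : C₂ ⧸ L) = (b : C₂ ⧸ L) ∧ (b : H) = (t ^ k) (a : H) := by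
    intro k a
    induction k with
    | zero => exact ⟨a, rfl, rfl⟩
    | succ k ih =>
      obtain ⟨b, hb1, hb2⟩ := ih
      refine ⟨f b, ?_, ?_⟩
      · rw [pow_succ', Equiv.Perm.mul_apply, hb1, hσ]
      · show t (b : H) = _
        rw [hb2, pow_succ', MulAut.mul_apply]
  have hσ1 : σ ^ (p ^ n) = 1 := by
    ext c
    induction c using QuotientGroup.induction_on with
    | H a =>
      obtain ⟨b, hb1, hb2⟩ := hpow (p ^ n) a
      rw [hb1]
      have : b = a := by
        apply Subtype.ext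
        rw [hb2, ht]
        rfl
      rw [this]
      rfl
  have hone : σ ((1 : C₂) : C₂ ⧸ L) = ((1 : C₂) : C₂ ⧸ L) := by
    rw [hσ]
    congr 1
    apply Subtype.ext
    show t 1 = 1
    exact map_one t
  have hcard : Nat.card (C₂ ⧸ L) = p := hidx
  have hσone := perm_fix p hcard σ n hσ1 _ hone
  intro x hx
  have h3 : σ ((⟨x, hx⟩ : C₂) : C₂ ⧸ L) = ((⟨x, hx⟩ : C₂) : C₂ ⧸ L) := by
    rw [hσone]; rfl
  rw [hσ] at h3
  have h4 := QuotientGroup.eq.1 h3.symm
  rw [mem_subgroupOf] at h4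
  exact h4

variable {Ω : Type*} [Group Ω] {S : Subgroup Ω} [Finite S] {p : ℕ} [hp : Fact p.Prime]

/-- An essential subgroup has no characteristic chain with factors of order `p`. -/
theorem no_chain (hS : IsPGroup p S) (F : FusionSystem S) (H : Subgroup Ω) (hH : F.IsEssential p H)
    (D : ℕ → Subgroup H) (m : ℕ) (h0 : D 0 = ⊥) (hm : D m = ⊤) (hmono : Monotone D)
    (hchar : ∀ (γ : MulAut H) (j : ℕ), ∀ x ∈ D j, γ x ∈ D j)
    (hstep : ∀ j < m, (D j).relIndex (D (j + 1)) = p ∨ D j = D (j + 1)) : False := by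
  have hrad := isRadical_of_isEssential hS F H hH
  obtain ⟨⟨hHS, -⟩, -, hI, E, hE⟩ := hH
  haveI : Finite H := finite_of_le hHS
  haveI : Finite (MulAut H) := finite_mulAut _
  have hHp : IsPGroup p H := hS.to_le hHS
  obtain ⟨T⟩ : Nonempty (Sylow p (F.autGroup H)) := inferInstance
  have hT : (T : Subgroup (F.autGroup H)) ≤ (stabGroup D m hmono).subgroupOf (F.autGroup H) := by
    intro t ht
    rw [mem_subgroupOf]
    obtain ⟨n, hn⟩ := T.isPGroup' ⟨t, ht⟩
    have hn' : ((t : F.autGroup H) : MulAut H) ^ (p ^ n) = 1 := by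
      have h1 := congrArg (fun y : T => ((y : F.autGroup H) : MulAut H)) hn
      simpa using h1
    apply mem_stabGroup_of_forward
    intro j hj x hx
    rcases hstep j hj with h | h
    · exact step p _ n hn' (D j) (D (j + 1)) (hmono (Nat.le_succ j)) h
        (fun y hy => hchar _ j y hy) (fun y hy => hchar _ j y hy)
        (fun y hy => hchar _ _ y hy) (fun y hy => hchar _ _ y hy) x hx
    · rw [← h] at hx
      exact (D j).mul_mem ((D j).inv_mem hx) (hchar _ j x hx)
  have h1 := stab_le_pCore hHp (F.autGroup H) D m h0 hm hmono (fun γ _ j x hx => hchar γ j x hx)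
  have h2 : (T : Subgroup (F.autGroup H)) ≤ (Inn H).subgroupOf (F.autGroup H) := by
    intro t ht
    rw [mem_subgroupOf, ← hrad.2]
    exact ⟨t, h1 (hT ht), rfl⟩
  have h3 : ((Inn H).subgroupOf (F.autGroup H)).index ∣ (T : Subgroup (F.autGroup H)).index :=
    Subgroup.index_dvd_of_le h2
  exact T.not_dvd_index (hE.1.trans h3)

end CfsgLib.FusEss
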