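import Cfsg.Agent.Lib.SS.UniqueP
import Mathlib.GroupTheory.SpecificGroups.Quaternion

/-! Facts on the generalized quaternion groups: abelian subgroups of index two are inverted. -/

namespace CfsgLib.GenQuat

open QuaternionGroup

set_option maxRecDepth 10000 in
lemma q8_case : ∀ (j : ZMod 4) (g u : QuaternionGroup 2),
    u * xa j = xa j * u → g ≠ a 0 → g ≠ a 2 → g ≠ xa j → g ≠ xa (j + 2) →
    g * u * g⁻¹ = u⁻¹ ∧ g * g = a 2 := by
  decide

theorem quat_key (N : ℕ) (hN : 2 ≤ N) (B : Subgroup (QuaternionGroup N))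
    (hB : IsMulCommutative B) (hidx : B.index = 2) (g : QuaternionGroup N) (hg : g ∉ B) :
    (∀ u ∈ B, g * u * g⁻¹ = u⁻¹) ∧ g * g = a (N : ZMod (2 * N)) := by
  classical
  have hsq : ∀ x, x * x ∈ B := fun x => by
    rw [Subgroup.mul_mem_iff_of_index_two hidx]
  by_cases hx : ∃ j, xa j ∈ B
  · obtain ⟨j, hj⟩ := hx
    have h2 : (a 2 : QuaternionGroup N) ∈ B := by
      have := hsq (a 1)
      rw [a_mul_a, one_add_one_eq_two] at this
      exact this
    have hc := hB.is_comm.comm (⟨_, h2⟩ : B) ⟨_, hj⟩
    have hc' : (a 2 : QuaternionGroup N) * xa j = xa j * a 2 := congrArg Subtype.val hc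
    rw [a_mul_xa, xa_mul_a] at hc'
    have hc2 : j - 2 = j + 2 := xa.inj hc'
    have h4 : ((4 : ℕ) : ZMod (2 * N)) = 0 := by
      have : (4 : ZMod (2 * N)) = 0 := by linear_combination -hc2
      exact_mod_cast this
    rw [ZMod.natCast_eq_zero_iff] at h4
    have hN2 : N = 2 := by
      have := Nat.le_of_dvd (by norm_num) h4
      omega
    subst hN2
    have hj2 : xa (j + 2) ∈ B := B.mul_mem hj h2
    have h0 : (a 0 : QuaternionGroup 2) ∈ B := B.one_mem
    refine ⟨fun u hu => ?_, ?_⟩
    · refine (q8_case j g u ?_ ?_ ?_ ?_ ?_).1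
      · exact congrArg Subtype.val (hB.is_comm.comm (⟨u, hu⟩ : B) ⟨_, hj⟩)
      · rintro rfl; exact hg h0
      · rintro rfl; exact hg h2
      · rintro rfl; exact hg hj
      · rintro rfl; exact hg hj2
    · refine (q8_case j g 1 (by simp) ?_ ?_ ?_ ?_).2
      · rintro rfl; exact hg h0
      · rintro rfl; exact hg h2
      · rintro rfl; exact hg hj
      · rintro rfl; exact hg hj2
  · push Not at hx
    have hA : ∀ i, (a i : QuaternionGroup N) ∈ B := by
      intro i
      have h1 := hx 0
      have h2 := hx (i - N)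
      have := (Subgroup.mul_mem_iff_of_index_two hidx (a := xa 0) (b := xa (i - N))).2
        (iff_of_false h1 h2)
      rw [xa_mul_xa] at this
      convert this using 2
      ring
    cases g with
    | a i => exact absurd (hA i) hg
    | xa j =>
      refine ⟨fun u hu => ?_, ?_⟩
      · cases u with
        | a i =>
          have hinv : (xa j : QuaternionGroup N)⁻¹ = xa ((N : ZMod (2 * N)) + j) := rfl
          have hinv2 : (a i : QuaternionGroup N)⁻¹ = a (-i) := rfl
          rw [xa_mul_a, hinv, xa_mul_xa, hinv2]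
          congr 1
          have h2N : ((2 * N : ℕ) : ZMod (2 * N)) = 0 := ZMod.natCast_self _
          push_cast at h2N
          linear_combination h2N
        | xa i => exact absurd hu (hx i)
      · rw [xa_mul_xa]
        congr 1
        ring

/-- Uniqueness of the order two element gives uniqueness of the subgroup of order two. -/
lemma card_two_eq {G : Type*} [Group G] [Finite G] {t : G} (ht : orderOf t = 2)
    (hu : ∀ x : G, orderOf x = 2 → x = t) (H : Subgroup G) (hH : Nat.card H = 2) :
    H = Subgroup.zpowers t := by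
  classical
  have : Nontrivial H := by
    rw [← Finite.one_lt_card_iff_nontrivial, hH]; norm_num
  obtain ⟨y, hy, hy1⟩ := H.exists_ne_one_of_nontrivial
  have hod : orderOf y ∣ 2 := hH ▸ Subgroup.orderOf_dvd_natCard H hy
  have hy2 : orderOf y = 2 := by
    rcases (Nat.dvd_prime Nat.prime_two).1 hod with h | h
    · exact absurd (orderOf_eq_one_iff.1 h) hy1
    · exact h
  have : y = t := hu y hy2
  subst this
  symm
  apply Subgroup.eq_of_le_of_card_ge
  · exact (Subgroup.zpowers_le).2 hy
  · rw [hH, Nat.card_zpowers, hy2]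

/-- A non-abelian finite 2-group with a unique involution is generalized quaternion. -/
theorem exists_quat {G : Type*} [Group G] [Finite G] (hG : IsPGroup 2 G)
    (hna : ¬ IsMulCommutative G) (hu : ∃! x : G, orderOf x = 2) :
    ∃ m : ℕ, Nonempty (G ≃* QuaternionGroup (2 ^ (m + 1))) := by
  classical
  obtain ⟨t, ht, hun⟩ := hu
  haveI : Fact (Nat.Prime 2) := ⟨Nat.prime_two⟩
  have huniq : ∀ H K : Subgroup G, Nat.card H = 2 → Nat.card K = 2 → H = K := by
    intro H K hH hK
    rw [card_two_eq ht hun H hH, card_two_eq ht hun K hK]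
  rcases CfsgLib.SS.unique_prime_subgroup 2 hG huniq with h | ⟨-, n, ⟨e⟩⟩
  · exfalso
    apply hna
    refine ⟨⟨fun x y => ?_⟩⟩
    exact (IsCyclic.commGroup (α := G)).mul_comm x y
  · cases n with
    | zero =>
      exfalso
      apply hna
      refine ⟨⟨fun x y => ?_⟩⟩
      have : IsCyclic (QuaternionGroup (2 ^ 0)) := by
        simpa using (QuaternionGroup.quaternionGroup_one_isCyclic)
      apply e.injective
      rw [map_mul, map_mul]
      exact (IsCyclic.commGroup (α := QuaternionGroup (2 ^ 0))).mul_comm _ _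
    | succ m => exact ⟨m, ⟨e⟩⟩

/-- The main structural fact: a finite 2-group with a unique involution `t`, non-abelian, and
an abelian subgroup of index two: outside elements invert it and square to `t`. -/
theorem invert_of_index_two {G : Type*} [Group G] [Finite G] (hG : IsPGroup 2 G)
    (hna : ¬ IsMulCommutative G) {t : G} (ht : orderOf t = 2)
    (hun : ∀ x : G, orderOf x = 2 → x = t) (B : Subgroup G) (hB : IsMulCommutative B)
    (hidx : B.index = 2) (g : G) (hg : g ∉ B) :
    (∀ u ∈ B, g * u * g⁻¹ = u⁻¹) ∧ g * g = t := by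
  classical
  obtain ⟨m, ⟨e⟩⟩ := exists_quat hG hna ⟨t, ht, hun⟩
  set N := 2 ^ (m + 1) with hN
  have hN2 : 2 ≤ N := by
    rw [hN, pow_succ]
    have := Nat.one_le_two_pow (n := m)
    omega
  let B' : Subgroup (QuaternionGroup N) := B.map e.toMonoidHom
  have hB' : IsMulCommutative B' := by
    refine ⟨⟨?_⟩⟩
    rintro ⟨x, u, hu, rfl⟩ ⟨y, v, hv, rfl⟩
    apply Subtype.ext
    show e u * e v = e v * e u
    rw [← map_mul, ← map_mul]
    exact congrArg e (congrArg Subtype.val (hB.is_comm.comm (⟨u, hu⟩ : B) ⟨v, hv⟩))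
  have hidx' : B'.index = 2 := by
    have : B' = B.map (e.toMonoidHom) := rfl
    rw [this, Subgroup.index_map_of_bijective e.bijective, hidx]
  have hg' : e g ∉ B' := by
    rintro ⟨x, hx, hxe⟩
    have : x = g := e.injective hxe
    exact hg (this ▸ hx)
  obtain ⟨h1, h2⟩ := quat_key N hN2 B' hB' hidx' (e g) hg'
  refine ⟨fun u hu => ?_, ?_⟩
  · apply e.injective
    have := h1 (e u) ⟨u, hu, rfl⟩
    simpa using this
  · have h3 : e (g * g) = a (N : ZMod (2 * N)) := by rw [map_mul]; exact h2
    have hord : orderOf (g * g) = 2 := by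
      rw [← MulEquiv.orderOf_eq e, h3]
      haveI : NeZero N := ⟨by omega⟩
      have h4 := orderOf_a_one (n := N)
      have h5 : orderOf ((a 1 : QuaternionGroup N) ^ (orderOf (a 1 : QuaternionGroup N) / 2)) = 2 :=
        orderOf_pow_orderOf_div (by rw [h4]; positivity) (by rw [h4]; exact Dvd.intro _ rfl)
      rw [h4, a_one_pow] at h5
      have h6 : 2 * N / 2 = N := by omega
      rw [h6] at h5
      exact h5
    exact hun _ hord

end CfsgLib.GenQuat
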