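import Cfsg.Agent.Lib.H3.FusEss
import Cfsg.Agent.Lib.H3.GenQuat
import Cfsg.Agent.Lib.PLocal.PowerHom
import Cfsg.Agent.Lib.SS.Misc
import Cfsg.Agent.Lib.Solv.PGroup
import Cfsg.Agent.Lib.Trans.Basic

set_option autoImplicit false

namespace CfsgLib.FusEss

open Subgroup Cfsg
open scoped commutatorElement

section p3

variable {P : Type*} [Group P] [Finite P] (p : ℕ) [hp : Fact p.Prime]

lemma center_inv (γ : MulAut P) : ∀ x ∈ center P, γ x ∈ center P := by
  intro x hx
  rw [Subgroup.mem_center_iff] at hx ⊢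
  intro g
  obtain ⟨h, rfl⟩ := γ.surjective g
  rw [← map_mul, ← map_mul, hx h]

include hp in
omit [Finite P] in
/-- Structure of a nonabelian group of order `p^3`. -/
theorem nonab_facts [Finite P] (hcard : Nat.card P = p ^ 3) (hcomm : ¬ ∀ x y : P, x * y = y * x) :
    Nat.card (center P) = p ∧ (∀ x : P, x ^ p ∈ center P) ∧ (∀ x y : P, ⁅x, y⁆ ∈ center P) := by
  have hP : IsPGroup p P := IsPGroup.of_card hcard
  have hcyc : ¬ IsCyclic (P ⧸ center P) := by
    intro hc
    apply hcomm
    intro a b
    exact commutative_of_cyclic_center_quotient (QuotientGroup.mk' (center P))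
      (by rw [QuotientGroup.ker_mk']) a b
  haveI : Nontrivial P := by
    rw [← Finite.one_lt_card_iff_nontrivial, hcard]
    exact Nat.one_lt_pow (by norm_num) hp.out.one_lt
  have hZnt : Nontrivial (center P) := hP.center_nontrivial
  have hdZ : Nat.card (center P) ∣ p ^ 3 := by
    rw [← hcard]; exact Subgroup.card_subgroup_dvd_card (center P)
  obtain ⟨k, hk, hZk⟩ := (Nat.dvd_prime_pow hp.out).1 hdZ
  have hk0 : k ≠ 0 := by
    rintro rfl
    rw [pow_zero] at hZk
    have := (Finite.one_lt_card_iff_nontrivial (α := center P)).2 hZnt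
    omega
  have hidx : Nat.card (center P) * Nat.card (P ⧸ center P) = p ^ 3 := by
    rw [← hcard]
    exact (center P).card_mul_index
  have hq : Nat.card (P ⧸ center P) = p ^ (3 - k) := by
    rw [hZk] at hidx
    have hp0 : 0 < p ^ k := pow_pos hp.out.pos k
    apply Nat.eq_of_mul_eq_mul_left hp0
    rw [hidx, ← pow_add]
    congr 1
    omega
  have hk1 : k = 1 := by
    by_contra hne
    have hk3 : k = 2 ∨ k = 3 := by omega
    rcases hk3 with rfl | rfl
    · apply hcyc
      haveI : Fact (Nat.Prime p) := hp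
      have h3 : Nat.card (P ⧸ center P) = p := by rw [hq]; simp
      exact isCyclic_of_prime_card h3
    · apply hcyc
      have h3 : Nat.card (P ⧸ center P) = 1 := by rw [hq]; simp
      haveI : Subsingleton (P ⧸ center P) := (Nat.card_eq_one_iff_unique.1 h3).1
      infer_instance
  subst hk1
  have hq2 : Nat.card (P ⧸ center P) = p ^ 2 := by simpa using hq
  refine ⟨by simpa using hZk, ?_, ?_⟩
  · intro x
    rw [← QuotientGroup.eq_one_iff]
    have hdvd : orderOf (x : P ⧸ center P) ∣ p ^ 2 := by
      rw [← hq2]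
      exact orderOf_dvd_natCard _
    obtain ⟨j, hj, hjo⟩ := (Nat.dvd_prime_pow hp.out).1 hdvd
    have hj2 : j ≠ 2 := by
      rintro rfl
      apply hcyc
      exact isCyclic_of_orderOf_eq_card (x : P ⧸ center P) (by rw [hjo, hq2])
    have hj1 : j ≤ 1 := by omega
    have h4 : orderOf (x : P ⧸ center P) ∣ p := by
      rw [hjo]
      exact (pow_dvd_pow p hj1).trans (by simp)
    rw [QuotientGroup.mk_pow]
    exact orderOf_dvd_iff_pow_eq_one.1 h4
  · intro x y
    rw [← QuotientGroup.eq_one_iff]
    have hc := IsPGroup.commutative_of_card_eq_prime_sq hq2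
    rw [commutatorElement_def]
    simp only [QuotientGroup.mk_mul, QuotientGroup.mk_inv]
    rw [hc (x : P ⧸ center P) (y : P ⧸ center P)]
    group

/-- Prime-order subgroups. -/
lemma eq_of_le_card_prime {Z C : Subgroup P} (hCZ : C ≤ Z) (hZ : Nat.card Z = p) (hC : C ≠ ⊥) : C = Z := by
  have hd : Nat.card C ∣ Nat.card Z := Subgroup.card_dvd_of_le hCZ
  rw [hZ] at hd
  rcases (Nat.dvd_prime hp.out).1 hd with h | h
  · exact absurd ((Subgroup.card_eq_one).1 h) hC
  · exact Subgroup.eq_of_le_of_card_ge hCZ (by rw [h, hZ])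

lemma extraspecial_of_nonab (hcard : Nat.card P = p ^ 3) (hcomm : ¬ ∀ x y : P, x * y = y * x) :
    Cfsg.IsExtraspecial p P := by
  obtain ⟨h1, h2, h3⟩ := nonab_facts p hcard hcomm
  have hP : IsPGroup p P := IsPGroup.of_card hcard
  have hcen : commutator P ≤ center P := by
    rw [commutator_def, Subgroup.commutator_le]
    intro x _ y _
    exact h3 x y
  have hne : commutator P ≠ ⊥ := by
    intro h
    apply hcomm
    intro x y
    have : ⁅x, y⁆ = 1 := by
      have hm : ⁅x, y⁆ ∈ commutator P := Subgroup.commutator_mem_commutator (mem_top x) (mem_top y)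
      rw [h] at hm
      exact hm
    exact commutatorElement_eq_one_iff_mul_comm.1 this
  have hceq : commutator P = center P := eq_of_le_card_prime p hcen h1 hne
  haveI : Group.IsNilpotent P := hP.isNilpotent
  refine ⟨⟨hP, ?_, hceq⟩, h1⟩
  apply le_antisymm
  · exact CfsgLib.Solv.frattini_le_of_commutator_pow hP (center P) hcen h2
  · rw [← hceq]
    exact CfsgLib.SS.commutator_le_frattini_of_nilpotent

theorem classify_p3 (hcard : Nat.card P = p ^ 3) :
    ((∀ x y : P, x * y = y * x) ∧ ∀ x : P, x ^ p = 1) ∨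
    (Odd p ∧ Cfsg.IsExtraspecial p P ∧ ∀ x : P, x ^ p = 1) ∨
    (p = 2 ∧ Nonempty (P ≃* QuaternionGroup 2)) ∨
    (∃ C₁ C₂ : Subgroup P, C₁ ≤ C₂ ∧ (∀ (γ : MulAut P), ∀ x ∈ C₁, γ x ∈ C₁) ∧
      (∀ (γ : MulAut P), ∀ x ∈ C₂, γ x ∈ C₂) ∧ Nat.card C₁ = p ∧ Nat.card C₂ = p ^ 2) := by
  classical
  have hP : IsPGroup p P := IsPGroup.of_card hcard
  have hpp := hp.out
  by_cases hcomm : ∀ x y : P, x * y = y * x
  · by_cases hexp : ∀ x : P, x ^ p = 1
    · exact Or.inl ⟨hcomm, hexp⟩
    refine Or.inr (Or.inr (Or.inr ?_))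
    let π : P →* P :=
      { toFun := fun x => x ^ p
        map_one' := one_pow p
        map_mul' := fun x y => (show Commute x y from hcomm x y).mul_pow p }
    have hπ : ∀ x, π x = x ^ p := fun _ => rfl
    have hmul : Nat.card π.ker * Nat.card π.range = p ^ 3 := by
      rw [← hcard, ← Subgroup.index_ker]
      exact π.ker.card_mul_index
    obtain ⟨a, ha, hRa⟩ := (Nat.dvd_prime_pow hpp).1 (Dvd.intro_left _ hmul)
    obtain ⟨b, hb, hKb⟩ := (Nat.dvd_prime_pow hpp).1 (Dvd.intro _ hmul)
    rw [hRa, hKb, ← pow_add] at hmul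
    have hab : b + a = 3 := Nat.pow_right_injective hpp.two_le hmul
    have ha0 : a ≠ 0 := by
      rintro rfl
      apply hexp
      intro x
      have h1 : π.range = ⊥ := (Subgroup.card_eq_one).1 (by rw [hRa, pow_zero])
      have h2 : π x ∈ π.range := ⟨x, rfl⟩
      rw [h1] at h2
      exact h2
    have hb0 : b ≠ 0 := by
      rintro rfl
      obtain ⟨x, hx⟩ := exists_prime_orderOf_dvd_card' (G := P) p (by
        rw [hcard]; exact dvd_pow_self p (by norm_num))
      have h1 : π.ker = ⊥ := (Subgroup.card_eq_one).1 (by rw [hKb, pow_zero])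
      have h2 : x ∈ π.ker := by
        rw [MonoidHom.mem_ker, hπ, ← hx]
        exact pow_orderOf_eq_one x
      rw [h1] at h2
      have h3 : x = 1 := h2
      rw [h3, orderOf_one] at hx
      exact hpp.one_lt.ne hx
    have hRinv : ∀ (γ : MulAut P), ∀ x ∈ π.range, γ x ∈ π.range := by
      rintro γ _ ⟨y, rfl⟩
      exact ⟨γ y, by rw [hπ, hπ, map_pow]⟩
    have hKinv : ∀ (γ : MulAut P), ∀ x ∈ π.ker, γ x ∈ π.ker := by
      intro γ x hx
      rw [MonoidHom.mem_ker, hπ] at hx ⊢
      rw [← map_pow, hx, map_one]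
    have hcases : (a = 1 ∧ b = 2) ∨ (a = 2 ∧ b = 1) := by omega
    rcases hcases with ⟨rfl, rfl⟩ | ⟨rfl, rfl⟩
    · refine ⟨π.range, π.ker, ?_, hRinv, hKinv, by simpa using hRa, hKb⟩
      intro y hy
      rw [MonoidHom.mem_ker, hπ]
      have h1 : (⟨y, hy⟩ : π.range) ^ Nat.card π.range = 1 := pow_card_eq_one'
      have h2 := congrArg Subtype.val h1
      rw [hRa, pow_one] at h2
      exact h2
    · refine ⟨π.ker, π.range, ?_, hKinv, hRinv, by simpa using hKb, hRa⟩
      obtain ⟨z, hz⟩ := exists_prime_orderOf_dvd_card' (G := π.range) p (by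
        rw [hRa]; exact dvd_pow_self p (by norm_num))
      have hz1 : (z : P) ∈ π.ker := by
        rw [MonoidHom.mem_ker, hπ]
        have := pow_orderOf_eq_one z
        rw [hz] at this
        exact congrArg Subtype.val this
      have hle : zpowers (z : P) ≤ π.ker := (zpowers_le).2 hz1
      have hKeq : zpowers (z : P) = π.ker := by
        apply Subgroup.eq_of_le_of_card_ge hle
        rw [Nat.card_zpowers, Subgroup.orderOf_coe, hz, hKb, pow_one]
      rw [← hKeq]
      exact (zpowers_le).2 z.2
  -- nonabelian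
  obtain ⟨h1, h2, h3⟩ := nonab_facts p hcard hcomm
  have hZexp : ∀ z ∈ center P, z ^ p = 1 := by
    intro z hz
    have h4 : (⟨z, hz⟩ : center P) ^ Nat.card (center P) = 1 := pow_card_eq_one'
    rw [h1] at h4
    exact congrArg Subtype.val h4
  rcases hpp.eq_two_or_odd' with rfl | hodd
  · -- p = 2
    refine Or.inr (Or.inr ?_)
    by_cases hu : ∃! x : P, orderOf x = 2
    · left
      refine ⟨rfl, ?_⟩
      obtain ⟨m, ⟨e⟩⟩ := CfsgLib.GenQuat.exists_quat hP (fun h => hcomm h.is_comm.comm) hu
      have hc := Nat.card_congr e.toEquiv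
      rw [hcard, Nat.card_eq_fintype_card, QuaternionGroup.card] at hc
      have hm : m = 0 := by
        by_contra hne
        obtain ⟨m', rfl⟩ := Nat.exists_eq_succ_of_ne_zero hne
        rw [show m' + 1 + 1 = m' + 2 from rfl, pow_add] at hc
        have : 2 ^ m' * 4 * 4 = 8 := by omega
        have h4 : 1 ≤ 2 ^ m' := Nat.one_le_two_pow
        omega
      subst hm
      exact ⟨e⟩
    right
    -- some element not of order two
    obtain ⟨x, hx⟩ : ∃ x : P, x ^ 2 ≠ 1 := by
      by_contra hall
      push Not at hall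
      apply hcomm
      intro a b
      have e1 := hall (a * b)
      have e2 := hall a
      have e3 := hall b
      calc a * b = a * (a * b * (a * b)) * b := by rw [pow_two] at e1; rw [e1]; group
        _ = (a * a) * (b * a) * (b * b) := by group
        _ = b * a := by
            rw [pow_two] at e2 e3
            rw [e2, e3]; group
    set z := x ^ 2 with hz
    have hzZ : z ∈ center P := h2 x
    have hz2 : z ^ 2 = 1 := hZexp z hzZ
    have hord : orderOf x = 2 ^ 2 := by
      apply orderOf_eq_prime_pow (p := 2)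
      · simpa using hx
      · rw [show 2 ^ (1 + 1) = 2 * 2 from rfl, pow_mul]
        exact hz2
    have hZ2 : ∀ w ∈ center P, w = 1 ∨ w = z := by
      intro w hw
      have hzne : (⟨z, hzZ⟩ : center P) ≠ 1 := fun h => hx (congrArg Subtype.val h)
      have hCe : zpowers (⟨z, hzZ⟩ : center P) = ⊤ := by
        apply Subgroup.eq_top_of_card_eq
        rw [Nat.card_zpowers, h1]
        exact orderOf_eq_prime (by
          apply Subtype.ext
          exact hz2) hzne
      have hw' : (⟨w, hw⟩ : center P) ∈ zpowers (⟨z, hzZ⟩ : center P) := by rw [hCe]; trivial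
      obtain ⟨k, hk⟩ := (mem_zpowers_iff).1 hw'
      have hk' : z ^ k = w := by
        have := congrArg Subtype.val hk
        simpa using this
      rcases Int.emod_two_eq_zero_or_one k with h0 | h0
      · left
        obtain ⟨l, hl⟩ := Int.dvd_of_emod_eq_zero h0
        rw [← hk', hl, zpow_mul]
        have : z ^ (2 : ℤ) = 1 := by exact_mod_cast hz2
        rw [this, one_zpow]
      · right
        have hl : k = 2 * (k / 2) + 1 := by omega
        rw [← hk', hl, zpow_add, zpow_mul]
        have : z ^ (2 : ℤ) = 1 := by exact_mod_cast hz2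
        rw [this, one_zpow, one_mul, zpow_one]
    -- another involution
    obtain ⟨s, hs, hsz⟩ : ∃ s : P, orderOf s = 2 ∧ s ≠ z := by
      by_contra hall
      push Not at hall
      apply hu
      refine ⟨z, orderOf_eq_prime hz2 hx, fun y hy => hall y hy⟩
    have hs2 : s * s = 1 := by
      have := pow_orderOf_eq_one s
      rw [hs, pow_two] at this
      exact this
    have hsinv : s⁻¹ = s := inv_eq_of_mul_eq_one_left hs2
    -- elements of `zpowers x`
    have hCel : ∀ c ∈ zpowers x, c = 1 ∨ c = x ∨ c = z ∨ c = x⁻¹ := by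
      intro c hc
      obtain ⟨k, rfl⟩ := (mem_zpowers_iff).1 hc
      have hx4 : x ^ (4 : ℤ) = 1 := by
        have := pow_orderOf_eq_one x
        rw [hord] at this
        exact_mod_cast this
      have hk : k = 4 * (k / 4) + k % 4 := (Int.mul_ediv_add_emod k 4).symm
      have hcases : k % 4 = 0 ∨ k % 4 = 1 ∨ k % 4 = 2 ∨ k % 4 = 3 := by omega
      have hred : x ^ k = x ^ (k % 4) := by
        conv_lhs => rw [hk, zpow_add, zpow_mul, hx4, one_zpow, one_mul]
      rw [hred]
      rcases hcases with h | h | h | h <;> rw [h]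
      · left; simp
      · right; left; simp
      · right; right; left; rw [hz]; norm_cast
      · right; right; right
        rw [eq_inv_iff_mul_eq_one, ← zpow_add_one]
        simpa using hx4
    have hsC : s ∉ zpowers x := by
      intro hsm
      rcases hCel s hsm with h | h | h | h
      · rw [h, orderOf_one] at hs; omega
      · rw [h, hord] at hs; norm_num at hs
      · exact hsz h
      · rw [h, orderOf_inv, hord] at hs; norm_num at hs
    have hcardC : Nat.card (zpowers x) = 2 ^ 2 := by rw [Nat.card_zpowers, hord]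
    have hidxC : (zpowers x).index = 2 := by
      have h4 := (zpowers x).card_mul_index
      rw [hcardC, hcard] at h4
      omega
    -- s inverts x
    have hdec : ∀ y : P, y ∈ zpowers x ∨ ∃ c ∈ zpowers x, y = c * s := by
      intro y
      by_cases hy : y ∈ zpowers x
      · exact Or.inl hy
      · right
        have h5 := (Subgroup.mul_mem_iff_of_index_two hidxC).2 (iff_of_false hy hsC)
        refine ⟨y * s, h5, ?_⟩
        rw [mul_assoc, hs2, mul_one]
    have hCC : ∀ c ∈ zpowers x, ∀ d ∈ zpowers x, Commute c d := by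
      intro c hc d hd
      obtain ⟨k, rfl⟩ := (mem_zpowers_iff).1 hc
      obtain ⟨l, rfl⟩ := (mem_zpowers_iff).1 hd
      exact (Commute.refl x).zpow_zpow k l
    have hsx : s * x * s⁻¹ = x⁻¹ := by
      have hc := h3 s x
      rw [commutatorElement_def] at hc
      rcases hZ2 _ hc with h | h
      · exfalso
        apply hcomm
        have hcs : Commute s x := by
          have := mul_inv_eq_one.1 h
          exact mul_inv_eq_iff_eq_mul.1 this
        have hCs : ∀ c ∈ zpowers x, Commute s c := by
          intro c hc'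
          obtain ⟨k, rfl⟩ := (mem_zpowers_iff).1 hc'
          exact hcs.zpow_right k
        intro a b
        rcases hdec a with ha | ⟨c, hc, rfl⟩ <;> rcases hdec b with hb | ⟨d, hd, rfl⟩
        · exact hCC a ha b hb
        · exact ((hCC a ha d hd).mul_right (hCs a ha).symm)
        · exact ((hCC c hc b hb).mul_left (hCs b hb))
        · exact ((hCC c hc d hd).mul_right (hCs c hc).symm).mul_left ((hCs d hd).mul_right (Commute.refl s))
      · have h4 : s * x * s⁻¹ = z * x := mul_inv_eq_iff_eq_mul.1 h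
        rw [h4, eq_inv_iff_mul_eq_one, hz]
        have := pow_orderOf_eq_one x
        rw [hord] at this
        calc x ^ 2 * x * x = x ^ 2 ^ 2 := by group
          _ = 1 := this
    have hsc : ∀ c ∈ zpowers x, s * c * s⁻¹ = c⁻¹ := by
      intro c hc
      obtain ⟨k, rfl⟩ := (mem_zpowers_iff).1 hc
      rw [← conj_zpow, hsx, inv_zpow]
    have hout : ∀ y : P, y ∉ zpowers x → y ^ 2 = 1 := by
      intro y hy
      rcases hdec y with h | ⟨c, hc, rfl⟩
      · exact absurd h hy
      · calc (c * s) ^ 2 = c * (s * c * s⁻¹) * (s * s) := by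
              rw [pow_two]; group
          _ = 1 := by rw [hsc c hc, hs2]; group
    refine ⟨center P, zpowers x, ?_, fun γ => center_inv γ, ?_, h1, hcardC⟩
    · intro w hw
      rcases hZ2 w hw with rfl | rfl
      · exact one_mem _
      · exact ⟨2, by simp [hz]⟩
    · intro γ y hy
      have hγ : γ x ∈ zpowers x := by
        by_contra hn
        have h5 := hout _ hn
        rw [← map_pow, ← hz] at h5
        exact hx (γ.injective (h5.trans (map_one γ).symm))
      obtain ⟨k, rfl⟩ := (mem_zpowers_iff).1 hy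
      rw [map_zpow]
      exact zpow_mem hγ k
  · -- p odd
    by_cases hexp : ∀ x : P, x ^ p = 1
    · exact Or.inr (Or.inl ⟨hodd, extraspecial_of_nonab p hcard hcomm, hexp⟩)
    refine Or.inr (Or.inr (Or.inr ?_))
    have hp2 : 2 < p := by
      have := hpp.two_le
      obtain ⟨m, hm⟩ := hodd
      omega
    let π : P →* P :=
      { toFun := fun x => x ^ p
        map_one' := one_pow p
        map_mul' := fun x y => by
          have hc : y⁻¹ * x⁻¹ * y * x ∈ center P := by
            have := h3 y⁻¹ x⁻¹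
            simpa [commutatorElement_def] using this
          have hyx : y * x = x * y * (y⁻¹ * x⁻¹ * y * x) := by group
          have h5 := CfsgLib.PLocal.mul_pow_of_central_comm hyx
            ((Subgroup.mem_center_iff.1 hc x).symm) ((Subgroup.mem_center_iff.1 hc y).symm) p
          obtain ⟨m, hm⟩ := hpp.dvd_choose_self (k := 2) (by norm_num) hp2
          rw [h5, hm, pow_mul, hZexp _ hc, one_pow, mul_one] }
    have hπ : ∀ x, π x = x ^ p := fun _ => rfl
    have hRZ : π.range ≤ center P := by
      rintro _ ⟨y, rfl⟩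
      exact h2 y
    have hRne : π.range ≠ ⊥ := by
      intro h
      apply hexp
      intro x
      have h5 : π x ∈ π.range := ⟨x, rfl⟩
      rw [h] at h5
      exact h5
    have hReq : π.range = center P := eq_of_le_card_prime p hRZ h1 hRne
    have hmul : Nat.card π.ker * Nat.card π.range = p ^ 3 := by
      rw [← hcard, ← Subgroup.index_ker]
      exact π.ker.card_mul_index
    rw [hReq, h1] at hmul
    have hK : Nat.card π.ker = p ^ 2 := by
      apply Nat.eq_of_mul_eq_mul_right hpp.pos
      rw [hmul]; ring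
    refine ⟨center P, π.ker, ?_, fun γ => center_inv γ, ?_, h1, hK⟩
    · intro w hw
      rw [MonoidHom.mem_ker, hπ]
      exact hZexp w hw
    · intro γ x hx
      rw [MonoidHom.mem_ker, hπ] at hx ⊢
      rw [← map_pow, hx, map_one]

end p3

section fus

variable {Ω : Type*} [Group Ω] {S : Subgroup Ω} [Finite S] {p : ℕ} [hp : Fact p.Prime]

theorem no_chain3 (hS : IsPGroup p S) (F : FusionSystem S) (H : Subgroup Ω) (hH : F.IsEssential p H)
    (C₁ C₂ : Subgroup H) (h12 : C₁ ≤ C₂) (hc₁ : ∀ (γ : MulAut H), ∀ x ∈ C₁, γ x ∈ C₁)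
    (hc₂ : ∀ (γ : MulAut H), ∀ x ∈ C₂, γ x ∈ C₂) (hcard₁ : Nat.card C₁ = p)
    (hcard₂ : Nat.card C₂ = p ^ 2) (hH3 : Nat.card H = p ^ 3) : False := by
  have hpp := hp.out
  haveI : Finite H := Nat.finite_of_card_ne_zero (by rw [hH3]; exact (pow_pos hpp.pos 3).ne')
  let D : ℕ → Subgroup H := fun j => if j = 0 then ⊥ else if j = 1 then C₁ else if j = 2 then C₂ else ⊤
  have hD0 : D 0 = ⊥ := rfl
  have hD1 : D 1 = C₁ := rfl
  have hD2 : D 2 = C₂ := rfl
  have hD3 : ∀ n, D (n + 3) = ⊤ := fun n => by
    simp [D]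
  have hmono : Monotone D := by
    apply monotone_nat_of_le_succ
    intro n
    rcases n with _ | _ | _ | n
    · rw [hD0]; exact bot_le
    · rw [hD1, hD2]; exact h12
    · rw [hD2]; exact le_top
    · rw [hD3 n]; exact le_top
  refine no_chain hS F H hH D 3 hD0 (hD3 0) hmono ?_ ?_
  · intro γ j x hx
    rcases j with _ | _ | _ | n
    · rw [hD0, mem_bot] at hx ⊢
      rw [hx, map_one]
    · exact hc₁ γ x hx
    · exact hc₂ γ x hx
    · rw [hD3 n]; trivial
  · intro j hj
    left
    interval_cases j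
    · show (D 0).relIndex (D 1) = p
      rw [hD0, hD1, Subgroup.relIndex_bot_left, hcard₁]
    · show (D 1).relIndex (D 2) = p
      rw [hD1, hD2]
      have h := CfsgLib.Trans.card_mul_relIndex h12
      rw [hcard₁, hcard₂] at h
      apply Nat.eq_of_mul_eq_mul_left hpp.pos
      rw [h]; ring
    · show (D 2).relIndex (D 3) = p
      rw [hD2, hD3 0, Subgroup.relIndex_top_right]
      have h := C₂.card_mul_index
      rw [hcard₂, hH3] at h
      apply Nat.eq_of_mul_eq_mul_left (pow_pos hpp.pos 2)
      rw [h]; ring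

theorem s5186 (hS : IsPGroup p S) (F : FusionSystem S) (H : Subgroup Ω) (hH : F.IsEssential p H)
    (hcard : Nat.card H = p ^ 3) :
    Cfsg.IsElementaryAbelian p H ∨ (Odd p ∧ Cfsg.IsExtraspecial p ↥H ∧ ∀ x ∈ H, x ^ p = 1) ∨
      (p = 2 ∧ Nonempty (↥H ≃* QuaternionGroup 2)) := by
  haveI : Finite H := Nat.finite_of_card_ne_zero (by rw [hcard]; exact (pow_pos hp.out.pos 3).ne')
  rcases classify_p3 p hcard with ⟨hc, he⟩ | ⟨ho, hx, he⟩ | ⟨h2, hq⟩ | ⟨C₁, C₂, h12, h1, h2, h3, h4⟩
  · refine Or.inl ⟨⟨⟨hc⟩⟩, fun a ha => congrArg Subtype.val (he ⟨a, ha⟩)⟩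
  · exact Or.inr (Or.inl ⟨ho, hx, fun a ha => congrArg Subtype.val (he ⟨a, ha⟩)⟩)
  · exact Or.inr (Or.inr ⟨h2, hq⟩)
  · exact (no_chain3 hS F H hH C₁ C₂ h12 h1 h2 h3 h4 hcard).elim

end fus

end CfsgLib.FusEss
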