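import Cfsg.Agent.Lib.H3.FusEss2
import Cfsg.Agent.Lib.ClassGeo.SLGen

set_option autoImplicit false

namespace CfsgLib.FusEss

open Subgroup Cfsg

section basis

variable {H : Type*} [Group H] [Finite H] (p : ℕ) [hp : Fact p.Prime]

/-- The exponential map `v ↦ e^{v₀} f^{v₁}`. -/
noncomputable def expHom (hc : ∀ x y : H, x * y = y * x) (e f : H) (he : e ^ p = 1) (hf : f ^ p = 1) :
    Multiplicative (Fin 2 → ZMod p) →* H where
  toFun v := e ^ ((Multiplicative.toAdd v) 0).val * f ^ ((Multiplicative.toAdd v) 1).val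
  map_one' := by
    have h0 : ((0 : ZMod p)).val = 0 := ZMod.val_zero
    show e ^ ((0 : ZMod p)).val * f ^ ((0 : ZMod p)).val = 1
    rw [h0]; simp
  map_mul' := by
    intro v w
    have hadd : ∀ (g : H), g ^ p = 1 → ∀ a b : ZMod p, g ^ (a + b).val = g ^ a.val * g ^ b.val := by
      intro g hg a b
      rw [ZMod.val_add, ← pow_add]
      exact (pow_eq_pow_mod _ hg).symm
    show e ^ (((Multiplicative.toAdd v) 0 + (Multiplicative.toAdd w) 0)).val *
      f ^ (((Multiplicative.toAdd v) 1 + (Multiplicative.toAdd w) 1)).val = _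
    rw [hadd e he, hadd f hf]
    have h1 := hc (e ^ ((Multiplicative.toAdd w) 0).val) (f ^ ((Multiplicative.toAdd v) 1).val)
    simp only [mul_assoc]
    congr 1
    rw [← mul_assoc, ← mul_assoc, h1]

theorem expHom_apply (hc : ∀ x y : H, x * y = y * x) (e f : H) (he : e ^ p = 1) (hf : f ^ p = 1)
    (v : Fin 2 → ZMod p) :
    expHom p hc e f he hf (Multiplicative.ofAdd v) = e ^ (v 0).val * f ^ (v 1).val := rfl

/-- Independence from non-membership. -/
lemma dvd_of_pow_mem (hexp : ∀ x : H, x ^ p = 1) (e f : H) (hf : f ∉ zpowers e) (j : ℕ)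
    (hj : f ^ j ∈ zpowers e) : p ∣ j := by
  by_contra hn
  have hcop : Nat.Coprime j p := ((Nat.Prime.coprime_iff_not_dvd hp.out).2 hn).symm
  apply hf
  have hj0 : (j : ZMod p) ≠ 0 := fun h => hn ((ZMod.natCast_eq_zero_iff _ _).1 h)
  set m := ((j : ZMod p)⁻¹).val with hm
  have hz : ((j * m : ℕ) : ZMod p) = ((1 : ℕ) : ZMod p) := by
    rw [hm]
    push_cast
    rw [ZMod.natCast_val, ZMod.cast_id', id]
    exact mul_inv_cancel₀ hj0
  have h3 := (ZMod.natCast_eq_natCast_iff' _ _ _).1 hz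
  have h1 : f = (f ^ j) ^ m := by
    rw [← pow_mul, pow_eq_pow_mod _ (hexp f), h3, ← pow_eq_pow_mod 1 (hexp f), pow_one]
  rw [h1]
  exact pow_mem hj m

/-- `e, f` is a basis. -/
theorem expHom_bijective (hc : ∀ x y : H, x * y = y * x) (hexp : ∀ x : H, x ^ p = 1)
    (hcard : Nat.card H = p ^ 2) (e f : H) (he1 : e ≠ 1) (hf : f ∉ zpowers e) :
    Function.Bijective (expHom p hc e f (hexp e) (hexp f)) := by
  have hpp := hp.out
  have hinj : Function.Injective (expHom p hc e f (hexp e) (hexp f)) := by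
    rw [injective_iff_map_eq_one]
    intro v hv
    obtain ⟨w, rfl⟩ := Multiplicative.ofAdd.surjective v
    rw [expHom_apply] at hv
    have hfm : f ^ (w 1).val ∈ zpowers e := by
      have h2 : f ^ (w 1).val = (e ^ (w 0).val)⁻¹ := by
        rw [eq_inv_iff_mul_eq_one, hc]
        exact hv
      rw [h2]
      exact inv_mem (pow_mem (mem_zpowers e) _)
    have hd := dvd_of_pow_mem p hexp e f hf _ hfm
    have h10 : (w 1).val = 0 := Nat.eq_zero_of_dvd_of_lt hd (ZMod.val_lt _)
    rw [h10, pow_zero, mul_one] at hv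
    have hord : orderOf e = p := orderOf_eq_prime (hexp e) he1
    have hd0 : p ∣ (w 0).val := by
      have := orderOf_dvd_of_pow_eq_one hv
      rwa [hord] at this
    have h00 : (w 0).val = 0 := Nat.eq_zero_of_dvd_of_lt hd0 (ZMod.val_lt _)
    have hw : w = 0 := by
      ext i
      fin_cases i
      · exact (ZMod.val_eq_zero _).1 h00
      · exact (ZMod.val_eq_zero _).1 h10
    rw [hw]
    rfl
  refine hinj.bijective_of_nat_card_le ?_
  rw [hcard]
  have : Nat.card (Multiplicative (Fin 2 → ZMod p)) = p ^ 2 := by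
    rw [Nat.card_congr (Multiplicative.toAdd), Nat.card_eq_fintype_card]
    simp
  rw [this]

/-- Unipotence of a `p`-element fixing `e`. -/
lemma unipotent (hc : ∀ x y : H, x * y = y * x) (hexp : ∀ x : H, x ^ p = 1) (e f : H)
    (hspan : ∀ x : H, ∃ a b : ℕ, x = e ^ a * f ^ b) (hf : f ∉ zpowers e) (t : MulAut H) (n : ℕ)
    (ht : t ^ (p ^ n) = 1) (hfix : t e = e) : ∃ a : ℕ, t f = e ^ a * f := by
  have hpp := hp.out
  have hmulpow : ∀ (x y : H) (k : ℕ), (x * y) ^ k = x ^ k * y ^ k := fun x y k =>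
    (show Commute x y from hc x y).mul_pow k
  obtain ⟨a, d, h⟩ := hspan (t f)
  have hit : ∀ k : ℕ, ∃ A : ℕ, (t ^ k) f = e ^ A * f ^ (d ^ k) := by
    intro k
    induction k with
    | zero => exact ⟨0, by simp⟩
    | succ k ih =>
      obtain ⟨A, hA⟩ := ih
      refine ⟨A + a * d ^ k, ?_⟩
      rw [pow_succ', MulAut.mul_apply, hA, map_mul, map_pow, map_pow, hfix, h, hmulpow, ← pow_mul,
        ← pow_mul, pow_add, pow_succ', mul_assoc]
  obtain ⟨A, hA⟩ := hit (p ^ n)
  rw [ht] at hA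
  have hA' : f = e ^ A * f ^ (d ^ (p ^ n)) := hA
  have hfe : f ^ (d ^ (p ^ n)) = f ^ d := by
    have hz : ((d ^ (p ^ n) : ℕ) : ZMod p) = (d : ZMod p) := by
      push_cast
      exact ZMod.pow_card_pow (p := p) (d : ZMod p)
    have h3 := (ZMod.natCast_eq_natCast_iff' _ _ _).1 hz
    rw [pow_eq_pow_mod (d ^ p ^ n) (hexp f), h3, ← pow_eq_pow_mod d (hexp f)]
  rw [hfe] at hA'
  have hj : f ^ (1 + (p - 1) * d) ∈ zpowers e := by
    have h4 : f ^ (1 + (p - 1) * d) = e ^ A := by
      have h5 : (f ^ d) ^ p = 1 := hexp _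
      have h6 : p = (p - 1) + 1 := by have := hpp.pos; omega
      rw [pow_add, pow_one]
      calc f * f ^ ((p - 1) * d) = (e ^ A * f ^ d) * f ^ ((p - 1) * d) := by rw [← hA']
        _ = e ^ A * (f ^ d) ^ ((p - 1) + 1) := by
            rw [pow_succ', pow_mul' f (p - 1) d, mul_assoc]
        _ = e ^ A := by rw [← h6, h5, mul_one]
    rw [h4]
    exact pow_mem (mem_zpowers e) _
  have hd := dvd_of_pow_mem p hexp e f hf _ hj
  have hd1 : (d : ZMod p) = 1 := by
    have h7 : ((1 + (p - 1) * d : ℕ) : ZMod p) = 0 := (ZMod.natCast_eq_zero_iff _ _).2 hd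
    rw [Nat.cast_add, Nat.cast_mul, Nat.cast_sub hpp.pos] at h7
    simp at h7
    linear_combination -h7
  have h8 := (ZMod.natCast_eq_natCast_iff' d 1 p).1 (by simpa using hd1)
  have hfd : f ^ d = f := by
    rw [pow_eq_pow_mod d (hexp f), h8, ← pow_eq_pow_mod 1 (hexp f), pow_one]
  refine ⟨a, ?_⟩
  rw [h, hfd]

/-- A `p`-element has a nontrivial fixed point. -/
lemma exists_fixed (t : MulAut H) (n : ℕ) (ht : t ^ (p ^ n) = 1) (hd : p ∣ Nat.card H) :
    ∃ e : H, e ≠ 1 ∧ t e = e := by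
  have hP : IsPGroup p (zpowers t) := by
    rintro ⟨g, k, rfl⟩
    refine ⟨n, Subtype.ext ?_⟩
    show ((t ^ k) ^ (p ^ n) : MulAut H) = 1
    rw [← zpow_natCast, zpow_comm, zpow_natCast, ht, one_zpow]
  have h1 : (1 : H) ∈ MulAction.fixedPoints (zpowers t) H := by
    intro g
    show (g : MulAut H) 1 = 1
    exact map_one _
  obtain ⟨b, hb, hne⟩ := hP.exists_fixed_point_of_prime_dvd_card_of_fixed_point H hd h1
  exact ⟨b, hne.symm, hb ⟨t, mem_zpowers t⟩⟩

/-- Powers of a transvection. -/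
lemma pow_unip (hc : ∀ x y : H, x * y = y * x) (t : MulAut H) (e f : H) (u : ℕ) (h1 : t e = e)
    (h2 : t f = e ^ u * f) (k : ℕ) : (t ^ k) e = e ∧ (t ^ k) f = e ^ (k * u) * f := by
  induction k with
  | zero => simp
  | succ k ih =>
    obtain ⟨i1, i2⟩ := ih
    constructor
    · rw [pow_succ', MulAut.mul_apply, i1, h1]
    · rw [pow_succ', MulAut.mul_apply, i2, map_mul, map_pow, h1, h2, add_mul, one_mul, pow_add,
        mul_assoc]

lemma aut_ext (e f : H) (hspan : ∀ x : H, ∃ a b : ℕ, x = e ^ a * f ^ b) (γ γ' : MulAut H)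
    (h1 : γ e = γ' e) (h2 : γ f = γ' f) : γ = γ' := by
  ext x
  obtain ⟨a, b, rfl⟩ := hspan x
  simp only [map_mul, map_pow, h1, h2]

/-- `SL₂` acting on the coordinate space. -/
noncomputable def slHom : Matrix.SpecialLinearGroup (Fin 2) (ZMod p) →* MulAut (Multiplicative (Fin 2 → ZMod p)) where
  toFun M := AddEquiv.toMultiplicative (Matrix.SpecialLinearGroup.toLin' M).toAddEquiv
  map_one' := by
    ext v i
    simp [Matrix.SpecialLinearGroup.toLin'_apply]
  map_mul' := by
    intro M N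
    ext v i
    simp [Matrix.SpecialLinearGroup.toLin'_apply]

lemma slHom_apply (M : Matrix.SpecialLinearGroup (Fin 2) (ZMod p)) (v : Fin 2 → ZMod p) :
    slHom p M (Multiplicative.ofAdd v) =
      Multiplicative.ofAdd ((M : Matrix (Fin 2) (Fin 2) (ZMod p)).mulVec v) := rfl

lemma slHom_injective : Function.Injective (slHom p) := by
  intro M N h
  apply Subtype.ext
  apply Matrix.ext_of_mulVec_single
  intro j
  have h1 := congrArg (fun γ : MulAut (Multiplicative (Fin 2 → ZMod p)) => γ (Multiplicative.ofAdd (Pi.single j 1))) h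
  simp only [slHom_apply] at h1
  exact Multiplicative.ofAdd.injective h1

end basis

section main

variable {H : Type*} [Group H] [Finite H] (p : ℕ) [hp : Fact p.Prime]

/-- A group of automorphisms of `C_p × C_p` with `O_p = 1` and order divisible by `p` contains `SL₂(p)`. -/
theorem exists_sl2 (hc : ∀ x y : H, x * y = y * x) (hexp : ∀ x : H, x ^ p = 1)
    (hcard : Nat.card H = p ^ 2) (A : Subgroup (MulAut H)) (hA : pCore p A = ⊥) (hpA : p ∣ Nat.card A) :
    ∃ K : Subgroup A, Nonempty (K ≃* Matrix.SpecialLinearGroup (Fin 2) (ZMod p)) := by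
  classical
  haveI : Finite (MulAut H) := Finite.of_injective (fun α : MulAut H => (α : H → H)) (fun a b h => by
    ext x; exact congrFun h x)
  have hpp := hp.out
  haveI : Fact (1 < p) := ⟨hpp.one_lt⟩
  have hdH : p ∣ Nat.card H := by rw [hcard]; exact dvd_pow_self p (by norm_num)
  obtain ⟨t₁, ht₁⟩ := exists_prime_orderOf_dvd_card' (G := A) p hpA
  have hpg : IsPGroup p (zpowers t₁) := by
    rintro ⟨g, k, rfl⟩
    refine ⟨1, Subtype.ext ?_⟩
    show ((t₁ ^ k) ^ (p ^ 1) : A) = 1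
    rw [pow_one, ← zpow_natCast, zpow_comm, zpow_natCast, ← ht₁, pow_orderOf_eq_one, one_zpow]
  obtain ⟨g, hg⟩ : ∃ g : A, g * t₁ * g⁻¹ ∉ zpowers t₁ := by
    by_contra hall
    push Not at hall
    have hn : (zpowers t₁).Normal := by
      refine ⟨fun n hn g => ?_⟩
      obtain ⟨k, rfl⟩ := (mem_zpowers_iff).1 hn
      rw [← conj_zpow]
      exact zpow_mem (hall g) k
    have hle : zpowers t₁ ≤ pCore p A := le_sSup ⟨hn, hpg⟩
    rw [hA, le_bot_iff, zpowers_eq_bot] at hle
    rw [hle, orderOf_one] at ht₁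
    exact hpp.one_lt.ne ht₁
  set t₂ := g * t₁ * g⁻¹ with ht₂
  have ht₂o : orderOf t₂ = p := by
    rw [← ht₁]
    exact (MulAut.conj g).orderOf_eq t₁
  set a : MulAut H := (t₁ : MulAut H) with ha
  set b : MulAut H := (t₂ : MulAut H) with hb
  have ha1 : a ^ (p ^ 1) = 1 := by
    have h1 : t₁ ^ p = 1 := by rw [← ht₁]; exact pow_orderOf_eq_one t₁
    rw [pow_one]
    exact congrArg Subtype.val h1
  have hb1 : b ^ (p ^ 1) = 1 := by
    have h1 : t₂ ^ p = 1 := by rw [← ht₂o]; exact pow_orderOf_eq_one t₂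
    rw [pow_one]
    exact congrArg Subtype.val h1
  have ha0 : a ≠ 1 := by
    intro h
    have h1 : t₁ = 1 := Subtype.ext h
    rw [h1, orderOf_one] at ht₁
    exact hpp.one_lt.ne ht₁
  have hb0 : b ≠ 1 := by
    intro h
    have h1 : t₂ = 1 := Subtype.ext h
    rw [h1, orderOf_one] at ht₂o
    exact hpp.one_lt.ne ht₂o
  have hnot : ∀ k : ℕ, b ≠ a ^ k := by
    intro k h
    apply hg
    have h1 : t₂ = t₁ ^ k := Subtype.ext h
    rw [h1]
    exact pow_mem (mem_zpowers t₁) k
  obtain ⟨e₁, he₁, hae₁⟩ := exists_fixed p a 1 ha1 hdH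
  obtain ⟨e₂, he₂, hbe₂⟩ := exists_fixed p b 1 hb1 hdH
  have hord : ∀ x : H, x ≠ 1 → orderOf x = p := fun x hx => orderOf_eq_prime (hexp x) hx
  by_cases hmem : e₂ ∈ zpowers e₁
  · exfalso
    have hzeq : zpowers e₂ = zpowers e₁ := by
      apply Subgroup.eq_of_le_of_card_ge ((zpowers_le).2 hmem)
      rw [Nat.card_zpowers, Nat.card_zpowers, hord e₁ he₁, hord e₂ he₂]
    have hm1 : e₁ ∈ zpowers e₂ := by rw [hzeq]; exact mem_zpowers e₁
    have hbe₁ : b e₁ = e₁ := by
      obtain ⟨k, rfl⟩ := (mem_zpowers_iff).1 hm1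
      rw [map_zpow, hbe₂]
    obtain ⟨f, hf⟩ : ∃ f : H, f ∉ zpowers e₁ := by
      by_contra hall
      push Not at hall
      have h1 : zpowers e₁ = ⊤ := eq_top_iff.2 (fun x _ => hall x)
      have h2 : Nat.card (zpowers e₁) = Nat.card H := by rw [h1]; exact Subgroup.card_top
      rw [Nat.card_zpowers, hord e₁ he₁, hcard] at h2
      have : p ^ 1 = p ^ 2 := by simpa using h2
      have := Nat.pow_right_injective hpp.two_le this
      omega
    have hbij := expHom_bijective p hc hexp hcard e₁ f he₁ hf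
    have hspan : ∀ x : H, ∃ u v : ℕ, x = e₁ ^ u * f ^ v := by
      intro x
      obtain ⟨v, rfl⟩ := hbij.2 x
      exact ⟨_, _, rfl⟩
    obtain ⟨u, hu⟩ := unipotent p hc hexp e₁ f hspan hf a 1 ha1 hae₁
    obtain ⟨w, hw⟩ := unipotent p hc hexp e₁ f hspan hf b 1 hb1 hbe₁
    have hu0 : (u : ZMod p) ≠ 0 := by
      intro h
      have hd := (ZMod.natCast_eq_zero_iff _ _).1 h
      obtain ⟨m, rfl⟩ := hd
      rw [pow_mul, hexp, one_pow, one_mul] at hu
      apply ha0
      apply aut_ext e₁ f hspan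
      · simpa using hae₁
      · simpa using hu
    set k := ((w : ZMod p) * (u : ZMod p)⁻¹).val with hk
    have hkz : ((k * u : ℕ) : ZMod p) = (w : ZMod p) := by
      rw [hk]
      push_cast
      rw [ZMod.natCast_val, ZMod.cast_id', id, mul_assoc, inv_mul_cancel₀ hu0, mul_one]
    have h3 := (ZMod.natCast_eq_natCast_iff' _ _ _).1 hkz
    obtain ⟨p1, p2⟩ := pow_unip hc a e₁ f u hae₁ hu k
    apply hnot k
    apply aut_ext e₁ f hspan
    · rw [hbe₁, p1]
    · rw [hw, p2, pow_eq_pow_mod w (hexp e₁), pow_eq_pow_mod (k * u) (hexp e₁), h3]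
  -- the basis `e₁, e₂`
  have hbij := expHom_bijective p hc hexp hcard e₁ e₂ he₁ hmem
  have hspan : ∀ x : H, ∃ u v : ℕ, x = e₁ ^ u * e₂ ^ v := by
    intro x
    obtain ⟨v, rfl⟩ := hbij.2 x
    exact ⟨_, _, rfl⟩
  have hspan' : ∀ x : H, ∃ u v : ℕ, x = e₂ ^ u * e₁ ^ v := by
    intro x
    obtain ⟨u, v, h⟩ := hspan x
    exact ⟨v, u, by rw [h, hc]⟩
  have hmem' : e₁ ∉ zpowers e₂ := by
    intro h
    apply hmem
    have hzeq : zpowers e₁ = zpowers e₂ := by
      apply Subgroup.eq_of_le_of_card_ge ((zpowers_le).2 h)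
      rw [Nat.card_zpowers, Nat.card_zpowers, hord e₁ he₁, hord e₂ he₂]
    rw [hzeq]
    exact mem_zpowers e₂
  obtain ⟨u, hu⟩ := unipotent p hc hexp e₁ e₂ hspan hmem a 1 ha1 hae₁
  obtain ⟨w, hw⟩ := unipotent p hc hexp e₂ e₁ hspan' hmem' b 1 hb1 hbe₂
  have hu0 : (u : ZMod p) ≠ 0 := by
    intro h
    obtain ⟨m, rfl⟩ := (ZMod.natCast_eq_zero_iff _ _).1 h
    rw [pow_mul, hexp, one_pow, one_mul] at hu
    apply ha0
    apply aut_ext e₁ e₂ hspan
    · simpa using hae₁
    · simpa using hu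
  have hw0 : (w : ZMod p) ≠ 0 := by
    intro h
    obtain ⟨m, rfl⟩ := (ZMod.natCast_eq_zero_iff _ _).1 h
    rw [pow_mul, hexp, one_pow, one_mul] at hw
    apply hb0
    apply aut_ext e₁ e₂ hspan
    · simpa using hw
    · simpa using hbe₂
  let ε : Multiplicative (Fin 2 → ZMod p) ≃* H := MulEquiv.ofBijective _ hbij
  have hε : ∀ v : Fin 2 → ZMod p, ε (Multiplicative.ofAdd v) = e₁ ^ (v 0).val * e₂ ^ (v 1).val := fun v => rfl
  let Θ₀ : Matrix.SpecialLinearGroup (Fin 2) (ZMod p) →* MulAut H :=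
    (MulAut.congr ε).toMonoidHom.comp (slHom p)
  have hΘ : ∀ M (v : Fin 2 → ZMod p), Θ₀ M (ε (Multiplicative.ofAdd v)) =
      ε (Multiplicative.ofAdd ((M : Matrix (Fin 2) (Fin 2) (ZMod p)).mulVec v)) := by
    intro M v
    show ε (slHom p M (ε.symm (ε (Multiplicative.ofAdd v)))) = _
    rw [MulEquiv.symm_apply_apply, slHom_apply]
  have he₁ε : ε (Multiplicative.ofAdd ![1, 0]) = e₁ := by
    rw [hε]
    simp [ZMod.val_one]
  have he₂ε : ε (Multiplicative.ofAdd ![0, 1]) = e₂ := by
    rw [hε]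
    simp [ZMod.val_one]
  have hrange : ∀ M, Θ₀ M ∈ A := by
    intro M
    refine CfsgLib.ClassGeo.SL_transvection_induction (fun N => Θ₀ N ∈ A) M ?_ ?_
    · intro i j hij c
      have hcases : (i = 0 ∧ j = 1) ∨ (i = 1 ∧ j = 0) := by omega
      rcases hcases with ⟨rfl, rfl⟩ | ⟨rfl, rfl⟩
      · set k := (c * (u : ZMod p)⁻¹).val with hk
        have hkz : ((k * u : ℕ) : ZMod p) = c := by
          rw [hk]
          push_cast
          rw [ZMod.natCast_val, ZMod.cast_id', id, mul_assoc, inv_mul_cancel₀ hu0, mul_one]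
        have hcval : c.val = (k * u) % p := by
          rw [← hkz, ZMod.val_natCast]
        obtain ⟨p1, p2⟩ := pow_unip hc a e₁ e₂ u hae₁ hu k
        have hτ : Θ₀ (Matrix.SpecialLinearGroup.transvection hij c) = a ^ k := by
          apply aut_ext e₁ e₂ hspan
          · rw [p1]
            conv_lhs => rw [← he₁ε]
            rw [hΘ, CfsgLib.ClassGeo.transv_mulVec]
            conv_rhs => rw [← he₁ε]
            congr 2
            ext i
            fin_cases i <;> simp [Function.update]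
          · rw [p2]
            conv_lhs => rw [← he₂ε]
            rw [hΘ, CfsgLib.ClassGeo.transv_mulVec, hε]
            simp [ZMod.val_one]
            rw [hcval, ← pow_eq_pow_mod (k * u) (hexp e₁)]
        rw [hτ]
        exact pow_mem t₁.2 k
      · set k := (c * (w : ZMod p)⁻¹).val with hk
        have hkz : ((k * w : ℕ) : ZMod p) = c := by
          rw [hk]
          push_cast
          rw [ZMod.natCast_val, ZMod.cast_id', id, mul_assoc, inv_mul_cancel₀ hw0, mul_one]
        have hcval : c.val = (k * w) % p := by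
          rw [← hkz, ZMod.val_natCast]
        obtain ⟨p1, p2⟩ := pow_unip hc b e₂ e₁ w hbe₂ hw k
        have hτ : Θ₀ (Matrix.SpecialLinearGroup.transvection hij c) = b ^ k := by
          apply aut_ext e₁ e₂ hspan
          · rw [p2]
            conv_lhs => rw [← he₁ε]
            rw [hΘ, CfsgLib.ClassGeo.transv_mulVec, hε]
            simp [ZMod.val_one]
            rw [hcval, ← pow_eq_pow_mod (k * w) (hexp e₂), hc]
          · rw [p1]
            conv_lhs => rw [← he₂ε]
            rw [hΘ, CfsgLib.ClassGeo.transv_mulVec]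
            conv_rhs => rw [← he₂ε]
            congr 2
            ext i
            fin_cases i <;> simp [Function.update]
        rw [hτ]
        exact pow_mem t₂.2 k
    · intro N₁ N₂ h1 h2
      show Θ₀ (N₁ * N₂) ∈ A
      rw [map_mul]
      exact A.mul_mem h1 h2
  have hinj : Function.Injective (Θ₀.codRestrict A hrange) := by
    intro M N h
    have h1 : Θ₀ M = Θ₀ N := congrArg Subtype.val h
    apply slHom_injective p
    exact (MulAut.congr ε).injective h1
  exact ⟨(Θ₀.codRestrict A hrange).range, ⟨(MonoidHom.ofInjective hinj).symm⟩⟩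

end main

section fus

variable {Ω : Type*} [Group Ω] {S : Subgroup Ω} [Finite S] {p : ℕ} [hp : Fact p.Prime]

open CfsgLib.Fusion

theorem abelian_facts (hS : IsPGroup p S) (F : FusionSystem S) (H : Subgroup Ω) (hH : F.IsEssential p H)
    (hc : ∀ x y : H, x * y = y * x) : pCore p (F.autGroup H) = ⊥ ∧ p ∣ Nat.card (F.autGroup H) := by
  have hrad := isRadical_of_isEssential hS F H hH
  obtain ⟨⟨hHS, -⟩, -, hI, E, hE⟩ := hH
  haveI : Finite H := finite_of_le hHS
  haveI : Finite (MulAut H) := finite_mulAut _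
  constructor
  · have hInn : Inn H = ⊥ := by
      rw [eq_bot_iff]
      rintro _ ⟨x, rfl⟩
      rw [mem_bot]
      ext y
      simp [MulAut.conj_apply, hc x y]
    have h1 := hrad.2
    rw [hInn] at h1
    exact (Subgroup.map_eq_bot_iff_of_injective _ (F.autGroup H).subtype_injective).1 h1
  · exact hE.1.trans (Subgroup.card_quotient_dvd_card _)

theorem s5185 (hS : IsPGroup p S) (F : FusionSystem S) (H : Subgroup Ω) (hH : F.IsEssential p H)
    (hcard : Nat.card H = p ^ 2) :
    Cfsg.IsElementaryAbelian p H ∧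
      ∃ K : Subgroup ↥(F.autGroup H), Nonempty (↥K ≃* Matrix.SpecialLinearGroup (Fin 2) (ZMod p)) := by
  classical
  have hpp := hp.out
  haveI : Finite H := Nat.finite_of_card_ne_zero (by rw [hcard]; exact (pow_pos hpp.pos 2).ne')
  haveI : Finite (MulAut H) := finite_mulAut _
  have hc : ∀ x y : H, x * y = y * x := IsPGroup.commutative_of_card_eq_prime_sq hcard
  obtain ⟨hO, hdvd⟩ := abelian_facts hS F H hH hc
  have hexp : ∀ x : H, x ^ p = 1 := by
    by_contra hall
    push Not at hall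
    obtain ⟨x, hx⟩ := hall
    have hox : orderOf x = p ^ 2 := by
      apply orderOf_eq_prime_pow (p := p)
      · simpa using hx
      · have h2 : x ^ Nat.card H = 1 := pow_card_eq_one'
        rw [hcard] at h2
        exact h2
    haveI hcyc : IsCyclic H := isCyclic_of_orderOf_eq_card x (by rw [hox, hcard])
    have hcomm : ∀ a b : MulAut H, a * b = b * a := by
      intro a b
      apply (IsCyclic.mulAutMulEquiv H).injective
      rw [map_mul, map_mul, mul_comm]
    obtain ⟨t, ht⟩ := exists_prime_orderOf_dvd_card' (G := F.autGroup H) p hdvd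
    have hn : (zpowers t).Normal := by
      refine ⟨fun n hn g => ?_⟩
      have : g * n * g⁻¹ = n := by
        apply Subtype.ext
        show (g : MulAut H) * n * (g : MulAut H)⁻¹ = n
        rw [hcomm (g : MulAut H) n]
        group
      rw [this]
      exact hn
    have hpg : IsPGroup p (zpowers t) := by
      rintro ⟨g, k, rfl⟩
      refine ⟨1, Subtype.ext ?_⟩
      show ((t ^ k) ^ (p ^ 1) : F.autGroup H) = 1
      rw [pow_one, ← zpow_natCast, zpow_comm, zpow_natCast, ← ht, pow_orderOf_eq_one, one_zpow]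
    have hle : zpowers t ≤ pCore p (F.autGroup H) := le_sSup ⟨hn, hpg⟩
    rw [hO, le_bot_iff, zpowers_eq_bot] at hle
    rw [hle, orderOf_one] at ht
    exact hpp.one_lt.ne ht
  refine ⟨⟨⟨⟨hc⟩⟩, fun a ha => congrArg Subtype.val (hexp ⟨a, ha⟩)⟩, ?_⟩
  exact exists_sl2 p hc hexp hcard (F.autGroup H) hO hdvd

end fus

end CfsgLib.FusEss
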