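import Cfsg.Agent.Lib.H3.FusEss3
import Cfsg.Agent.Lib.Solv.PGroup
import Cfsg.Agent.Lib.Trans.Basic

/-! # Abelian essential subgroups generated by two elements -/

set_option autoImplicit false

namespace CfsgLib.FusEss4

open Subgroup Cfsg

section endo

variable {M : Type*} [AddCommGroup M]

/-- A `p`-th root of unity of the form `1 + u` with `u² M ≤ p M`, `p ≥ 5`, and `Ω₁(M) ≤ p M`:
then `u M ≤ p M`. -/
theorem unip_of_pow_eq_one (p : ℕ) (hpp : p.Prime) (hp5 : 5 ≤ p) (u : AddMonoid.End M)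
    (h1 : (u + 1) ^ p = 1) (h2 : ∀ x, ∃ y, u (u x) = p • y) (h3 : ∀ x : M, p • x = 0 → ∃ y, x = p • y)
    (x : M) : ∃ y, u x = p • y := by
  set Q : AddSubgroup M := (nsmulAddMonoidHom (α := M) (p ^ 2)).range with hQ
  have hQmem : ∀ y : M, (p ^ 2) • y ∈ Q := fun y => ⟨y, rfl⟩
  -- iterates
  have hu2k : ∀ (k : ℕ) (z : M), ∃ y, (u ^ (2 * k)) z = (p ^ k) • y := by
    intro k
    induction k with
    | zero =>
      intro z
      exact ⟨z, by simp⟩
    | succ k ih =>
      intro z
      obtain ⟨w, hw⟩ := h2 z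
      obtain ⟨y, hy⟩ := ih w
      refine ⟨y, ?_⟩
      have e : u ^ (2 * (k + 1)) = u ^ (2 * k) * (u * u) := by
        rw [mul_add, pow_add, mul_one, sq]
      rw [e]
      show (u ^ (2 * k)) (u (u z)) = _
      rw [hw, map_nsmul, hy, ← mul_nsmul, pow_succ, mul_comm]
  have hui : ∀ (i : ℕ) (z : M), ∃ y, (u ^ (i + 2)) z = p • y := by
    intro i z
    obtain ⟨y, hy⟩ := h2 z
    refine ⟨(u ^ i) y, ?_⟩
    have e : u ^ (i + 2) = u ^ i * (u * u) := by
      rw [pow_add, sq]
    rw [e]
    show (u ^ i) (u (u z)) = _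
    rw [hy, map_nsmul]
  have hexpand : ∀ z : M, ((u + 1) ^ p) z =
      ∑ m ∈ Finset.range (p + 1), (p.choose m) • (u ^ m) z := by
    intro z
    rw [(Commute.one_right u).add_pow]
    erw [AddMonoidHom.finset_sum_apply]
    refine Finset.sum_congr rfl fun m _ => ?_
    rw [one_pow, mul_one]
    show ((u ^ m) * ((p.choose m : ℕ) : AddMonoid.End M)) z = _
    show (u ^ m) (((p.choose m : ℕ) : AddMonoid.End M) z) = _
    rw [AddMonoid.End.natCast_apply, map_nsmul]
  -- the high terms
  have hhigh : ∑ m ∈ Finset.range (p - 1), (p.choose (m + 2)) • (u ^ (m + 2)) x ∈ Q := by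
    refine sum_mem fun m hm => ?_
    rw [Finset.mem_range] at hm
    by_cases hmp : m + 2 = p
    · -- the top term
      obtain ⟨k, hk⟩ := hpp.odd_of_ne_two (by omega)
      have hk2 : 2 ≤ k := by omega
      rw [hmp, Nat.choose_self, one_smul, hk, pow_succ]
      obtain ⟨y, hy⟩ := hu2k k (u x)
      show (u ^ (2 * k)) (u x) ∈ Q
      rw [hy]
      obtain ⟨l, rfl⟩ : ∃ l, k = 2 + l := ⟨k - 2, by omega⟩
      rw [pow_add, mul_nsmul']
      exact hQmem _
    · -- the middle terms
      obtain ⟨c, hc⟩ := hpp.dvd_choose_self (by omega : m + 2 ≠ 0) (by omega : m + 2 < p)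
      obtain ⟨y, hy⟩ := hui m x
      have e5 : (p * c) • p • y = (p ^ 2) • (c • y) := by
        rw [← mul_nsmul', ← mul_nsmul']
        congr 1
        ring
      rw [hc, hy, e5]
      exact hQmem _
  have hsum := hexpand x
  rw [h1] at hsum
  have e1 : p + 1 = (p - 1) + 1 + 1 := by have := hpp.pos; omega
  rw [e1, Finset.sum_range_succ', Finset.sum_range_succ'] at hsum
  have hh : ((1 : AddMonoid.End M)) x = x := rfl
  simp only [pow_zero, Nat.choose_zero_right, one_smul, zero_add, pow_one, Nat.choose_one_right,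
    hh] at hsum
  obtain ⟨w, hw⟩ := hhigh
  have hw' : (p ^ 2) • w = ∑ m ∈ Finset.range (p - 1), (p.choose (m + 2)) • (u ^ (m + 2)) x := hw
  have hsum2 : p • (u x + p • w) = 0 := by
    have e2 : p • (u x + p • w) = (p ^ 2) • w + p • u x := by
      rw [smul_add, ← mul_nsmul', sq, add_comm]
    rw [e2, hw']
    have e3 : ∑ m ∈ Finset.range (p - 1), (p.choose (m + 2)) • (u ^ (m + 2)) x + p • u x + x =
        x := hsum.symm
    exact add_eq_right.1 e3
  obtain ⟨y, hy⟩ := h3 _ hsum2
  refine ⟨y - w, ?_⟩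
  rw [smul_sub, ← hy]
  abel

end endo

section V2

variable {V : Type*} [CommGroup V] [Finite V] (p : ℕ) [hp : Fact p.Prime]

open CfsgLib.FusEss

lemma exists_compl (hexp : ∀ x : V, x ^ p = 1) (hcard : Nat.card V = p ^ 2) (e : V) :
    ∃ f : V, f ∉ zpowers e := by
  by_contra hall
  push Not at hall
  have htop : zpowers e = ⊤ := eq_top_iff.2 fun x _ => hall x
  have h1 : Nat.card (zpowers e) = Nat.card V := by rw [htop]; exact Nat.card_congr Subgroup.topEquiv.toEquiv
  rw [Nat.card_zpowers, hcard] at h1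
  have h2 : orderOf e ∣ p := orderOf_dvd_of_pow_eq_one (hexp e)
  rw [h1] at h2
  have h3 := Nat.le_of_dvd hp.out.pos h2
  have h4 := hp.out.two_le
  nlinarith

lemma span_of_basis (hexp : ∀ x : V, x ^ p = 1) (hcard : Nat.card V = p ^ 2) (e f : V) (he1 : e ≠ 1)
    (hf : f ∉ zpowers e) (x : V) : ∃ a b : ℕ, x = e ^ a * f ^ b := by
  obtain ⟨v, hv⟩ := (expHom_bijective p (fun a b => mul_comm a b) hexp hcard e f he1 hf).2 x
  obtain ⟨w, rfl⟩ := Multiplicative.ofAdd.surjective v
  rw [expHom_apply] at hv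
  exact ⟨_, _, hv.symm⟩

/-- A `p`-element on `C_p × C_p` is unipotent of class two. -/
theorem unip2 (hexp : ∀ x : V, x ^ p = 1) (hcard : Nat.card V = p ^ 2) (t : MulAut V) (n : ℕ)
    (ht : t ^ (p ^ n) = 1) (v : V) : t (t v * v⁻¹) = t v * v⁻¹ := by
  have hd : p ∣ Nat.card V := by rw [hcard]; exact dvd_pow_self p (by norm_num)
  obtain ⟨e, he1, hfix⟩ := exists_fixed p t n ht hd
  obtain ⟨f, hf⟩ := exists_compl p hexp hcard e
  have hspan := span_of_basis p hexp hcard e f he1 hf
  obtain ⟨a, ha⟩ := unipotent p (fun a b => mul_comm a b) hexp e f hspan hf t n ht hfix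
  obtain ⟨i, j, rfl⟩ := hspan v
  have h1 : t (e ^ i * f ^ j) * (e ^ i * f ^ j)⁻¹ = e ^ (a * j) := by
    rw [mul_inv_eq_iff_eq_mul, map_mul, map_pow, map_pow, hfix, ha, mul_pow, ← pow_mul,
      mul_left_comm]
  rw [h1, map_pow, hfix]

end V2

section main

variable {H : Type*} [CommGroup H] [Finite H] (p : ℕ) [hp : Fact p.Prime]

/-- the `p^k`-power map. -/
abbrev pw (k : ℕ) : H →* H := powMonoidHom (p ^ k)

/-- The chain `H ≥ W ≥ H^p ≥ W^p ≥ H^{p²} ≥ …`. -/
def chainC (W : Subgroup H) (n : ℕ) : Subgroup H :=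
  (if n % 2 = 0 then ⊤ else W).map (pw p (n / 2))

lemma chainC_even (W : Subgroup H) (j : ℕ) : chainC p W (2 * j) = (⊤ : Subgroup H).map (pw p j) := by
  have h1 : 2 * j % 2 = 0 := by omega
  have h2 : 2 * j / 2 = j := by omega
  simp only [chainC, h1, h2, if_true]

lemma chainC_odd (W : Subgroup H) (j : ℕ) : chainC p W (2 * j + 1) = W.map (pw p j) := by
  have h1 : ¬ (2 * j + 1) % 2 = 0 := by omega
  have h2 : (2 * j + 1) / 2 = j := by omega
  simp only [chainC, h1, h2, if_false]

omit [Finite H] hp in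
lemma relIndex_map_dvd (f : H →* H) {A B : Subgroup H} (hAB : A ≤ B) :
    (A.map f).relIndex (B.map f) ∣ A.relIndex B := by
  rw [relIndex_map_map]
  have h := Subgroup.relIndex_sup_left (K := A ⊔ f.ker) (H := B)
  have e : (A ⊔ f.ker) ⊔ B = B ⊔ f.ker := by
    apply le_antisymm
    · exact sup_le (sup_le (hAB.trans le_sup_left) le_sup_right) le_sup_left
    · exact sup_le le_sup_right (le_sup_right.trans le_sup_left)
  rw [e] at h
  rw [h]
  exact relIndex_dvd_of_le_left _ le_sup_left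

/-- No characteristic chain with factors of order at most `p`. -/
theorem chain_false (hHp : IsPGroup p H) (b : ℕ) (hexp : ∀ x : H, x ^ (p ^ (b + 1)) = 1)
    (hW : (pw p b : H →* H).ker.index = p) (hidx : (pw p 1 : H →* H).range.index ≤ p ^ 2)
    (Hno : ∀ (D : ℕ → Subgroup H) (m : ℕ), D 0 = ⊥ → D m = ⊤ → Monotone D →
      (∀ (γ : MulAut H) (j : ℕ), ∀ x ∈ D j, γ x ∈ D j) →
      (∀ j < m, (D j).relIndex (D (j + 1)) = p ∨ D j = D (j + 1)) → False) : False := by
  classical
  have hpp := hp.out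
  set W : Subgroup H := (pw p b : H →* H).ker with hWdef
  set C : ℕ → Subgroup H := chainC p W with hC
  have hpW : ∀ x : H, x ^ p ∈ W := by
    intro x
    show (x ^ p) ^ (p ^ b) = 1
    rw [← pow_mul, ← pow_succ', hexp]
  have hE : (pw p 1 : H →* H).range ≤ W := by
    rintro _ ⟨x, rfl⟩
    have : (pw p 1 : H →* H) x = x ^ p := by simp
    rw [this]
    exact hpW x
  obtain ⟨n₀, hn₀⟩ := IsPGroup.iff_card.1 hHp
  have hEW : ((pw p 1 : H →* H).range).relIndex W ∣ p := by
    have h1 := Subgroup.relIndex_mul_index hE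
    rw [hW] at h1
    have h2 : ((pw p 1 : H →* H).range).relIndex W ≤ p := by
      have h3 : ((pw p 1 : H →* H).range).relIndex W * p ≤ p * p := by
        rw [h1, ← sq]; exact hidx
      exact Nat.le_of_mul_le_mul_right h3 hpp.pos
    have h4 : ((pw p 1 : H →* H).range).relIndex W ∣ p ^ n₀ := by
      rw [← hn₀]
      have h5 := Subgroup.relIndex_dvd_card ((pw p 1 : H →* H).range) W
      exact h5.trans (Subgroup.card_subgroup_dvd_card W)
    obtain ⟨c, hc, hc2⟩ := (Nat.dvd_prime_pow hpp).1 h4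
    rw [hc2] at h2 ⊢
    have : c ≤ 1 := by
      by_contra hcon
      have h6 : p ^ 2 ≤ p ^ c := Nat.pow_le_pow_right hpp.pos (by omega)
      have h7 : p < p ^ 2 := by
        rw [sq]; nlinarith [hpp.two_le]
      omega
    exact (pow_dvd_pow p this).trans (by rw [pow_one])
  have hstepC : ∀ n, C (n + 1) ≤ C n ∧ (C (n + 1)).relIndex (C n) ∣ p := by
    intro n
    obtain ⟨j, rfl | rfl⟩ := Nat.even_or_odd' n
    · show chainC p W (2 * j + 1) ≤ chainC p W (2 * j) ∧
        (chainC p W (2 * j + 1)).relIndex (chainC p W (2 * j)) ∣ p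
      rw [chainC_even, chainC_odd]
      refine ⟨Subgroup.map_mono le_top, (relIndex_map_dvd _ le_top).trans ?_⟩
      rw [Subgroup.relIndex_top_right, hW]
    · have e : 2 * j + 1 + 1 = 2 * (j + 1) := by ring
      show chainC p W (2 * j + 1 + 1) ≤ chainC p W (2 * j + 1) ∧
        (chainC p W (2 * j + 1 + 1)).relIndex (chainC p W (2 * j + 1)) ∣ p
      rw [e, chainC_even, chainC_odd]
      have e2 : (⊤ : Subgroup H).map (pw p (j + 1)) =
          ((pw p 1 : H →* H).range).map (pw p j) := by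
        ext y
        constructor
        · rintro ⟨x, -, rfl⟩
          refine ⟨x ^ p, ⟨x, by simp⟩, ?_⟩
          simp only [powMonoidHom_apply]
          rw [← pow_mul, pow_succ']
        · rintro ⟨_, ⟨x, rfl⟩, rfl⟩
          refine ⟨x, mem_top _, ?_⟩
          simp only [powMonoidHom_apply]
          rw [← pow_mul, pow_succ', pow_one]
      rw [e2]
      exact ⟨Subgroup.map_mono hE, (relIndex_map_dvd _ hE).trans hEW⟩
  have hchar : ∀ (γ : MulAut H) (n : ℕ), ∀ x ∈ C n, γ x ∈ C n := by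
    intro γ n x hx
    obtain ⟨y, hy, rfl⟩ := hx
    refine ⟨γ y, ?_, ?_⟩
    · split_ifs at hy ⊢ with h
      · exact mem_top _
      · show (γ y) ^ (p ^ b) = 1
        rw [← map_pow]
        have : y ^ (p ^ b) = 1 := hy
        rw [this, map_one]
    · simp only [powMonoidHom_apply, map_pow]
  set m := 2 * (b + 1) with hm
  set D : ℕ → Subgroup H := fun k => C (m - k) with hD
  have h0 : D 0 = ⊥ := by
    show chainC p W (2 * (b + 1) - 0) = ⊥
    rw [Nat.sub_zero, chainC_even]
    rw [eq_bot_iff]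
    rintro _ ⟨x, -, rfl⟩
    exact hexp x
  have hmT : D m = ⊤ := by
    show chainC p W (m - m) = ⊤
    rw [Nat.sub_self]
    have := chainC_even p W 0
    rw [Nat.mul_zero] at this
    rw [this, eq_top_iff]
    intro x _
    exact ⟨x, mem_top _, by simp⟩
  have hmono : Monotone D := by
    apply monotone_nat_of_le_succ
    intro k
    by_cases hk : k < m
    · have e1 : m - k = (m - (k + 1)) + 1 := by omega
      show C (m - k) ≤ C (m - (k + 1))
      rw [e1]
      exact (hstepC _).1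
    · have e1 : m - k = 0 := by omega
      have e2 : m - (k + 1) = 0 := by omega
      show C (m - k) ≤ C (m - (k + 1))
      rw [e1, e2]
  refine Hno D m h0 hmT hmono (fun γ j x hx => hchar γ _ x hx) ?_
  intro j hj
  have e1 : m - j = (m - (j + 1)) + 1 := by omega
  have e3 : D j = C ((m - (j + 1)) + 1) := by
    show C (m - j) = _
    rw [e1]
  have e4 : D (j + 1) = C (m - (j + 1)) := rfl
  rw [e3, e4]
  obtain ⟨h5, h6⟩ := hstepC (m - (j + 1))
  rcases (Nat.dvd_prime hpp).1 h6 with h7 | h7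
  · right
    rw [Subgroup.relIndex_eq_one] at h7
    exact le_antisymm h5 h7
  · left; exact h7


/-- The homocyclic group. -/
theorem homocyclic_iso (hHp : IsPGroup p H) (k : ℕ) (hexp : ∀ x : H, x ^ (p ^ k) = 1)
    (hcard : Nat.card H = p ^ (2 * k)) (hidx : (pw p 1 : H →* H).range.index = p ^ 2) :
    Nonempty (H ≃* Multiplicative (ZMod (p ^ k) × ZMod (p ^ k))) := by
  classical
  have hpp := hp.out
  set E : Subgroup H := (pw p 1 : H →* H).range with hE
  have hVc : Nat.card (H ⧸ E) = p ^ 2 := hidx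
  have hVe : ∀ v : H ⧸ E, v ^ p = 1 := by
    intro v
    obtain ⟨x, rfl⟩ := QuotientGroup.mk'_surjective E v
    rw [← map_pow, QuotientGroup.mk'_apply, QuotientGroup.eq_one_iff]
    exact ⟨x, by simp⟩
  haveI : Finite (H ⧸ E) := inferInstance
  haveI hnt : Nontrivial (H ⧸ E) := by
    apply Finite.one_lt_card_iff_nontrivial.1
    rw [hVc]
    exact one_lt_pow₀ hpp.one_lt (by norm_num)
  obtain ⟨e₀, he₀⟩ := exists_ne (1 : H ⧸ E)
  obtain ⟨f₀, hf₀⟩ := exists_compl p hVe hVc e₀
  have hspan := span_of_basis p hVe hVc e₀ f₀ he₀ hf₀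
  obtain ⟨x, rfl⟩ := QuotientGroup.mk'_surjective E e₀
  obtain ⟨y, rfl⟩ := QuotientGroup.mk'_surjective E f₀
  set L : Subgroup H := closure {x, y} with hL
  have hxL : x ∈ L := subset_closure (by simp)
  have hyL : y ∈ L := subset_closure (by simp)
  have hLE : L ⊔ E = ⊤ := by
    rw [eq_top_iff]
    intro z _
    obtain ⟨a, b, hab⟩ := hspan (QuotientGroup.mk' E z)
    have h1 : (QuotientGroup.mk' E) (x ^ a * y ^ b) = (QuotientGroup.mk' E) z := by
      rw [map_mul, map_pow, map_pow]; exact hab.symm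
    have h2 := QuotientGroup.eq.1 h1
    have e : z = (x ^ a * y ^ b) * ((x ^ a * y ^ b)⁻¹ * z) := by group
    rw [e]
    exact mul_mem (mem_sup_left (mul_mem (pow_mem hxL a) (pow_mem hyL b))) (mem_sup_right h2)
  have hEF : E ≤ frattini H := by
    rintro _ ⟨g, rfl⟩
    have := (CfsgLib.Solv.pgroup_commutator_pow_le_frattini hHp).2 g
    simpa using this
  have hLF : L ⊔ frattini H = ⊤ := by
    rw [eq_top_iff, ← hLE]
    exact sup_le_sup_left hEF L
  have hLtop : L = ⊤ := frattini_nongenerating hLF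
  -- the parametrisation
  let gx : ZMod (p ^ k) →+ Additive H := ZMod.lift (p ^ k) ⟨zmultiplesHom _ (Additive.ofMul x), by
    show ((p ^ k : ℕ) : ℤ) • Additive.ofMul x = 0
    rw [natCast_zsmul, ← ofMul_pow, hexp]; rfl⟩
  let gy : ZMod (p ^ k) →+ Additive H := ZMod.lift (p ^ k) ⟨zmultiplesHom _ (Additive.ofMul y), by
    show ((p ^ k : ℕ) : ℤ) • Additive.ofMul y = 0
    rw [natCast_zsmul, ← ofMul_pow, hexp]; rfl⟩
  have hgx : gx 1 = Additive.ofMul x := by
    have := ZMod.lift_coe (n := p ^ k) ⟨zmultiplesHom _ (Additive.ofMul x), by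
      show ((p ^ k : ℕ) : ℤ) • Additive.ofMul x = 0
      rw [natCast_zsmul, ← ofMul_pow, hexp]; rfl⟩ (1 : ℤ)
    simpa using this
  have hgy : gy 1 = Additive.ofMul y := by
    have := ZMod.lift_coe (n := p ^ k) ⟨zmultiplesHom _ (Additive.ofMul y), by
      show ((p ^ k : ℕ) : ℤ) • Additive.ofMul y = 0
      rw [natCast_zsmul, ← ofMul_pow, hexp]; rfl⟩ (1 : ℤ)
    simpa using this
  let Ψ : Multiplicative (ZMod (p ^ k) × ZMod (p ^ k)) →* H :=
    AddMonoidHom.toMultiplicativeLeft (gx.coprod gy)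
  have hΨx : Ψ (Multiplicative.ofAdd ((1 : ZMod (p ^ k)), (0 : ZMod (p ^ k)))) = x := by
    show Additive.toMul (gx 1 + gy 0) = x
    rw [hgx, map_zero, add_zero]; rfl
  have hΨy : Ψ (Multiplicative.ofAdd ((0 : ZMod (p ^ k)), (1 : ZMod (p ^ k)))) = y := by
    show Additive.toMul (gx 0 + gy 1) = y
    rw [hgy, map_zero, zero_add]; rfl
  have hsurj : Function.Surjective Ψ := by
    rw [← MonoidHom.range_eq_top, eq_top_iff, ← hLtop, hL, closure_le]
    rintro z (rfl | rfl)
    · exact ⟨_, hΨx⟩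
    · exact ⟨_, hΨy⟩
  haveI : NeZero (p ^ k) := ⟨(pow_pos hpp.pos k).ne'⟩
  have hdom : Nat.card (Multiplicative (ZMod (p ^ k) × ZMod (p ^ k))) = p ^ (2 * k) := by
    rw [Nat.card_congr (Multiplicative.toAdd), Nat.card_prod, Nat.card_zmod, two_mul, pow_add]
  have hbij : Function.Bijective Ψ := hsurj.bijective_of_nat_card_le (by rw [hdom, hcard])
  exact ⟨(MulEquiv.ofBijective Ψ hbij).symm⟩


/-- The congruence modulo `H^p` for a `p`-element, when `p ≥ 5`. -/
theorem trivial_mod_power (hp5 : 5 ≤ p) (hidx : (pw p 1 : H →* H).range.index = p ^ 2)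
    (hΩ : ∀ x : H, x ^ p = 1 → ∃ y : H, x = y ^ p) (t : MulAut H) (ht : t ^ p = 1) (x : H) :
    ∃ y : H, t x * x⁻¹ = y ^ p := by
  classical
  have hpp := hp.out
  set E : Subgroup H := (pw p 1 : H →* H).range with hE
  have hEm : ∀ z : H, z ^ p ∈ E := fun z => ⟨z, by simp⟩
  have hEe : ∀ z ∈ E, ∃ y : H, z = y ^ p := by
    rintro _ ⟨y, rfl⟩
    exact ⟨y, by simp⟩
  have hVc : Nat.card (H ⧸ E) = p ^ 2 := hidx
  have hVe : ∀ v : H ⧸ E, v ^ p = 1 := by
    intro v
    obtain ⟨x, rfl⟩ := QuotientGroup.mk'_surjective E v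
    rw [← map_pow, QuotientGroup.mk'_apply, QuotientGroup.eq_one_iff]
    exact hEm x
  have htE : E.map t.toMonoidHom = E := by
    apply le_antisymm
    · rintro _ ⟨_, ⟨z, rfl⟩, rfl⟩
      have : t.toMonoidHom ((pw p 1 : H →* H) z) = (t z) ^ p := by simp
      rw [this]
      exact hEm _
    · rintro _ ⟨z, rfl⟩
      refine ⟨(pw p 1 : H →* H) (t⁻¹ z), ⟨_, rfl⟩, ?_⟩
      simp
  let tb : MulAut (H ⧸ E) := QuotientGroup.congr E E t htE
  have htb : ∀ z : H, tb (QuotientGroup.mk' E z) = QuotientGroup.mk' E (t z) := fun z => rfl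
  have htbk : ∀ (k : ℕ) (z : H), (tb ^ k) (QuotientGroup.mk' E z) = QuotientGroup.mk' E ((t ^ k) z) := by
    intro k z
    induction k with
    | zero => rfl
    | succ k ih => rw [pow_succ', MulAut.mul_apply, ih, htb, pow_succ', MulAut.mul_apply]
  have htb1 : tb ^ (p ^ 1) = 1 := by
    rw [pow_one]
    ext v
    obtain ⟨z, rfl⟩ := QuotientGroup.mk'_surjective E v
    rw [htbk, ht]
    rfl
  have hu2 : ∀ z : H, t (t z * z⁻¹) * (t z * z⁻¹)⁻¹ ∈ E := by
    intro z
    have h1 := unip2 p hVe hVc tb 1 htb1 (QuotientGroup.mk' E z)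
    rw [htb] at h1
    have h2 : QuotientGroup.mk' E (t (t z * z⁻¹)) = QuotientGroup.mk' E (t z * z⁻¹) := by
      rw [← htb, map_mul, map_inv]
      exact h1
    have h3 := QuotientGroup.eq.1 h2.symm
    rw [mul_comm]
    exact h3
  -- additive version
  let τ : AddMonoid.End (Additive H) := t.toMonoidHom.toAdditive
  have hτ : ∀ z : H, τ (Additive.ofMul z) = Additive.ofMul (t z) := fun z => rfl
  let u : AddMonoid.End (Additive H) := τ - 1
  have hu : ∀ z : H, u (Additive.ofMul z) = Additive.ofMul (t z * z⁻¹) := by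
    intro z
    show τ (Additive.ofMul z) - Additive.ofMul z = _
    rw [hτ, ofMul_mul, ofMul_inv, sub_eq_add_neg]
  have hτk : ∀ (k : ℕ) (z : H), (τ ^ k) (Additive.ofMul z) = Additive.ofMul ((t ^ k) z) := by
    intro k z
    induction k with
    | zero => rfl
    | succ k ih =>
      rw [pow_succ']
      show τ ((τ ^ k) (Additive.ofMul z)) = _
      rw [ih, hτ, pow_succ', MulAut.mul_apply]
  have h1 : (u + 1) ^ p = 1 := by
    have e : u + 1 = τ := sub_add_cancel τ 1
    rw [e]
    ext z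
    have := hτk p (Additive.toMul z)
    rw [ht] at this
    exact this
  have h2 : ∀ z : Additive H, ∃ y, u (u z) = p • y := by
    intro z
    obtain ⟨y, hy⟩ := hEe _ (hu2 (Additive.toMul z))
    refine ⟨Additive.ofMul y, ?_⟩
    have e : z = Additive.ofMul (Additive.toMul z) := rfl
    rw [e, hu, hu, hy, ofMul_pow]
  have h3 : ∀ z : Additive H, p • z = 0 → ∃ y, z = p • y := by
    intro z hz
    obtain ⟨y, hy⟩ := hΩ (Additive.toMul z) hz
    exact ⟨Additive.ofMul y, by rw [← ofMul_pow, ← hy]; rfl⟩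
  obtain ⟨y, hy⟩ := unip_of_pow_eq_one p hpp hp5 u h1 h2 h3 (Additive.ofMul x)
  refine ⟨Additive.toMul y, ?_⟩
  rw [hu] at hy
  exact hy

/-- The classification. -/
theorem classify (hHp : IsPGroup p H) (hne : ∃ x : H, x ≠ 1) (hidx : (pw p 1 : H →* H).range.index ≤ p ^ 2)
    (Hno : ∀ (D : ℕ → Subgroup H) (m : ℕ), D 0 = ⊥ → D m = ⊤ → Monotone D →
      (∀ (γ : MulAut H) (j : ℕ), ∀ x ∈ D j, γ x ∈ D j) →
      (∀ j < m, (D j).relIndex (D (j + 1)) = p ∨ D j = D (j + 1)) → False)
    (t : MulAut H) (ht : t ^ p = 1) (ht1 : t ≠ 1)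
    (Hst : ∀ (D : ℕ → Subgroup H) (m : ℕ), D 0 = ⊥ → D m = ⊤ → Monotone D →
      (∀ (γ : MulAut H) (j : ℕ), ∀ x ∈ D j, γ x ∈ D j) →
      (∀ j < m, ∀ x ∈ D (j + 1), x⁻¹ * t x ∈ D j) → t = 1) :
    ((∀ x : H, x ^ p = 1) ∧ Nat.card H = p ^ 2) ∨
      (p ≤ 3 ∧ ∃ k : ℕ, Nonempty (H ≃* Multiplicative (ZMod (p ^ k) × ZMod (p ^ k)))) := by
  classical
  have hpp := hp.out
  obtain ⟨n₀, hn₀⟩ := IsPGroup.iff_card.1 hHp
  have hex : ∃ a, ∀ x : H, x ^ (p ^ a) = 1 := ⟨n₀, fun x => by rw [← hn₀]; exact pow_card_eq_one'⟩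
  set a := Nat.find hex with ha
  have hexp : ∀ x : H, x ^ (p ^ a) = 1 := Nat.find_spec hex
  have ha0 : a ≠ 0 := by
    intro h0
    obtain ⟨x, hx⟩ := hne
    have := hexp x
    rw [h0] at this
    exact hx (by simpa using this)
  obtain ⟨b, hb⟩ := Nat.exists_eq_succ_of_ne_zero ha0
  rw [Nat.succ_eq_add_one] at hb
  rw [hb] at hexp
  have hmin : ¬ ∀ x : H, x ^ (p ^ b) = 1 := Nat.find_min hex (by omega)
  push Not at hmin
  obtain ⟨x₀, hx₀⟩ := hmin
  set T : Subgroup H := (pw p b : H →* H).range with hT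
  have hWi : (pw p b : H →* H).ker.index = Nat.card T := Subgroup.index_ker _
  have hTne : T ≠ ⊥ := by
    intro h
    have : (pw p b : H →* H) x₀ ∈ T := ⟨x₀, rfl⟩
    rw [h, mem_bot] at this
    exact hx₀ this
  have hTd : Nat.card T ∣ p ^ n₀ := by rw [← hn₀]; exact Subgroup.card_subgroup_dvd_card T
  obtain ⟨c, hc, hcT⟩ := (Nat.dvd_prime_pow hpp).1 hTd
  have hc0 : c ≠ 0 := by
    intro h0
    rw [h0, pow_zero] at hcT
    exact hTne ((Subgroup.card_eq_one).1 hcT)
  have hc1 : c ≠ 1 := by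
    intro h1
    rw [h1, pow_one] at hcT
    exact chain_false p hHp b hexp (by rw [hWi, hcT]) hidx Hno
  -- `T = Ω₁`
  set Om : Subgroup H := (pw p 1 : H →* H).ker with hOm
  set E : Subgroup H := (pw p 1 : H →* H).range with hE
  have hTOm : T ≤ Om := by
    rintro _ ⟨x, rfl⟩
    show ((pw p b : H →* H) x) ^ (p ^ 1) = 1
    simp only [powMonoidHom_apply]
    rw [← pow_mul, pow_one, ← pow_succ, hexp]
  have hOmc : Nat.card Om = E.index := by
    have h1 := Subgroup.card_mul_index Om
    have h2 := Subgroup.card_mul_index E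
    have h3 : Om.index = Nat.card E := Subgroup.index_ker _
    rw [h3] at h1
    rw [← h2, mul_comm] at h1
    exact Nat.eq_of_mul_eq_mul_left Nat.card_pos h1
  have hcard_le : p ^ c ≤ p ^ 2 := by
    rw [← hcT]
    exact (Subgroup.card_le_of_le hTOm).trans (by rw [hOmc]; exact hidx)
  have hc2 : c = 2 := by
    have : c ≤ 2 := (Nat.pow_le_pow_iff_right hpp.one_lt).1 hcard_le
    omega
  subst hc2
  have hOmle : Nat.card Om ≤ Nat.card T := by
    rw [hOmc, hcT]; exact hidx
  have hTeq : T = Om := Subgroup.eq_of_le_of_card_ge hTOm hOmle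
  have hEi : E.index = p ^ 2 := by
    rw [← hOmc, ← hTeq, hcT]
  rcases Nat.eq_zero_or_pos b with hb0 | hbpos
  · -- exponent `p`
    left
    subst hb0
    have hTtop : T = ⊤ := by
      rw [eq_top_iff]
      intro x _
      exact ⟨x, by simp⟩
    refine ⟨fun x => by simpa using hexp x, ?_⟩
    rw [← hcT, hTtop]
    exact (Nat.card_congr Subgroup.topEquiv.toEquiv).symm
  · right
    have hΩ : ∀ x : H, x ^ p = 1 → ∃ y : H, x = y ^ p := by
      intro x hx
      have h1 : x ∈ Om := by
        show x ^ (p ^ 1) = 1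
        rwa [pow_one]
      rw [← hTeq] at h1
      obtain ⟨y, rfl⟩ := h1
      obtain ⟨d, rfl⟩ : ∃ d, b = d + 1 := ⟨b - 1, by omega⟩
      refine ⟨y ^ (p ^ d), ?_⟩
      simp only [powMonoidHom_apply]
      rw [← pow_mul, pow_succ]
    have hp3 : p ≤ 3 := by
      by_contra hcon
      have hp5 : 5 ≤ p := by
        have h4 : p ≠ 4 := fun h => by
          rw [h] at hpp
          exact absurd hpp (by norm_num)
        omega
      apply ht1
      have htriv := trivial_mod_power p hp5 hEi hΩ t ht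
      set m := b + 1 with hm
      set D : ℕ → Subgroup H := fun k => (pw p (m - k) : H →* H).range with hD
      have hD0 : D 0 = ⊥ := by
        rw [eq_bot_iff]
        rintro _ ⟨x, rfl⟩
        exact hexp x
      have hDm : D m = ⊤ := by
        rw [eq_top_iff]
        intro x _
        refine ⟨x, ?_⟩
        simp [hD]
      have hmono : Monotone D := by
        apply monotone_nat_of_le_succ
        intro k
        rintro _ ⟨x, rfl⟩
        by_cases hk : k < m
        · have e1 : m - k = (m - (k + 1)) + 1 := by omega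
          refine ⟨x ^ p, ?_⟩
          simp only [powMonoidHom_apply]
          rw [e1, ← pow_mul, pow_succ']
        · have e1 : m - k = 0 := by omega
          have e2 : m - (k + 1) = 0 := by omega
          refine ⟨x, ?_⟩
          simp only [powMonoidHom_apply]
          rw [e1, e2]
      refine Hst D m hD0 hDm hmono ?_ ?_
      · rintro γ j _ ⟨x, rfl⟩
        refine ⟨γ x, ?_⟩
        simp
      · rintro j hj _ ⟨x, rfl⟩
        obtain ⟨y, hy⟩ := htriv x
        refine ⟨y, ?_⟩
        have e1 : m - j = (m - (j + 1)) + 1 := by omega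
        simp only [powMonoidHom_apply]
        rw [map_pow, ← inv_pow, ← mul_pow, mul_comm, hy, e1, ← pow_mul, pow_succ' p]
    refine ⟨hp3, b + 1, ?_⟩
    -- the order of `H`
    have hcardP : ∀ i : ℕ, i ≤ b + 1 → Nat.card ((pw p (b + 1 - i) : H →* H).range) = p ^ (2 * i) := by
      intro i
      induction i with
      | zero =>
        intro _
        have : ((pw p (b + 1 - 0) : H →* H).range) = ⊥ := by
          rw [eq_bot_iff]
          rintro _ ⟨x, rfl⟩
          exact hexp x
        rw [this]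
        simp
      | succ i ih =>
        intro hi
        have ih' := ih (by omega)
        set j := b + 1 - (i + 1) with hj
        have hjb : j ≤ b := by omega
        have e1 : b + 1 - i = j + 1 := by omega
        rw [e1] at ih'
        have h5 : Om ≤ (pw p j : H →* H).range := by
          rw [← hTeq]
          rintro _ ⟨x, rfl⟩
          refine ⟨x ^ (p ^ (b - j)), ?_⟩
          simp only [powMonoidHom_apply]
          rw [← pow_mul, ← pow_add]
          congr 2
          omega
        have h6 := CfsgLib.Trans.card_mul_relIndex h5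
        have h7 : Om.relIndex ((pw p j : H →* H).range) =
            Nat.card (((pw p j : H →* H).range).map (pw p 1 : H →* H)) :=
          Subgroup.relIndex_ker _ _
        have h8 : ((pw p j : H →* H).range).map (pw p 1 : H →* H) = (pw p (j + 1) : H →* H).range := by
          ext y
          constructor
          · rintro ⟨_, ⟨x, rfl⟩, rfl⟩
            refine ⟨x, ?_⟩
            simp only [powMonoidHom_apply]
            rw [← pow_mul, pow_succ, pow_one]
          · rintro ⟨x, rfl⟩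
            refine ⟨x ^ (p ^ j), ⟨x, rfl⟩, ?_⟩
            simp only [powMonoidHom_apply]
            rw [← pow_mul, pow_one, pow_succ]
        rw [h7, h8, ih', hOmc, hEi] at h6
        rw [← h6]
        ring
    have hcardH : Nat.card H = p ^ (2 * (b + 1)) := by
      have h1 := hcardP (b + 1) le_rfl
      have h2 : (pw p (b + 1 - (b + 1)) : H →* H).range = ⊤ := by
        rw [eq_top_iff]
        intro x _
        refine ⟨x, ?_⟩
        simp
      rw [h2] at h1
      rw [← h1]
      exact (Nat.card_congr Subgroup.topEquiv.toEquiv).symm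
    exact homocyclic_iso p hHp (b + 1) hexp hcardH hEi

end main

section fus

variable {Ω : Type*} [Group Ω] {S : Subgroup Ω} [Finite S] {p : ℕ} [hp : Fact p.Prime]

open CfsgLib.Fusion

theorem s5187 (hS : IsPGroup p S) (F : FusionSystem S) (H : Subgroup Ω) (hH : F.IsEssential p H)
    (hab : IsMulCommutative ↥H) (hrk : (frattini ↥H).index ≤ p ^ 2) :
    (Cfsg.IsElementaryAbelian p H ∧ Nat.card H = p ^ 2) ∨
      (p ≤ 3 ∧ ∃ k : ℕ, Nonempty (↥H ≃* Multiplicative (ZMod (p ^ k) × ZMod (p ^ k)))) := by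
  classical
  have hc : ∀ x y : H, x * y = y * x := fun x y => hab.is_comm.comm x y
  obtain ⟨hO, hdvd⟩ := CfsgLib.FusEss.abelian_facts hS F H hH hc
  have hHS : H ≤ S := hH.1.1
  haveI : Finite H := finite_of_le hHS
  haveI : Finite (MulAut H) := finite_mulAut _
  have hHp : IsPGroup p H := hS.to_le hHS
  letI : CommGroup H := { (inferInstance : Group H) with mul_comm := hc }
  obtain ⟨t₀, ht₀⟩ := exists_prime_orderOf_dvd_card' (G := F.autGroup H) p hdvd
  set t : MulAut H := (t₀ : MulAut H) with ht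
  have ht_p : t ^ p = 1 := by
    have h1 : t₀ ^ p = 1 := by rw [← ht₀]; exact pow_orderOf_eq_one t₀
    exact congrArg Subtype.val h1
  have ht1 : t ≠ 1 := by
    intro h
    have h1 : t₀ = 1 := Subtype.ext h
    rw [h1, orderOf_one] at ht₀
    exact hp.out.one_lt.ne ht₀
  have hne : ∃ x : H, x ≠ 1 := by
    by_contra hall
    push Not at hall
    apply ht1
    ext x
    rw [hall x, map_one]
    rfl
  have hidx : (pw p 1 : H →* H).range.index ≤ p ^ 2 := by
    have hle : frattini H ≤ (pw p 1 : H →* H).range := by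
      apply CfsgLib.Solv.frattini_le_of_commutator_pow hHp
      · rw [_root_.commutator_def, Subgroup.commutator_le]
        intro g _ h _
        rw [commutatorElement_eq_one_iff_mul_comm.2 (hc g h)]
        exact one_mem _
      · intro x
        exact ⟨x, by simp⟩
    exact (Subgroup.index_antitone hle).trans hrk
  have Hno : ∀ (D : ℕ → Subgroup H) (m : ℕ), D 0 = ⊥ → D m = ⊤ → Monotone D →
      (∀ (γ : MulAut H) (j : ℕ), ∀ x ∈ D j, γ x ∈ D j) →
      (∀ j < m, (D j).relIndex (D (j + 1)) = p ∨ D j = D (j + 1)) → False :=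
    fun D m h0 hm hmono hchar hstep => CfsgLib.FusEss.no_chain hS F H hH D m h0 hm hmono hchar hstep
  have Hst : ∀ (D : ℕ → Subgroup H) (m : ℕ), D 0 = ⊥ → D m = ⊤ → Monotone D →
      (∀ (γ : MulAut H) (j : ℕ), ∀ x ∈ D j, γ x ∈ D j) →
      (∀ j < m, ∀ x ∈ D (j + 1), x⁻¹ * t x ∈ D j) → t = 1 := by
    intro D m h0 hm hmono hchar hstep
    have h1 := stab_le_pCore hHp (F.autGroup H) D m h0 hm hmono (fun γ _ j x hx => hchar γ j x hx)
    have h2 : t₀ ∈ (stabGroup D m hmono).subgroupOf (F.autGroup H) := by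
      rw [mem_subgroupOf]
      exact mem_stabGroup_of_forward hstep
    have h3 := h1 h2
    rw [hO, mem_bot] at h3
    rw [ht, h3]
    rfl
  rcases classify p hHp hne hidx Hno t ht_p ht1 Hst with ⟨he, hcard⟩ | h
  · left
    exact ⟨⟨⟨⟨hc⟩⟩, fun a ha => congrArg Subtype.val (he ⟨a, ha⟩)⟩, hcard⟩
  · right
    exact h

end fus

end CfsgLib.FusEss4
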