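import Cfsg.Agent.Lib.FGS.FrobThm
import Cfsg.Agent.Lib.Solv.Core
import Cfsg.Agent.Lib.Local.Isolated
import Cfsg.Agent.Lib.Trans.Basic

/-! # An isolated element of a Sylow subgroup centralizing all the `p'`-subgroups it normalizes
is central. -/

set_option autoImplicit false
set_option linter.unusedSectionVars false
set_option linter.unusedVariables false

namespace CfsgLib.IsolCent

open Subgroup Cfsg

universe u

variable {G : Type u} [Group G] [Finite G] {p : ℕ} [hpf : Fact p.Prime]

/-- The hypotheses. -/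
structure Hyp (S : Sylow p G) (x : G) : Prop where
  hx : x ∈ S
  hU : ∀ g : G, g⁻¹ * x * g ∈ S → g⁻¹ * x * g = x
  hb : ∀ H : Subgroup G, (Nat.card H).Coprime p → (∀ h ∈ H, x * h * x⁻¹ ∈ H) →
    ∀ h ∈ H, x * h = h * x

lemma Hyp.conj_in_sylow {S : Sylow p G} {x : G} (h : Hyp S x) (T : Sylow p G) (hxT : x ∈ T) (g : G)
    (hg : g⁻¹ * x * g ∈ T) : g⁻¹ * x * g = x := by
  obtain ⟨t, rfl⟩ := MulAction.exists_smul_eq G S T
  have hxT' := (CfsgLib.Trans.mem_sylow_smul t S x).1 hxT
  have hg' := (CfsgLib.Trans.mem_sylow_smul t S _).1 hg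
  have h1 := h.hU t hxT'
  have h2 := h.hU (g * t) (by
    have h5 : (g * t)⁻¹ * x * (g * t) = t⁻¹ * (g⁻¹ * x * g) * t := by group
    rw [h5]; exact hg')
  have h3 : t * x * t⁻¹ = x := by
    calc t * x * t⁻¹ = t * (t⁻¹ * x * t) * t⁻¹ := by rw [h1]
      _ = x := by group
  calc g⁻¹ * x * g = t * ((g * t)⁻¹ * x * (g * t)) * t⁻¹ := by group
    _ = t * x * t⁻¹ := by rw [h2]
    _ = x := h3

lemma isP_of_mem {S : Sylow p G} {y : G} (hy : y ∈ S) : IsPGroup p (zpowers y) := by
  have h1 : zpowers y ≤ (S : Subgroup G) := by rwa [Subgroup.zpowers_le]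
  exact S.isPGroup'.to_le h1

lemma Hyp.isP {S : Sylow p G} {x : G} (h : Hyp S x) : IsPGroup p (zpowers x) := isP_of_mem h.hx

lemma isP_conj {x : G} (hx : IsPGroup p (zpowers x)) (g : G) : IsPGroup p (zpowers (g⁻¹ * x * g)) := by
  have h := hx.map (MulAut.conj g⁻¹).toMonoidHom
  have h2 : (zpowers x).map (MulAut.conj g⁻¹).toMonoidHom = zpowers (g⁻¹ * x * g) := by
    rw [MonoidHom.map_zpowers]
    simp [MulAut.conj_apply]
  rwa [h2] at h

lemma Hyp.commute_eq {S : Sylow p G} {x : G} (h : Hyp S x) (g : G) (hc : x * (g⁻¹ * x * g) = (g⁻¹ * x * g) * x) :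
    g⁻¹ * x * g = x := by
  set y := g⁻¹ * x * g with hy
  have h1 : IsPGroup p (zpowers x) := h.isP
  have h2 : IsPGroup p (zpowers y) := isP_conj h1 g
  have h3 : zpowers x ≤ normalizer (zpowers y : Set G) := by
    rw [Subgroup.zpowers_le]
    rw [Subgroup.mem_normalizer_iff]
    intro n
    have hxy : Commute x y := hc
    constructor
    · rintro ⟨k, rfl⟩
      have : Commute x (y ^ k) := hxy.zpow_right k
      refine ⟨k, ?_⟩
      simp only
      rw [this.eq]
      group
    · rintro ⟨k, hk⟩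
      refine ⟨k, ?_⟩
      simp only at hk ⊢
      have h5 : Commute x (y ^ k) := hxy.zpow_right k
      have h6 : n = x⁻¹ * (x * n * x⁻¹) * x := by group
      rw [h6, ← hk, mul_assoc, ← h5.eq]
      group
  have h4 : IsPGroup p ↥(zpowers x ⊔ zpowers y) := h1.to_sup_of_normal_right' h2 h3
  obtain ⟨T, hT⟩ := h4.exists_le_sylow
  refine h.conj_in_sylow T (hT (Subgroup.mem_sup_left (mem_zpowers x))) g
    (hT (Subgroup.mem_sup_right (mem_zpowers y)))

/-- Passing to subgroups containing `x`. -/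
lemma Hyp.subgroup {S : Sylow p G} {x : G} (h : Hyp S x) (H : Subgroup G) (hxH : x ∈ H) :
    ∃ S' : Sylow p H, Hyp S' (⟨x, hxH⟩ : H) := by
  have hp : IsPGroup p (zpowers (⟨x, hxH⟩ : H)) := by
    obtain ⟨k, hk⟩ := (IsPGroup.iff_orderOf.1 h.isP) ⟨x, mem_zpowers x⟩
    have h1 : orderOf x = p ^ k := by rw [← hk, Subgroup.orderOf_mk]
    rw [IsPGroup.iff_card]
    refine ⟨k, ?_⟩
    rw [Nat.card_zpowers, Subgroup.orderOf_mk, h1]
  obtain ⟨S', hS'⟩ := hp.exists_le_sylow
  have hxS' : (⟨x, hxH⟩ : H) ∈ S' := hS' (mem_zpowers _)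
  have hmap : IsPGroup p ((S' : Subgroup H).map H.subtype) := S'.isPGroup'.map _
  obtain ⟨T, hT⟩ := hmap.exists_le_sylow
  have hxT : x ∈ T := hT ⟨_, hxS', rfl⟩
  refine ⟨S', ⟨hxS', ?_, ?_⟩⟩
  · intro g hg
    have h1 : g⁻¹ * ⟨x, hxH⟩ * g = (⟨(g:G)⁻¹ * x * g, mul_mem (mul_mem (inv_mem g.2) hxH) g.2⟩ : H) := rfl
    have h2 : (g:G)⁻¹ * x * g ∈ T := hT ⟨_, hg, rfl⟩
    have h3 := h.conj_in_sylow T hxT (g:G) h2
    rw [h1]
    exact Subtype.ext h3
  · intro A hA hnorm a ha
    have hcard : Nat.card (A.map H.subtype) = Nat.card A := Subgroup.card_map_of_injective H.subtype_injective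
    have h1 := h.hb (A.map H.subtype) (by rwa [hcard]) (by
      rintro _ ⟨b, hb, rfl⟩
      exact ⟨_, hnorm b hb, rfl⟩) (a : G) ⟨a, ha, rfl⟩
    exact Subtype.ext h1

/-- Passing to a quotient by a normal `p'`-subgroup. -/
lemma Hyp.quotient {S : Sylow p G} {x : G} (h : Hyp S x) (K : Subgroup G) [K.Normal]
    (hK : (Nat.card K).Coprime p) :
    Hyp (S.mapSurjective (QuotientGroup.mk'_surjective K)) (QuotientGroup.mk' K x) := by
  set π := QuotientGroup.mk' K with hπ
  have hcent : ∀ k ∈ K, x * k = k * x := h.hb K hK (fun a ha => (inferInstance : K.Normal).conj_mem a ha x)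
  refine ⟨⟨x, h.hx, rfl⟩, ?_, ?_⟩
  · -- conjugates
    intro gbar hg
    obtain ⟨g, rfl⟩ := QuotientGroup.mk'_surjective K gbar
    set y := g⁻¹ * x * g with hy
    have hyπ : (π g)⁻¹ * π x * π g = π y := by simp [hy]
    rw [hyπ] at hg ⊢
    obtain ⟨s, hs, hsy⟩ := hg
    -- `s⁻¹ y ∈ K`
    have hk : s⁻¹ * y ∈ K := by
      rw [← QuotientGroup.ker_mk' K, MonoidHom.mem_ker, map_mul, map_inv]
      change (π s)⁻¹ * π y = 1
      rw [← hsy]
      exact inv_mul_cancel _
    set k := s⁻¹ * y with hkdef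
    have hyk : Commute y k := by
      have h1 : g * k * g⁻¹ ∈ K := (inferInstance : K.Normal).conj_mem k hk g
      have h2 := hcent _ h1
      change y * k = k * y
      rw [hy]
      have h3 : g⁻¹ * (x * (g * k * g⁻¹)) * g = g⁻¹ * ((g * k * g⁻¹) * x) * g := by rw [h2]
      calc g⁻¹ * x * g * k = g⁻¹ * (x * (g * k * g⁻¹)) * g := by group
        _ = g⁻¹ * ((g * k * g⁻¹) * x) * g := h3
        _ = k * (g⁻¹ * x * g) := by group
    -- `s = y k⁻¹` is a `p`-element, so `k = 1`
    have hk1 : k = 1 := by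
      have hsP : ∃ a : ℕ, s ^ (p ^ a) = 1 := by
        obtain ⟨a, ha⟩ := (IsPGroup.iff_orderOf.1 S.isPGroup') ⟨s, hs⟩
        refine ⟨a, ?_⟩
        rw [← ha, ← Subgroup.orderOf_coe]
        exact pow_orderOf_eq_one s
      have hyP : ∃ a : ℕ, y ^ (p ^ a) = 1 := by
        obtain ⟨a, ha⟩ := (IsPGroup.iff_orderOf.1 (isP_conj h.isP g)) ⟨y, mem_zpowers y⟩
        refine ⟨a, ?_⟩
        have : orderOf y = p ^ a := by rw [← ha, Subgroup.orderOf_mk]
        rw [← this]
        exact pow_orderOf_eq_one y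
      obtain ⟨a, ha⟩ := hsP
      obtain ⟨b, hb⟩ := hyP
      have hsk : s = y * k⁻¹ := by rw [hkdef]; group
      have hk' : k ^ (p ^ (a + b)) = 1 := by
        have h1 : s ^ (p ^ (a + b)) = 1 := by rw [pow_add, pow_mul, ha, one_pow]
        have h2 : y ^ (p ^ (a + b)) = 1 := by rw [pow_add, mul_comm (p ^ a), pow_mul, hb, one_pow]
        rw [hsk, (hyk.inv_right).mul_pow, h2, one_mul, inv_pow, inv_eq_one] at h1
        exact h1
      have hk2 : k ^ Nat.card K = 1 := by
        have := pow_card_eq_one' (G := K) (x := ⟨k, hk⟩)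
        exact congrArg Subtype.val this
      have hcop : Nat.Coprime (Nat.card K) (p ^ (a + b)) := Nat.Coprime.pow_right _ hK
      have : orderOf k ∣ Nat.gcd (Nat.card K) (p ^ (a + b)) :=
        Nat.dvd_gcd (orderOf_dvd_of_pow_eq_one hk2) (orderOf_dvd_of_pow_eq_one hk')
      rw [hcop.gcd_eq_one, Nat.dvd_one, orderOf_eq_one_iff] at this
      exact this
    have hyS : y ∈ S := by
      have : y = s * k := by rw [hkdef]; group
      rw [this, hk1, mul_one]; exact hs
    have h7 := h.hU g hyS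
    rw [hy, h7]
  · intro A hA hnorm a ha
    obtain ⟨g, rfl⟩ := QuotientGroup.mk'_surjective K a
    -- preimage
    set B := A.comap π with hB
    have hBc : (Nat.card B).Coprime p := by
      have h1 : Nat.card B = Nat.card K * Nat.card A := by
        have hsurj : Function.Surjective π := QuotientGroup.mk'_surjective K
        have hidx : B.index = A.index := Subgroup.index_comap_of_surjective A hsurj
        have h2 := Subgroup.card_mul_index B
        have h3 := Subgroup.card_mul_index A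
        have h4 : Nat.card G = Nat.card (G ⧸ K) * Nat.card K := Subgroup.card_eq_card_quotient_mul_card_subgroup K
        have hpos : 0 < A.index := Nat.pos_of_ne_zero (Subgroup.index_ne_zero_of_finite)
        refine Nat.eq_of_mul_eq_mul_right hpos ?_
        calc Nat.card B * A.index = Nat.card G := by rw [← hidx, h2]
          _ = Nat.card K * Nat.card A * A.index := by rw [h4, ← h3]; ring
      rw [h1]
      exact Nat.Coprime.mul_left hK hA
    have h1 := h.hb B hBc (by
      intro b hb
      change π (x * b * x⁻¹) ∈ A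
      rw [map_mul, map_mul, map_inv]
      exact hnorm _ hb) g ha
    have h2 := congrArg π h1
    rw [map_mul, map_mul] at h2
    exact h2

/-- Step C: the centralizer is a Hall subgroup when `O_{p'}(G) = 1`. -/
lemma Hyp.coprime_index {S : Sylow p G} {x : G} (h : Hyp S x) (hK : pPrimeCore p G = ⊥)
    (IH : ∀ H : Subgroup G, H ≠ ⊤ → x ∈ H → ∀ a ∈ H, x * a = a * x) :
    (Nat.card (centralizer ({x} : Set G))).Coprime (centralizer ({x} : Set G)).index := by
  set C := centralizer ({x} : Set G) with hC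
  have hmemC : ∀ a, a ∈ C ↔ x * a = a * x := by
    intro a
    rw [hC, Subgroup.mem_centralizer_iff]
    constructor
    · intro h1; exact (h1 x rfl)
    · intro h1 b hb; rw [Set.mem_singleton_iff] at hb; rw [hb]; exact h1
  have hSC : (S : Subgroup G) ≤ C := by
    intro s hs
    rw [hmemC]
    have h1 := h.hU s (mul_mem (mul_mem (inv_mem hs) h.hx) hs)
    calc x * s = s * (s⁻¹ * x * s) := by group
      _ = s * x := by rw [h1]
  have hpidx : ¬ p ∣ C.index := by
    intro hd
    have h1 := Subgroup.index_dvd_of_le hSC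
    exact S.not_dvd_index (hd.trans h1)
  rw [Nat.coprime_iff_gcd_eq_one] 
  by_contra hne
  obtain ⟨q, hq, hqd⟩ := Nat.exists_prime_and_dvd hne
  have hq1 : q ∣ Nat.card C := hqd.trans (Nat.gcd_dvd_left _ _)
  have hq2 : q ∣ C.index := hqd.trans (Nat.gcd_dvd_right _ _)
  haveI : Fact q.Prime := ⟨hq⟩
  have hqp : q ≠ p := by
    rintro rfl
    exact hpidx hq2
  -- a Sylow `q`-subgroup of `C`
  obtain ⟨Q₀', -⟩ : ∃ Q₀' : Sylow q C, True := ⟨default, trivial⟩
  set Q₀ := (Q₀' : Subgroup C).map C.subtype with hQ₀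
  have hQ₀C : Q₀ ≤ C := by
    rintro _ ⟨a, -, rfl⟩
    exact a.2
  have hQ₀P : IsPGroup q Q₀ := Q₀'.isPGroup'.map _
  have hQ₀ne : Q₀ ≠ ⊥ := by
    intro hbot
    have h1 : (Q₀' : Subgroup C) = ⊥ := by
      rw [eq_bot_iff]
      intro a ha
      have h2 : (a : G) ∈ Q₀ := ⟨a, ha, rfl⟩
      rw [hbot, Subgroup.mem_bot] at h2
      exact (Subgroup.mem_bot).2 (Subtype.ext h2)
    have h2 := Q₀'.not_dvd_index
    rw [h1, Subgroup.index_bot] at h2
    exact h2 hq1
  obtain ⟨Q, hQ⟩ := hQ₀P.exists_le_sylow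
  -- `Q₀ ≠ Q` as `q` divides `|G : C|`
  have hlt : Q₀ < (Q : Subgroup G) := by
    refine lt_of_le_of_ne hQ ?_
    intro heq
    have h1 : ¬ q ∣ Q₀.index := by rw [heq]; exact Q.not_dvd_index
    apply h1
    exact hq2.trans (Subgroup.index_dvd_of_le hQ₀C)
  obtain ⟨t, htQ, htQ₀, htN⟩ := CfsgLib.Local.exists_normalizing Q.isPGroup' hlt
  have hxN : x ∈ normalizer (Q₀ : Set G) := by
    refine Subgroup.mem_normalizer_fintype ?_
    intro n hn
    have h1 : x * n = n * x := (hmemC n).1 (hQ₀C hn)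
    have h2 : x * n * x⁻¹ = n := by rw [h1]; group
    rw [h2]; exact hn
  by_cases hN : normalizer (Q₀ : Set G) = ⊤
  · -- `Q₀` normal: then inside `O_{p'}(G) = 1`
    haveI hQ₀n : Q₀.Normal := Subgroup.normalizer_eq_top_iff.1 hN
    have hc : (Nat.card Q₀).Coprime p := by
      obtain ⟨j, hj⟩ := (IsPGroup.iff_card.1 hQ₀P)
      rw [hj]
      exact Nat.Coprime.pow_left _ ((Nat.coprime_primes hq hpf.out).2 hqp)
    have := CfsgLib.Solv.le_pPrimeCore' Q₀ hc
    rw [hK, le_bot_iff] at this
    exact hQ₀ne this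
  · have h1 := IH _ hN hxN t htN
    have htC : t ∈ C := (hmemC t).2 h1
    -- `Q ⊓ C` is a `q`-subgroup of `C` containing `Q₀'`
    set R : Subgroup C := (Q : Subgroup G).comap C.subtype with hR
    have hRP : IsPGroup q R := Q.isPGroup'.comap_of_injective _ C.subtype_injective
    have hle : (Q₀' : Subgroup C) ≤ R := by
      intro a ha
      exact hQ ⟨a, ha, rfl⟩
    have heq : R = Q₀' := Q₀'.is_maximal' hRP hle
    have : (⟨t, htC⟩ : C) ∈ R := htQ
    rw [heq] at this
    exact htQ₀ ⟨_, this, rfl⟩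

lemma mem_cent_iff {x a : G} : a ∈ centralizer ({x} : Set G) ↔ x * a = a * x := by
  rw [Subgroup.mem_centralizer_iff]
  constructor
  · intro h1; exact (h1 x rfl)
  · intro h1 b hb; rw [Set.mem_singleton_iff] at hb; rw [hb]; exact h1

lemma Hyp.not_dvd_index {S : Sylow p G} {x : G} (h : Hyp S x) :
    ¬ p ∣ (centralizer ({x} : Set G)).index := by
  have hSC : (S : Subgroup G) ≤ centralizer ({x} : Set G) := by
    intro s hs
    rw [mem_cent_iff]
    have h1 := h.hU s (mul_mem (mul_mem (inv_mem hs) h.hx) hs)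
    calc x * s = s * (s⁻¹ * x * s) := by group
      _ = s * x := by rw [h1]
  intro hd
  have h1 := Subgroup.index_dvd_of_le hSC
  exact S.not_dvd_index (hd.trans h1)

/-- Step D. -/
lemma Hyp.inter_center {S : Sylow p G} {x : G} (h : Hyp S x)
    (IH : ∀ H : Subgroup G, H ≠ ⊤ → x ∈ H → ∀ a ∈ H, x * a = a * x)
    {g z : G} (hg : g ∉ centralizer ({x} : Set G)) (hz : z ∈ centralizer ({x} : Set G))
    (hz' : g⁻¹ * z * g ∈ centralizer ({x} : Set G)) : z ∈ center G := by
  set y := g * x * g⁻¹ with hy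
  have hne : y ≠ x := by
    intro h1
    apply hg
    rw [mem_cent_iff]
    calc x * g = y * g := by rw [h1]
      _ = g * x := by rw [hy]; group
  have hcl : closure ({x, y} : Set G) = ⊤ := by
    by_contra hne'
    have h1 := IH (closure ({x, y} : Set G)) hne' (subset_closure (by simp)) y (subset_closure (by simp))
    have h2 := h.commute_eq g⁻¹ (by
      have : g⁻¹⁻¹ * x * g⁻¹ = y := by rw [hy]; group
      rw [this]; exact h1)
    apply hne
    have : g⁻¹⁻¹ * x * g⁻¹ = y := by rw [hy]; group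
    rw [← this]; exact h2
  have hzx : z * x = x * z := (mem_cent_iff.1 hz).symm
  have hzy : z * y = y * z := by
    have h1 := mem_cent_iff.1 hz'
    have h2 : g * (x * (g⁻¹ * z * g)) * g⁻¹ = g * ((g⁻¹ * z * g) * x) * g⁻¹ := by rw [h1]
    calc z * y = g * ((g⁻¹ * z * g) * x) * g⁻¹ := by rw [hy]; group
      _ = g * (x * (g⁻¹ * z * g)) * g⁻¹ := h2.symm
      _ = y * z := by rw [hy]; group
  rw [Subgroup.mem_center_iff]
  intro a
  have hle : closure ({x, y} : Set G) ≤ centralizer ({z} : Set G) := by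
    rw [Subgroup.closure_le]
    intro b hb
    rcases hb with rfl | rfl
    · exact mem_cent_iff.2 hzx
    · exact mem_cent_iff.2 hzy
  have ha : a ∈ closure ({x, y} : Set G) := by rw [hcl]; trivial
  exact (mem_cent_iff.1 (hle ha)).symm

/-- The final step: `O_{p'}(G) = 1`. -/
lemma Hyp.frob_final {S : Sylow p G} {x : G} (h : Hyp S x) (hK : pPrimeCore p G = ⊥)
    (IH : ∀ H : Subgroup G, H ≠ ⊤ → x ∈ H → ∀ a ∈ H, x * a = a * x) : x ∈ center G := by
  classical
  by_contra hxZ
  have hcop := h.coprime_index hK IH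
  have hpidx := h.not_dvd_index
  set C := centralizer ({x} : Set G) with hC
  set Z := center G with hZ
  have hZC : Z ≤ C := by
    intro z hz
    exact mem_cent_iff.2 (((Subgroup.mem_center_iff.1 hz) x))
  have hxC : x ∈ C := mem_cent_iff.2 rfl
  have hCne : C ≠ ⊤ := by
    intro htop
    apply hxZ
    rw [Subgroup.mem_center_iff]
    intro g
    have : g ∈ C := by rw [htop]; trivial
    exact (mem_cent_iff.1 this).symm
  set π := QuotientGroup.mk' Z with hπ
  have hker : ∀ a, π a = 1 ↔ a ∈ Z := by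
    intro a
    rw [← MonoidHom.mem_ker, hπ, QuotientGroup.ker_mk']
  have hmemC : ∀ g, π g ∈ C.map π → g ∈ C := by
    rintro g ⟨c, hc, hcg⟩
    have h1 : c⁻¹ * g ∈ Z := by
      rw [← hker, map_mul, map_inv, hcg]; simp
    have h2 : g = c * (c⁻¹ * g) := by group
    rw [h2]
    exact mul_mem hc (hZC h1)
  have hF : IsFrobeniusComplement (C.map π) := by
    refine ⟨?_, ?_, ?_⟩
    · intro hbot
      have h1 : π x ∈ C.map π := ⟨x, hxC, rfl⟩
      rw [hbot, Subgroup.mem_bot, hker] at h1
      exact hxZ h1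
    · intro htop
      apply hCne
      rw [eq_top_iff]
      intro g _
      apply hmemC
      rw [htop]; trivial
    · intro gbar hg
      obtain ⟨g, rfl⟩ := QuotientGroup.mk'_surjective Z gbar
      have hgC : g ∉ C := fun hgc => hg ⟨g, hgc, rfl⟩
      rw [eq_bot_iff]
      intro wbar hw
      obtain ⟨⟨w, hwC, rfl⟩, hw2⟩ := hw
      rw [Subgroup.mem_bot]
      obtain ⟨cbar, ⟨c, hc, rfl⟩, hc2⟩ := hw2
      have hc3 : (π g) * (π c) * (π g)⁻¹ = π w := hc2
      -- `π w = π (g c g⁻¹)`
      have h1 : π (g⁻¹ * w * g) = π c := by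
        rw [map_mul, map_mul, map_inv, ← hc3]
        group
      have h2 : (π c)⁻¹ * π (g⁻¹ * w * g) = 1 := by rw [h1]; group
      have h3 : c⁻¹ * (g⁻¹ * w * g) ∈ Z := by
        rw [← hker, map_mul, map_inv]; exact h2
      have h4 : g⁻¹ * w * g ∈ C := by
        have : g⁻¹ * w * g = c * (c⁻¹ * (g⁻¹ * w * g)) := by group
        rw [this]
        exact mul_mem hc (hZC h3)
      have h5 := h.inter_center IH hgC hwC h4
      exact (hker w).2 h5
  obtain ⟨Nb, -, hNbn, hNbc⟩ := CfsgLib.FGS.exists_frobenius_kernel (C.map π) hF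
  -- indices
  set m := C.index with hm
  have hCidx : (C.map π).index = m := by
    refine Subgroup.index_map_eq _ (QuotientGroup.mk'_surjective Z) ?_
    rw [hπ, QuotientGroup.ker_mk']
    exact hZC
  have hNbcard : Nat.card Nb = m := by
    have h1 := hNbc.card_mul
    have h2 := Subgroup.card_mul_index (C.map π)
    have hpos : 0 < Nat.card (C.map π) := Nat.card_pos
    rw [hCidx] at h2
    refine Nat.eq_of_mul_eq_mul_right hpos ?_
    rw [h1, ← h2, mul_comm]
  set N := Nb.comap π with hN
  have hNn : N.Normal := hNbn.comap π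
  have hZN : Z ≤ N := by
    intro z hz
    change π z ∈ Nb
    rw [(hker z).2 hz]
    exact one_mem _
  have hNcard : Nat.card N = Nat.card Z * m := by
    have hsurj : Function.Surjective π := QuotientGroup.mk'_surjective Z
    have hidx : N.index = Nb.index := Subgroup.index_comap_of_surjective Nb hsurj
    have h2 := Subgroup.card_mul_index N
    have h3 := Subgroup.card_mul_index Nb
    have h4 : Nat.card G = Nat.card (G ⧸ Z) * Nat.card Z := Subgroup.card_eq_card_quotient_mul_card_subgroup Z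
    have hpos : 0 < Nb.index := Nat.pos_of_ne_zero (Subgroup.index_ne_zero_of_finite)
    refine Nat.eq_of_mul_eq_mul_right hpos ?_
    calc Nat.card N * Nb.index = Nat.card G := by rw [← hidx, h2]
      _ = Nat.card Z * m * Nb.index := by rw [h4, ← h3, hNbcard]; ring
  -- complement of the centre inside `N`
  set Z' : Subgroup N := Z.subgroupOf N with hZ'
  have hZ'n : Z'.Normal := by
    rw [hZ']
    exact Subgroup.normal_subgroupOf
  have hZ'card : Nat.card Z' = Nat.card Z := by
    rw [hZ']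
    exact Nat.card_congr (Subgroup.subgroupOfEquivOfLe hZN).toEquiv
  have hZcopm : (Nat.card Z).Coprime m := by
    exact Nat.Coprime.coprime_dvd_left (Subgroup.card_dvd_of_le hZC) hcop
  have hZ'idx : Z'.index = m := by
    have h1 := Subgroup.card_mul_index Z'
    have hpos : 0 < Nat.card Z := Nat.card_pos
    rw [hZ'card, hNcard] at h1
    exact Nat.eq_of_mul_eq_mul_left hpos h1
  obtain ⟨A, hA⟩ := Subgroup.exists_right_complement'_of_coprime (N := Z') (by rw [hZ'card, hZ'idx]; exact hZcopm)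
  have hAcard : Nat.card A = m := by
    have h1 := hA.card_mul
    rw [hZ'card, hNcard] at h1
    exact Nat.eq_of_mul_eq_mul_left Nat.card_pos h1
  set N₀ := A.map N.subtype with hN₀
  have hN₀card : Nat.card N₀ = m := by
    rw [hN₀, Subgroup.card_map_of_injective N.subtype_injective, hAcard]
  have hN₀n : N₀.Normal := by
    refine ⟨?_⟩
    rintro _ ⟨a, ha, rfl⟩ g
    have ham : a ^ m = 1 := by
      have := pow_card_eq_one' (G := A) (x := ⟨a, ha⟩)
      rw [hAcard] at this
      exact congrArg Subtype.val this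
    set b : N := ⟨g * (a : G) * g⁻¹, hNn.conj_mem _ a.2 g⟩ with hb
    have hbm : b ^ m = 1 := by
      apply Subtype.ext
      have h1 : ((b ^ m : N) : G) = g * ((a : G) ^ m) * g⁻¹ := by
        rw [Subgroup.coe_pow, hb]
        simp [conj_pow]
      rw [h1]
      have h2 : ((a : G)) ^ m = 1 := by
        have := congrArg Subtype.val ham
        simpa using this
      rw [h2]; simp
    -- decompose `b`
    obtain ⟨⟨z, a'⟩, hza⟩ := hA.2 b
    have hza' : (z : N) * (a' : N) = b := hza
    have hzZ : ((z : N) : G) ∈ Z := z.2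
    have ha'm : (a' : N) ^ m = 1 := by
      have := pow_card_eq_one' (G := A) (x := a')
      rw [hAcard] at this
      have h2 := congrArg Subtype.val this
      simpa using h2
    have hcomm : Commute (z : N) (a' : N) := by
      apply Subtype.ext
      exact (Subgroup.mem_center_iff.1 hzZ _).symm
    have hzm : (z : N) ^ m = 1 := by
      have h1 : ((z : N) * (a' : N)) ^ m = 1 := by rw [hza', hbm]
      rw [hcomm.mul_pow, ha'm, mul_one] at h1
      exact h1
    have hzc : (z : N) ^ Nat.card Z = 1 := by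
      have := pow_card_eq_one' (G := Z') (x := z)
      rw [hZ'card] at this
      have h2 := congrArg Subtype.val this
      simpa using h2
    have hz1 : (z : N) = 1 := by
      have : orderOf (z : N) ∣ Nat.gcd (Nat.card Z) m :=
        Nat.dvd_gcd (orderOf_dvd_of_pow_eq_one hzc) (orderOf_dvd_of_pow_eq_one hzm)
      rw [hZcopm.gcd_eq_one, Nat.dvd_one, orderOf_eq_one_iff] at this
      exact this
    rw [hz1, one_mul] at hza'
    refine ⟨a', a'.2, ?_⟩
    rw [hza', hb]
    rfl
  have hN₀p : (Nat.card N₀).Coprime p := by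
    rw [hN₀card]
    exact ((Nat.Prime.coprime_iff_not_dvd hpf.out).2 hpidx).symm
  have hbot : N₀ = ⊥ := by
    have := CfsgLib.Solv.le_pPrimeCore' N₀ hN₀p
    rwa [hK, le_bot_iff] at this
  have hm1 : m = 1 := by
    rw [← hN₀card, hbot, Subgroup.card_bot]
  exact hCne (Subgroup.index_eq_one.1 hm1)

theorem main : ∀ (n : ℕ) (G : Type u) [Group G] [Finite G] (S : Sylow p G) (x : G), Hyp S x →
    Nat.card G = n → x ∈ center G := by
  intro n
  induction n using Nat.strong_induction_on with
  | _ n ih =>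
    intro G _ _ S x h hn
    have IH : ∀ H : Subgroup G, H ≠ ⊤ → x ∈ H → ∀ a ∈ H, x * a = a * x := by
      intro H hH hxH a ha
      obtain ⟨S', hS'⟩ := h.subgroup H hxH
      have hlt : Nat.card H < n := by
        rw [← hn]
        exact Nat.lt_of_le_of_ne (Subgroup.card_le_card_group H) (fun h3 => hH (Subgroup.eq_top_of_card_eq H h3))
      have h2 := ih _ hlt H S' _ hS' rfl
      have h1 := (Subgroup.mem_center_iff.1 h2) ⟨a, ha⟩
      exact (congrArg Subtype.val h1).symm
    by_cases hK : pPrimeCore p G = ⊥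
    · exact h.frob_final hK IH
    · set K := pPrimeCore p G with hKdef
      haveI hKn : K.Normal := CfsgLib.Solv.pPrimeCore_normal' p
      have hcop : (Nat.card K).Coprime p := CfsgLib.Solv.pPrimeCore_coprime p
      have hq := h.quotient K hcop
      have hlt : Nat.card (G ⧸ K) < n := by
        have h1 : Nat.card G = Nat.card (G ⧸ K) * Nat.card K := Subgroup.card_eq_card_quotient_mul_card_subgroup K
        have h2 : 1 < Nat.card K := by
          have := (Subgroup.one_lt_card_iff_ne_bot K).2 hK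
          exact this
        rw [← hn, h1]
        have hpos : 0 < Nat.card (G ⧸ K) := Nat.card_pos
        nlinarith
      have hc := ih _ hlt (G ⧸ K) _ _ hq rfl
      rw [Subgroup.mem_center_iff]
      intro g
      set π := QuotientGroup.mk' K with hπ
      have h1 := (Subgroup.mem_center_iff.1 hc) (π g)
      set y := g⁻¹ * x * g with hy
      have hyk : y * x⁻¹ ∈ K := by
        rw [← QuotientGroup.ker_mk' K, MonoidHom.mem_ker, map_mul, map_inv, hy, map_mul, map_mul, map_inv]
        rw [← hπ, mul_assoc (π g)⁻¹, ← h1]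
        group
      have hcent := h.hb K hcop (fun a ha => hKn.conj_mem a ha x) _ hyk
      have hyx : x * y = y * x := by
        have h3 : y = (y * x⁻¹) * x := by group
        calc x * y = x * ((y * x⁻¹) * x) := by rw [← h3]
          _ = (x * (y * x⁻¹)) * x := by group
          _ = ((y * x⁻¹) * x) * x := by rw [hcent]
          _ = y * x := by group
      have h4 := h.commute_eq g hyx
      calc g * x = g * (g⁻¹ * x * g) := by rw [h4]
        _ = x * g := by group

end CfsgLib.IsolCent
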