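import Mathlib
import Cfsg.Agent.Lib.H3.ClassSize
import Cfsg.Agent.Lib.H3.ConjTools
import Cfsg.Agent.Lib.Solv.CoprimeSylow

/-! Involutions with a unique fixed point on the cosets of a subgroup. -/

set_option autoImplicit false
set_option linter.style.haveILetI false

namespace CfsgLib.Isol

variable {G : Type*} [Group G]

/-- `u` has the unique fixed point `gH` on the cosets of `H`. -/
def Good (H : Subgroup G) (u g : G) : Prop := ∀ c : G, c⁻¹ * u * c ∈ H ↔ g⁻¹ * c ∈ H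

lemma Good.conj {H : Subgroup G} {u g : G} (h : Good H u g) (a : G) : Good H (a * u * a⁻¹) (a * g) := by
  intro c
  have h1 := h (a⁻¹ * c)
  have h2 : (a⁻¹ * c)⁻¹ * u * (a⁻¹ * c) = c⁻¹ * (a * u * a⁻¹) * c := by group
  have h3 : g⁻¹ * (a⁻¹ * c) = (a * g)⁻¹ * c := by group
  rwa [h2, h3] at h1

/-- `c` commuting with a good element fixes its point. -/
lemma Good.fix {H : Subgroup G} {c g x : G} (h : Good H c g) (hc : c * x = x * c) :
    g⁻¹ * x * g ∈ H := by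
  have h1 : g⁻¹ * c * g ∈ H := (h g).2 (by simp [H.one_mem])
  have h2 := (h (x * g))
  have h3 : (x * g)⁻¹ * c * (x * g) = g⁻¹ * c * g := by
    calc (x * g)⁻¹ * c * (x * g) = g⁻¹ * x⁻¹ * (c * x) * g := by group
      _ = g⁻¹ * x⁻¹ * (x * c) * g := by rw [hc]
      _ = _ := by group
  rw [h3] at h2
  have h4 := h2.1 h1
  have h5 : g⁻¹ * (x * g) = g⁻¹ * x * g := by group
  rwa [h5] at h4

section
variable {z : G} {H : Subgroup G}

lemma good_conj_z (h0 : ∀ g : G, g⁻¹ * z * g ∈ H ↔ g ∈ H) (g : G) : Good H (g * z * g⁻¹) g := by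
  intro c
  have h1 := h0 (g⁻¹ * c)
  have h2 : (g⁻¹ * c)⁻¹ * z * (g⁻¹ * c) = c⁻¹ * (g * z * g⁻¹) * c := by group
  rwa [h2] at h1

lemma good_pair (h1 : ∀ t : G, IsConj z t → t ≠ z → t * z = z * t → Good H (z * t) 1)
    {g y : G} (hy : IsConj z y) (hne : y ≠ g * z * g⁻¹) (hc : y * (g * z * g⁻¹) = (g * z * g⁻¹) * y) :
    Good H ((g * z * g⁻¹) * y) g := by
  set t := g⁻¹ * y * g with ht
  have ht1 : IsConj z t := by
    refine hy.trans (isConj_iff.2 ⟨g⁻¹, ?_⟩)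
    rw [ht, inv_inv]
  have ht2 : t ≠ z := by
    intro h
    apply hne
    rw [← h, ht]
    group
  have ht3 : t * z = z * t := by
    have h3 : g⁻¹ * (y * (g * z * g⁻¹)) * g = g⁻¹ * ((g * z * g⁻¹) * y) * g := by rw [hc]
    calc t * z = g⁻¹ * (y * (g * z * g⁻¹)) * g := by rw [ht]; group
      _ = g⁻¹ * ((g * z * g⁻¹) * y) * g := h3
      _ = z * t := by rw [ht]; group
  have h2 := (h1 t ht1 ht2 ht3).conj g
  have h3 : g * (z * t) * g⁻¹ = (g * z * g⁻¹) * y := by rw [ht]; group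
  rw [h3, mul_one] at h2
  exact h2

/-- The key dichotomy: conjugates with different fixed points have a product of odd order. -/
theorem same_point_of_even [Finite G] (hz : z * z = 1) (h0 : ∀ g : G, g⁻¹ * z * g ∈ H ↔ g ∈ H)
    (h1 : ∀ t : G, IsConj z t → t ≠ z → t * z = z * t → Good H (z * t) 1)
    (g₁ g₂ : G) (heven : Even (orderOf ((g₁ * z * g₁⁻¹) * (g₂ * z * g₂⁻¹)))) : g₁⁻¹ * g₂ ∈ H := by
  generalize hx₁ : g₁ * z * g₁⁻¹ = x₁ at heven
  generalize hx₂ : g₂ * z * g₂⁻¹ = x₂ at heven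
  have hx₁₁ : x₁ * x₁ = 1 := by
    rw [← hx₁]
    calc g₁ * z * g₁⁻¹ * (g₁ * z * g₁⁻¹) = g₁ * (z * z) * g₁⁻¹ := by group
      _ = 1 := by rw [hz]; group
  have hx₂₂ : x₂ * x₂ = 1 := by
    rw [← hx₂]
    calc g₂ * z * g₂⁻¹ * (g₂ * z * g₂⁻¹) = g₂ * (z * z) * g₂⁻¹ := by group
      _ = 1 := by rw [hz]; group
  have hx₁i : x₁⁻¹ = x₁ := inv_eq_of_mul_eq_one_left hx₁₁
  have hx₂i : x₂⁻¹ = x₂ := inv_eq_of_mul_eq_one_left hx₂₂
  generalize hρ : x₁ * x₂ = ρ at heven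
  have hρi : ρ⁻¹ = x₂ * x₁ := by rw [← hρ, mul_inv_rev, hx₁i, hx₂i]
  obtain ⟨m, hm⟩ := heven
  have hpos : 0 < orderOf ρ := orderOf_pos ρ
  have hm0 : 0 < m := by omega
  have hmlt : m < orderOf ρ := by omega
  generalize hc : ρ ^ m = c
  have hc1 : c ≠ 1 := hc ▸ pow_ne_one_of_lt_orderOf hm0.ne' hmlt
  have hcc : c * c = 1 := by
    rw [← hc, ← pow_add, ← hm, pow_orderOf_eq_one]
  have hci : c⁻¹ = c := inv_eq_of_mul_eq_one_left hcc
  have hstep₁ : x₁ * ρ = ρ⁻¹ * x₁ := by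
    rw [hρi, ← hρ]
    calc x₁ * (x₁ * x₂) = (x₁ * x₁) * x₂ := by group
      _ = x₂ := by rw [hx₁₁, one_mul]
      _ = x₂ * (x₁ * x₁) := by rw [hx₁₁, mul_one]
      _ = _ := by group
  have hstep₂ : x₂ * ρ = ρ⁻¹ * x₂ := by
    rw [hρi, ← hρ]
    group
  have hinv₁ : ∀ k : ℕ, x₁ * ρ ^ k = (ρ⁻¹) ^ k * x₁ := by
    intro k
    induction k with
    | zero => simp
    | succ k ih =>
      calc x₁ * ρ ^ (k + 1) = (x₁ * ρ ^ k) * ρ := by rw [pow_succ]; exact (mul_assoc _ _ _).symm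
        _ = (ρ⁻¹) ^ k * (x₁ * ρ) := by rw [ih]; exact mul_assoc _ _ _
        _ = (ρ⁻¹) ^ k * (ρ⁻¹ * x₁) := by rw [hstep₁]
        _ = (ρ⁻¹) ^ (k + 1) * x₁ := by rw [pow_succ]; exact (mul_assoc _ _ _).symm
  have hinv₂ : ∀ k : ℕ, x₂ * ρ ^ k = (ρ⁻¹) ^ k * x₂ := by
    intro k
    induction k with
    | zero => simp
    | succ k ih =>
      calc x₂ * ρ ^ (k + 1) = (x₂ * ρ ^ k) * ρ := by rw [pow_succ]; exact (mul_assoc _ _ _).symm
        _ = (ρ⁻¹) ^ k * (x₂ * ρ) := by rw [ih]; exact mul_assoc _ _ _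
        _ = (ρ⁻¹) ^ k * (ρ⁻¹ * x₂) := by rw [hstep₂]
        _ = (ρ⁻¹) ^ (k + 1) * x₂ := by rw [pow_succ]; exact (mul_assoc _ _ _).symm
  have hcx₁ : x₁ * c = c * x₁ := by
    rw [← hc, hinv₁, inv_pow, hc, hci]
  have hcx₂ : x₂ * c = c * x₂ := by
    rw [← hc, hinv₂, inv_pow, hc, hci]
  -- conjugates of `x₁` by powers of `ρ`
  have hconj : ∀ k : ℕ, IsConj z (ρ ^ (2 * k) * x₁) := by
    intro k
    have h2 : ρ ^ (2 * k) * x₁ = ρ ^ k * x₁ * (ρ ^ k)⁻¹ := by
      have h3 : x₁ * ρ ^ k = (ρ⁻¹) ^ k * x₁ := hinv₁ k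
      have h4 : x₁ * (ρ ^ k)⁻¹ = ρ ^ k * x₁ := by
        have h5 : (ρ ^ k) * x₁ * (ρ ^ k) = x₁ := by
          rw [mul_assoc, h3, inv_pow, ← mul_assoc, mul_inv_cancel, one_mul]
        rw [mul_inv_eq_iff_eq_mul]
        exact h5.symm
      rw [mul_assoc, h4, ← mul_assoc, two_mul, pow_add]
    rw [h2]
    refine IsConj.trans ?_ (isConj_iff.2 ⟨ρ ^ k, rfl⟩)
    exact isConj_iff.2 ⟨g₁, hx₁⟩
  obtain ⟨k, hk⟩ := Nat.even_or_odd' m
  rcases hk with hk | hk
  · -- `m = 2 k`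
    have ht : IsConj z (c * x₁) := by
      rw [← hc, hk]
      exact hconj k
    have hne : c * x₁ ≠ x₁ := fun h => hc1 (by simpa using h)
    have hcomm : (c * x₁) * x₁ = x₁ * (c * x₁) := by
      rw [← mul_assoc, hcx₁]
    have hg := good_pair h1 (g := g₁) (y := c * x₁) ht (by rw [hx₁]; exact hne) (by rw [hx₁]; exact hcomm)
    have h3 : x₁ * (c * x₁) = c := by
      rw [← mul_assoc, hcx₁, mul_assoc, hx₁₁, mul_one]
    rw [hx₁, h3] at hg
    have h4 := hg.fix (x := x₂) hcx₂.symm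
    rw [← hx₂] at h4
    have h5 := (good_conj_z h0 g₂ g₁).1 h4
    have h6 := H.inv_mem h5
    simpa using h6
  · -- `m = 2 k + 1`
    have hρx₂ : ρ * x₂ = x₁ := by rw [← hρ, mul_assoc, hx₂₂, mul_one]
    have hcx : c * x₂ = ρ ^ (2 * k) * x₁ := by
      rw [← hc, hk, pow_succ, mul_assoc, hρx₂]
    have ht : IsConj z (c * x₂) := by
      rw [hcx]
      exact hconj k
    have hne : c * x₂ ≠ x₂ := fun h => hc1 (by simpa using h)
    have hcomm : (c * x₂) * x₂ = x₂ * (c * x₂) := by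
      rw [← mul_assoc, hcx₂]
    have hg := good_pair h1 (g := g₂) (y := c * x₂) ht (by rw [hx₂]; exact hne) (by rw [hx₂]; exact hcomm)
    have h3 : x₂ * (c * x₂) = c := by
      rw [← mul_assoc, hcx₂, mul_assoc, hx₂₂, mul_one]
    rw [hx₂, h3] at hg
    have h4 := hg.fix (x := x₁) hcx₁.symm
    rw [← hx₁] at h4
    exact (good_conj_z h0 g₁ g₂).1 h4

end

/-- Odd-order square roots. -/
lemma sqrt_unique {ρ w : G} (hρ : Odd (orderOf ρ)) (h : ρ ^ 2 = w) :
    ρ = w ^ ((orderOf w + 1) / 2) := by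
  have h1 : orderOf w = orderOf ρ := by
    rw [← h]
    exact Nat.Coprime.orderOf_pow (Nat.coprime_two_right.2 hρ)
  rw [h1, ← h, ← pow_mul]
  obtain ⟨k, hk⟩ := hρ
  have h2 : 2 * ((orderOf ρ + 1) / 2) = orderOf ρ + 1 := by omega
  rw [h2, pow_succ, pow_orderOf_eq_one, one_mul]

/-- Parity of an involution. -/
lemma parity_involution {A : Type*} [Finite A] (f : A → A) (hf : ∀ a, f (f a) = a) :
    Nat.card A ≡ Nat.card {a : A // f a = a} [MOD 2] := by
  classical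
  letI : Fintype A := Fintype.ofFinite A
  let F : Function.End A := f
  have h1 : F ^ 2 ^ 1 = 1 := by
    rw [pow_one, pow_two]
    funext a
    exact hf a
  have h2 := Equiv.Perm.card_fixedPoints_modEq (p := 2) (n := 1) h1
  rw [Nat.card_eq_fintype_card]
  refine h2.trans ?_
  have h3 : Nat.card {a : A // f a = a} = Fintype.card (Function.fixedPoints F) := by
    rw [← Nat.card_eq_fintype_card]
    rfl
  rw [h3]

/-- The main parity statement: an involution with a unique fixed point on the cosets of a proper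
subgroup, all of whose commuting conjugate products also have a unique fixed point, is `2`-central. -/
theorem central_of_good [Finite G] {z : G} {H : Subgroup G} (hz : z * z = 1) (hz1 : z ≠ 1) (hH : H ≠ ⊤)
    (h0 : ∀ g : G, g⁻¹ * z * g ∈ H ↔ g ∈ H)
    (h1 : ∀ t : G, IsConj z t → t ≠ z → t * z = z * t → Good H (z * t) 1) :
    ¬ 2 ∣ (Subgroup.centralizer ({z} : Set G)).index := by
  classical
  have hzH : z ∈ H := by
    have := (h0 1).2 H.one_mem
    simpa using this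
  obtain ⟨a₀, ha₀⟩ : ∃ a₀, a₀ ∉ H := by
    by_contra hno
    push Not at hno
    exact hH (eq_top_iff.2 fun x _ => hno x)
  have hinvo : ∀ x : G, IsConj z x → x * x = 1 := by
    intro x hx
    obtain ⟨g, rfl⟩ := isConj_iff.1 hx
    calc g * z * g⁻¹ * (g * z * g⁻¹) = g * (z * z) * g⁻¹ := by group
      _ = 1 := by rw [hz]; group
  have hinv : ∀ x : G, IsConj z x → x⁻¹ = x := fun x hx => inv_eq_of_mul_eq_one_left (hinvo x hx)
  have hodd : ∀ g₁ g₂ : G, g₁⁻¹ * g₂ ∉ H → Odd (orderOf ((g₁ * z * g₁⁻¹) * (g₂ * z * g₂⁻¹))) := by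
    intro g₁ g₂ hg
    rw [← Nat.not_even_iff_odd]
    exact fun h => hg (same_point_of_even hz h0 h1 g₁ g₂ h)
  let S₁ := {x : G // IsConj z x ∧ x ∈ H}
  let X := {x : G // IsConj z x ∧ a₀⁻¹ * x ∈ H}
  -- `z x` has odd order for `x ∈ X`
  have hzx : ∀ x : G, IsConj z x → a₀⁻¹ * x ∈ H → Odd (orderOf (z * x)) := by
    intro x hx hax
    obtain ⟨g, rfl⟩ := isConj_iff.1 hx
    have h2 := hodd 1 g (by
      intro h3
      simp only [inv_one, one_mul] at h3
      have h4 : g * z * g⁻¹ ∈ H := H.mul_mem (H.mul_mem h3 hzH) (H.inv_mem h3)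
      have h5 := H.mul_mem hax (H.inv_mem h4)
      have h6 : a₀⁻¹ * (g * z * g⁻¹) * (g * z * g⁻¹)⁻¹ = a₀⁻¹ := by group
      rw [h6] at h5
      apply ha₀
      simpa using H.inv_mem h5)
    simpa using h2
  -- the bijection
  have hΦ : ∀ x : G, IsConj z x → a₀⁻¹ * x ∈ H → a₀⁻¹ * (x * z * x⁻¹) * a₀ ∈ H := by
    intro x hx hax
    have h2 := (good_conj_z h0 x a₀).2 (by
      have := H.inv_mem hax
      simpa using this)
    exact h2
  let Φ : X → S₁ := fun x => ⟨a₀⁻¹ * (x.1 * z * x.1⁻¹) * a₀, by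
    refine ⟨?_, hΦ x.1 x.2.1 x.2.2⟩
    exact (isConj_iff.2 ⟨x.1, rfl⟩).trans (isConj_iff.2 ⟨a₀⁻¹, by rw [inv_inv]⟩)⟩
  have hΦinj : Function.Injective Φ := by
    rintro ⟨x₁, hx₁, hax₁⟩ ⟨x₂, hx₂, hax₂⟩ h
    have h2 : a₀⁻¹ * (x₁ * z * x₁⁻¹) * a₀ = a₀⁻¹ * (x₂ * z * x₂⁻¹) * a₀ :=
      congrArg Subtype.val h
    have h3 : x₁ * z * x₁⁻¹ = x₂ * z * x₂⁻¹ := by
      have h4 := mul_right_cancel h2
      exact mul_left_cancel h4
    have hs : ∀ x : G, IsConj z x → (z * x) ^ 2 = z * (x * z * x⁻¹) := by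
      intro x hx
      rw [hinv x hx, pow_two]
      group
    have e₁ := sqrt_unique (hzx x₁ hx₁ hax₁) (hs x₁ hx₁)
    have e₂ := sqrt_unique (hzx x₂ hx₂ hax₂) (hs x₂ hx₂)
    rw [← h3] at e₂
    have h5 : z * x₁ = z * x₂ := e₁.trans e₂.symm
    exact Subtype.ext (mul_left_cancel h5)
  have hΦsurj : Function.Surjective Φ := by
    rintro ⟨s, hs, hsH⟩
    obtain ⟨g, rfl⟩ := isConj_iff.1 hs
    have hgH : g ∈ H := (good_conj_z h0 g 1).1 (by simpa using hsH) |> fun h => by simpa using H.inv_mem h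
    set a := a₀ * (g * z * g⁻¹) * a₀⁻¹ with ha
    have haconj : a = (a₀ * g) * z * (a₀ * g)⁻¹ := by rw [ha]; group
    have hac : IsConj z a := isConj_iff.2 ⟨a₀ * g, haconj.symm⟩
    have haa : a⁻¹ = a := hinv a hac
    set w := z * a with hw
    have hwodd : Odd (orderOf w) := by
      have h2 := hodd 1 (a₀ * g) (by
        intro h3
        simp only [inv_one, one_mul] at h3
        apply ha₀
        have := H.mul_mem h3 (H.inv_mem hgH)
        simpa using this)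
      simp only [inv_one, one_mul, mul_one] at h2
      rw [hw, haconj]
      exact h2
    set e := (orderOf w + 1) / 2 with he
    have h2e : 2 * e = orderOf w + 1 := by
      obtain ⟨k, hk⟩ := hwodd
      omega
    set ρ := w ^ e with hρ
    have hρ2 : ρ * ρ = w := by
      rw [hρ, ← pow_add, ← two_mul, h2e, pow_succ, pow_orderOf_eq_one, one_mul]
    have hzw : z * w * z = w⁻¹ := by
      rw [hw, mul_inv_rev, haa, (inv_eq_of_mul_eq_one_left hz)]
      calc z * (z * a) * z = (z * z) * a * z := by group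
        _ = a * z := by rw [hz, one_mul]
    have hzpow : ∀ k : ℕ, z * w ^ k * z = (w⁻¹) ^ k := by
      intro k
      induction k with
      | zero => simpa using hz
      | succ k ih =>
        have h3 : (z * w ^ k * z) * (z * w * z) = z * w ^ k * (z * z) * w * z := by group
        rw [hz] at h3
        calc z * w ^ (k + 1) * z = z * w ^ k * (1 : G) * w * z := by rw [pow_succ]; group
          _ = (z * w ^ k * z) * (z * w * z) := h3.symm
          _ = (w⁻¹) ^ (k + 1) := by rw [ih, hzw, pow_succ]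
    have hzρ : z * ρ * z = ρ⁻¹ := by
      rw [hρ, hzpow, inv_pow]
    set x := z * ρ with hx
    have hxx : x * x = 1 := by
      calc z * ρ * (z * ρ) = (z * ρ * z) * ρ := by group
        _ = 1 := by rw [hzρ]; group
    have hxi : x⁻¹ = x := inv_eq_of_mul_eq_one_left hxx
    have hxz : x * z * x⁻¹ = a := by
      rw [hxi]
      calc x * z * x = z * ρ * (z * z) * ρ := by rw [hx]; group
        _ = z * (ρ * ρ) := by rw [hz]; group
        _ = a := by rw [hρ2, hw]; rw [← mul_assoc, hz, one_mul]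
    have hxconj : IsConj z x := by
      set u := ρ ^ e with hu
      have hzu : z * u * z = u⁻¹ := by
        have : ∀ k : ℕ, z * ρ ^ k * z = (ρ⁻¹) ^ k := by
          intro k
          induction k with
          | zero => simpa using hz
          | succ k ih =>
            calc z * ρ ^ (k + 1) * z = (z * ρ ^ k * (z * z)) * ρ * z := by
                  rw [hz, pow_succ]; group
              _ = (z * ρ ^ k * z) * (z * ρ * z) := by group
              _ = (ρ⁻¹) ^ (k + 1) := by rw [ih, hzρ, pow_succ]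
        rw [hu, this, inv_pow]
      have hu2 : u * u = ρ := by
        have h3 : ρ ^ orderOf w = 1 := by
          rw [hρ, ← pow_mul, mul_comm, pow_mul, pow_orderOf_eq_one, one_pow]
        rw [hu, ← pow_add, ← two_mul, h2e, pow_succ, h3, one_mul]
      refine isConj_iff.2 ⟨u⁻¹, ?_⟩
      rw [inv_inv]
      calc u⁻¹ * z * u = (z * u * z) * z * u := by rw [hzu]
        _ = z * u * (z * z) * u := by group
        _ = z * (u * u) := by rw [hz]; group
        _ = x := by rw [hu2]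
    have hsH' : a₀⁻¹ * a * a₀ = g * z * g⁻¹ := by rw [ha]; group
    have hxX : a₀⁻¹ * x ∈ H := by
      have h3 := (good_conj_z h0 x a₀).1 (by
        rw [hxz, hsH']
        exact hsH)
      have h4 := H.inv_mem h3
      simpa using h4
    refine ⟨⟨x, hxconj, hxX⟩, Subtype.ext ?_⟩
    change a₀⁻¹ * (x * z * x⁻¹) * a₀ = g * z * g⁻¹
    rw [hxz, hsH']
  have hcardXS : Nat.card X = Nat.card S₁ := Nat.card_congr (Equiv.ofBijective Φ ⟨hΦinj, hΦsurj⟩)
  -- `X` has odd size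
  obtain ⟨⟨x₀, hx₀c, hx₀a⟩, -⟩ := hΦsurj ⟨z, IsConj.refl z, hzH⟩
  have hx₀a₀ : x₀ * a₀ ∈ H := by
    have h2 : (a₀⁻¹ * x₀) * (x₀ * a₀) * (a₀⁻¹ * x₀) = a₀⁻¹ * x₀ * (x₀ * (a₀ * a₀⁻¹)) * x₀ := by group
    have h3 : a₀⁻¹ * x₀ * (x₀ * a₀) = 1 := by
      calc a₀⁻¹ * x₀ * (x₀ * a₀) = a₀⁻¹ * (x₀ * x₀) * a₀ := by group
        _ = 1 := by rw [hinvo x₀ hx₀c]; group
    have h4 : x₀ * a₀ = (a₀⁻¹ * x₀)⁻¹ := eq_inv_of_mul_eq_one_right h3
    rw [h4]
    exact H.inv_mem hx₀a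
  have hxa₀ : ∀ x : G, IsConj z x → a₀⁻¹ * x ∈ H → x * a₀ ∈ H := by
    intro x hxc hxa
    have h3 : a₀⁻¹ * x * (x * a₀) = 1 := by
      calc a₀⁻¹ * x * (x * a₀) = a₀⁻¹ * (x * x) * a₀ := by group
        _ = 1 := by rw [hinvo x hxc]; group
    have h4 : x * a₀ = (a₀⁻¹ * x)⁻¹ := eq_inv_of_mul_eq_one_right h3
    rw [h4]
    exact H.inv_mem hxa
  let σ : X → X := fun x => ⟨x₀ * x.1 * x₀⁻¹, by
    refine ⟨x.2.1.trans (isConj_iff.2 ⟨x₀, rfl⟩), ?_⟩
    rw [hinv x₀ hx₀c]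
    have h2 : a₀⁻¹ * (x₀ * x.1 * x₀) = (a₀⁻¹ * x₀) * (x.1 * a₀) * (a₀⁻¹ * x₀) := by group
    rw [h2]
    exact H.mul_mem (H.mul_mem hx₀a (hxa₀ x.1 x.2.1 x.2.2)) hx₀a⟩
  have hσ : ∀ x, σ (σ x) = x := by
    intro x
    apply Subtype.ext
    change x₀ * (x₀ * x.1 * x₀⁻¹) * x₀⁻¹ = x.1
    rw [hinv x₀ hx₀c]
    calc x₀ * (x₀ * x.1 * x₀) * x₀ = (x₀ * x₀) * x.1 * (x₀ * x₀) := by group
      _ = x.1 := by rw [hinvo x₀ hx₀c]; group
  have hX0 : X := ⟨x₀, hx₀c, hx₀a⟩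
  have hfixX : Nat.card {x : X // σ x = x} = 1 := by
    rw [Nat.card_eq_one_iff_unique]
    refine ⟨⟨?_⟩, ⟨⟨⟨x₀, hx₀c, hx₀a⟩, ?_⟩⟩⟩
    · rintro ⟨⟨x, hxc, hxa⟩, hfx⟩ ⟨⟨y, hyc, hya⟩, hfy⟩
      -- all fixed points equal `x₀`
      have key : ∀ (x : G) (hxc : IsConj z x) (hxa : a₀⁻¹ * x ∈ H),
          σ ⟨x, hxc, hxa⟩ = ⟨x, hxc, hxa⟩ → x = x₀ := by
        intro x hxc hxa hfx
        have h2 : x₀ * x * x₀⁻¹ = x := congrArg Subtype.val hfx
        by_contra hne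
        have hcomm : x * x₀ = x₀ * x := by
          rw [mul_inv_eq_iff_eq_mul] at h2
          exact h2.symm
        obtain ⟨g₀, rfl⟩ := isConj_iff.1 hx₀c
        have hg := good_pair h1 (g := g₀) hxc hne hcomm
        have h3 : (g₀ * z * g₀⁻¹) * x ∈ H := by
          have h4 : (g₀ * z * g₀⁻¹) * x = (g₀ * z * g₀⁻¹ * a₀) * (a₀⁻¹ * x) := by group
          rw [h4]
          exact H.mul_mem hx₀a₀ hxa
        have h5 : a₀⁻¹ * ((g₀ * z * g₀⁻¹) * x) * a₀ ∈ H := by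
          have h4 : a₀⁻¹ * ((g₀ * z * g₀⁻¹) * x) * a₀ = (a₀⁻¹ * (g₀ * z * g₀⁻¹)) * (x * a₀) := by group
          rw [h4]
          exact H.mul_mem hx₀a (hxa₀ x hxc hxa)
        have h6 := (hg 1).1 (by simpa using h3)
        have h7 := (hg a₀).1 h5
        apply ha₀
        have h8 := H.mul_mem (H.inv_mem h6) h7
        simpa using h8
      apply Subtype.ext
      apply Subtype.ext
      exact (key x hxc hxa hfx).trans (key y hyc hya hfy).symm
    · apply Subtype.ext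
      change x₀ * x₀ * x₀⁻¹ = x₀
      group
  have hXodd : Nat.card X ≡ 1 [MOD 2] := by
    have := parity_involution σ hσ
    rwa [hfixX] at this
  -- parity of the class
  let C := {x : G // IsConj z x}
  let τ : C → C := fun x => ⟨z * x.1 * z⁻¹, x.2.trans (isConj_iff.2 ⟨z, rfl⟩)⟩
  have hτ : ∀ x, τ (τ x) = x := by
    intro x
    apply Subtype.ext
    change z * (z * x.1 * z⁻¹) * z⁻¹ = x.1
    rw [inv_eq_of_mul_eq_one_left hz]
    calc z * (z * x.1 * z) * z = (z * z) * x.1 * (z * z) := by group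
      _ = x.1 := by rw [hz]; group
  let τ' : S₁ → S₁ := fun x => ⟨z * x.1 * z⁻¹, x.2.1.trans (isConj_iff.2 ⟨z, rfl⟩),
    H.mul_mem (H.mul_mem hzH x.2.2) (H.inv_mem hzH)⟩
  have hτ' : ∀ x, τ' (τ' x) = x := by
    intro x
    apply Subtype.ext
    change z * (z * x.1 * z⁻¹) * z⁻¹ = x.1
    rw [inv_eq_of_mul_eq_one_left hz]
    calc z * (z * x.1 * z) * z = (z * z) * x.1 * (z * z) := by group
      _ = x.1 := by rw [hz]; group
  have hfixeq : Nat.card {x : C // τ x = x} = Nat.card {x : S₁ // τ' x = x} := by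
    apply Nat.card_congr
    refine
      { toFun := fun x => ⟨⟨x.1.1, x.1.2, ?_⟩, ?_⟩
        invFun := fun x => ⟨⟨x.1.1, x.1.2.1⟩, Subtype.ext (by
          have h := congrArg (fun y : S₁ => y.1) x.2
          exact h)⟩
        left_inv := fun x => rfl
        right_inv := fun x => rfl }
    · obtain ⟨⟨x, hxc⟩, hx⟩ := x
      have h2 : z * x * z⁻¹ = x := congrArg Subtype.val hx
      obtain ⟨g, rfl⟩ := isConj_iff.1 hxc
      have h3 : z * (g * z * g⁻¹) = (g * z * g⁻¹) * z := by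
        rwa [mul_inv_eq_iff_eq_mul] at h2
      have h4 := (good_conj_z h0 g).fix h3.symm
      have h5 := (h0 g).1 h4
      exact H.mul_mem (H.mul_mem h5 hzH) (H.inv_mem h5)
    · apply Subtype.ext
      have h := congrArg (fun y : C => y.1) x.2
      exact h
  have h5 : Nat.card C ≡ 1 [MOD 2] := by
    have h6 := parity_involution τ hτ
    have h7 := parity_involution τ' hτ'
    rw [hfixeq] at h6
    have h8 : Nat.card S₁ ≡ 1 [MOD 2] := by rwa [← hcardXS]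
    exact h6.trans (h7.symm.trans h8)
  rw [← CfsgLib.CS.card_class_eq_index z]
  intro h6
  have h7 := (Nat.modEq_zero_iff_dvd.2 h6).symm.trans h5
  exact absurd h7 (by decide)

end CfsgLib.Isol
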