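import Cfsg.Agent.Lib.Invol.BSCor
import Cfsg.Agent.Lib.Solv.Core
import Mathlib.GroupTheory.SpecificGroups.KleinFour

/-! # A Klein four-group all of whose conjugate involutions centralize part of it meets `O₂(G)`. -/

set_option autoImplicit false
set_option linter.unusedSectionVars false

namespace CfsgLib.KleinO2

open Subgroup

universe u

variable {G : Type u} [Group G] [Finite G]

lemma comm_of_pow {t w : G} {n : ℕ} (hn : n.Coprime (orderOf w)) (h : Commute t (w ^ n)) :
    Commute t w := by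
  obtain ⟨m, hm⟩ := exists_pow_eq_self_of_coprime hn
  rw [← hm]
  exact h.pow_right m

lemma comm_of_odd_two {t w : G} (hw : Odd (orderOf w)) (h : Commute t (w⁻¹ * w⁻¹)) : Commute t w := by
  apply comm_of_pow (n := 2) (Nat.coprime_two_left.2 hw)
  have h1 : w ^ 2 = (w⁻¹ * w⁻¹)⁻¹ := by rw [pow_two, mul_inv_rev, inv_inv]
  rw [h1]
  exact h.inv_right

lemma mul_conj {x w : G} (hxw : x * w * x⁻¹ = w⁻¹) (hx : x * x = 1) :
    x * (w * x * w⁻¹) = w⁻¹ * w⁻¹ := by
  calc x * (w * x * w⁻¹) = (x * w * x⁻¹) * (x * x) * w⁻¹ := by group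
    _ = w⁻¹ * w⁻¹ := by rw [hxw, hx]; group

/-- Anything commuting with `x` and `w x w⁻¹` commutes with `w`. -/
lemma comm_of_comm_conj {t x w : G} (hw : Odd (orderOf w)) (hxw : x * w * x⁻¹ = w⁻¹) (hx : x * x = 1)
    (h1 : Commute t x) (h2 : Commute t (w * x * w⁻¹)) : Commute t w := by
  apply comm_of_odd_two hw
  rw [← mul_conj hxw hx]
  exact h1.mul_right h2

lemma eq_one_of_comm {x w : G} (hw : Odd (orderOf w)) (hxw : x * w * x⁻¹ = w⁻¹) (h : Commute x w) :
    w = 1 := by
  have h1 : x * w * x⁻¹ = w := by rw [h.eq]; group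
  rw [h1] at hxw
  have h2 : w ^ 2 = 1 := by
    rw [pow_two]
    nth_rw 1 [hxw]
    group
  have h3 := orderOf_dvd_of_pow_eq_one h2
  have h4 : Nat.Coprime (orderOf w) 2 := Nat.coprime_two_right.2 hw
  have h5 := Nat.eq_one_of_dvd_coprimes h4 (dvd_refl _) h3
  exact orderOf_eq_one_iff.1 h5

lemma klein_elem {A : Subgroup G} (hA : IsKleinFour A) {x y z : G} (hx : x ∈ A) (hy : y ∈ A) (hz : z ∈ A)
    (hx1 : x ≠ 1) (hy1 : y ≠ 1) (hxy : x ≠ y) : z = 1 ∨ z = x ∨ z = y ∨ z = x * y := by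
  classical
  letI : Fintype A := Fintype.ofFinite _
  have h := IsKleinFour.eq_finset_univ (G := A) (x := ⟨x, hx⟩) (y := ⟨y, hy⟩)
    (fun h => hx1 (congrArg Subtype.val h)) (fun h => hy1 (congrArg Subtype.val h))
    (fun h => hxy (congrArg Subtype.val h))
  have h2 : (⟨z, hz⟩ : A) ∈ (Finset.univ : Finset A) := Finset.mem_univ _
  rw [← h] at h2
  simp only [Finset.mem_insert, Finset.mem_singleton, Subtype.mk.injEq] at h2
  rcases h2 with h3 | h3 | h3 | h3
  · right; right; right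
    have := congrArg Subtype.val h3
    exact this
  · right; left; exact h3
  · right; right; left; exact h3
  · left; exact congrArg Subtype.val h3

theorem main (A : Subgroup G) (hA : IsKleinFour ↥A)
    (h : ∀ a ∈ A, a ≠ 1 → ∀ g : G, A ⊓ Subgroup.centralizer ({g * a * g⁻¹} : Set G) ≠ ⊥) :
    A ⊓ Cfsg.pCore 2 G ≠ ⊥ := by
  classical
  intro hbot
  haveI : Fact (Nat.Prime 2) := ⟨Nat.prime_two⟩
  have hsq : ∀ z ∈ A, z * z = 1 := by
    intro z hz
    have := IsKleinFour.mul_self (⟨z, hz⟩ : A)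
    exact congrArg Subtype.val this
  have hcom : ∀ z ∈ A, ∀ z' ∈ A, Commute z z' := by
    intro z hz z' hz'
    have h1 : (z * z') * (z * z') = 1 := hsq _ (mul_mem hz hz')
    have h2 : (z * z')⁻¹ = z * z' := inv_eq_of_mul_eq_one_left h1
    rw [mul_inv_rev, inv_eq_of_mul_eq_one_left (hsq z hz), inv_eq_of_mul_eq_one_left (hsq z' hz')] at h2
    exact h2.symm
  have hinv : ∀ z ∈ A, z⁻¹ = z := fun z hz => inv_eq_of_mul_eq_one_left (hsq z hz)
  have hord : ∀ z ∈ A, z ≠ 1 → orderOf z = 2 := by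
    intro z hz hz1
    exact orderOf_eq_prime (by rw [pow_two]; exact hsq z hz) hz1
  have hax : ∀ c ∈ A, c ≠ 1 → ∀ g : G, ∃ y ∈ A, y ≠ 1 ∧ Commute y (g * c * g⁻¹) := by
    intro c hc hc1 g
    obtain ⟨⟨y, hy⟩, hy1⟩ := Subgroup.ne_bot_iff_exists_ne_one.1 (h c hc hc1 g)
    refine ⟨y, hy.1, fun h => hy1 (Subtype.ext h), ?_⟩
    exact Subgroup.mem_centralizer_singleton_iff.1 hy.2
  have hdih : ∀ c ∈ A, c ≠ 1 → ∃ w : G, w ≠ 1 ∧ Odd (orderOf w) ∧ c * w * c⁻¹ = w⁻¹ := by
    intro c hc hc1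
    apply CfsgLib.Invol.exists_inverted_odd c (hord c hc hc1)
    intro N hN hNp hcN
    haveI := hN
    have h1 : c ∈ Cfsg.pCore 2 G := CfsgLib.Solv.le_pCore' N hNp hcN
    have h2 : c ∈ A ⊓ Cfsg.pCore 2 G := ⟨hc, h1⟩
    rw [hbot] at h2
    exact hc1 h2
  -- the first element
  obtain ⟨x, hx, hx1⟩ : ∃ x ∈ A, x ≠ 1 := by
    by_contra hcon
    push Not at hcon
    have : A = ⊥ := eq_bot_iff.2 (fun z hz => hcon z hz)
    have h4 : Nat.card A = 4 := IsKleinFour.card_four
    rw [this, Subgroup.card_bot] at h4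
    omega
  obtain ⟨w, hw1, hwo, hxw⟩ := hdih x hx hx1
  obtain ⟨y, hy, hy1, hyv⟩ := hax x hx hx1 w
  have hyx : y ≠ x := by
    rintro rfl
    exact hw1 (eq_one_of_comm hwo hxw (comm_of_comm_conj hwo hxw (hsq y hx) (Commute.refl y) hyv))
  have hyw : Commute y w := comm_of_comm_conj hwo hxw (hsq x hx) (hcom y hy x hx) hyv
  obtain ⟨k, hk1, hko, hyk⟩ := hdih y hy hy1
  set u := k * y * k⁻¹ with hu
  obtain ⟨x', hx', hx'1, hx'u⟩ := hax y hy hy1 k
  have hx'y : x' ≠ y := by
    rintro rfl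
    exact hk1 (eq_one_of_comm hko hyk (comm_of_comm_conj hko hyk (hsq x' hy) (Commute.refl x') hx'u))
  have hx'k : Commute x' k := comm_of_comm_conj hko hyk (hsq y hy) (hcom x' hx' y hy) hx'u
  -- `x'` inverts `w`
  have hx'cases : x' = x ∨ x' = x * y := by
    rcases klein_elem hA hx hy hx' hx1 hy1 (Ne.symm hyx) with h1 | h1 | h1 | h1
    · exact absurd h1 hx'1
    · exact Or.inl h1
    · exact absurd h1 hx'y
    · exact Or.inr h1
  have hinvert : ∀ c, (c = x ∨ c = x * y) → c * w * c⁻¹ = w⁻¹ := by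
    rintro c (rfl | rfl)
    · exact hxw
    · have e : (x * y) * w * (x * y)⁻¹ = x * (y * w * y⁻¹) * x⁻¹ := by group
      rw [e, hyw.eq, mul_inv_cancel_right, hxw]
  have hx'w : x' * w * x'⁻¹ = w⁻¹ := hinvert x' hx'cases
  -- the second line
  obtain ⟨y', hy', hy'1, hy'c⟩ := hax y hy hy1 (w⁻¹ * k)
  set v' := w * y' * w⁻¹ with hv'
  have hv'u : Commute v' u := by
    have e : (w⁻¹ * k) * y * (w⁻¹ * k)⁻¹ = w⁻¹ * u * w := by rw [hu]; group
    rw [e] at hy'c
    have h1 := hy'c.eq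
    have : v' * u = u * v' := by
      rw [hv']
      calc w * y' * w⁻¹ * u = w * (y' * (w⁻¹ * u * w)) * w⁻¹ := by group
        _ = w * ((w⁻¹ * u * w) * y') * w⁻¹ := by rw [h1]
        _ = u * (w * y' * w⁻¹) := by group
    exact this
  have hyu : ¬ Commute y u := by
    intro hc
    exact hk1 (eq_one_of_comm hko hyk (comm_of_comm_conj hko hyk (hsq y hy) (Commute.refl y) hc))
  have hy'y : y' ≠ y := by
    rintro rfl
    apply hyu
    have e : v' = y' := by
      rw [hv', hyw.symm.eq, mul_inv_cancel_right]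
    rw [e] at hv'u
    exact hv'u
  have hy'cases : y' = x' ∨ y' = x' * y := by
    rcases klein_elem hA hx' hy hy' hx'1 hy1 hx'y with h1 | h1 | h1 | h1
    · exact absurd h1 hy'1
    · exact Or.inl h1
    · exact absurd h1 hy'y
    · exact Or.inr h1
  -- `u` commutes with `w`
  have hux' : Commute u x' := hx'u.symm
  have huw : Commute u w := by
    apply comm_of_pow (n := 4) (Nat.Coprime.pow_left 2 (Nat.coprime_two_left.2 hwo) |> fun h => by
      simpa using h)
    have hprod : x' * v' = w⁻¹ * w⁻¹ ∨ x' * v' = w⁻¹ * w⁻¹ * y := by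
      rcases hy'cases with rfl | rfl
      · left
        exact mul_conj hx'w (hsq _ hx')
      · right
        have e : x' * (w * (x' * y) * w⁻¹) = (x' * w * x'⁻¹) * (x' * x') * (y * w⁻¹) := by group
        have e2 : y * w⁻¹ = w⁻¹ * y := (hyw.inv_right).eq
        rw [hv', e, hx'w, hsq _ hx', e2]
        group
    have h1 : Commute u (x' * v') := hux'.mul_right hv'u.symm
    have hsqr : (x' * v') ^ 2 = (w ^ 4)⁻¹ := by
      rcases hprod with h2 | h2
      · rw [h2]
        group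
      · rw [h2]
        have h3 : Commute (w⁻¹ * w⁻¹) y :=
          ((hyw.inv_right).mul_right (hyw.inv_right)).symm
        rw [h3.mul_pow, pow_two y, hsq y hy, mul_one]
        group
    have h2 : Commute u ((x' * v') ^ 2) := h1.pow_right 2
    rw [hsqr] at h2
    exact Commute.inv_right_iff.1 h2
  have hy'x' : y' = x' := by
    rcases hy'cases with h1 | h1
    · exact h1
    · exfalso
      apply hyu
      have h2 : Commute u (w * x' * w⁻¹) := (huw.mul_right hux').mul_right huw.inv_right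
      have h3 : Commute u v' := hv'u.symm
      have e : y = (w * x' * w⁻¹)⁻¹ * v' := by
        rw [hv', h1]
        calc y = y * w * w⁻¹ := by group
          _ = w * y * w⁻¹ := by rw [hyw.eq]
          _ = (w * x' * w⁻¹)⁻¹ * (w * (x' * y) * w⁻¹) := by
            group
      rw [e]
      exact (h2.inv_right.mul_right h3).symm
  subst hy'x'
  have hwy : Commute w y := hyw.symm
  have hv'y : Commute v' y :=
    Commute.mul_left (Commute.mul_left hwy (hcom y' hy' y hy)) hwy.inv_left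
  have hv'k : Commute v' k := comm_of_comm_conj hko hyk (hsq y hy) hv'y hv'u
  have hkw : Commute k w := comm_of_comm_conj hwo hx'w (hsq y' hx') hx'k.symm hv'k.symm
  set z := y' * y with hz
  have hzA : z ∈ A := mul_mem hx' hy
  have hz1 : z ≠ 1 := by
    intro h1
    apply hx'y
    have := mul_eq_one_iff_eq_inv.1 h1
    rw [this, hinv y hy]
  obtain ⟨y₀, hy₀, hy₀1, hc⟩ := hax z hzA hz1 (w * k)⁻¹
  have hc' : Commute ((w * k) * y₀ * (w * k)⁻¹) z := by
    have h1 := hc.eq
    show (w * k) * y₀ * (w * k)⁻¹ * z = z * ((w * k) * y₀ * (w * k)⁻¹)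
    calc (w * k) * y₀ * (w * k)⁻¹ * z
        = (w * k) * (y₀ * ((w * k)⁻¹ * z * (w * k)⁻¹⁻¹)) * (w * k)⁻¹ := by group
      _ = (w * k) * (((w * k)⁻¹ * z * (w * k)⁻¹⁻¹) * y₀) * (w * k)⁻¹ := by rw [h1]
      _ = z * ((w * k) * y₀ * (w * k)⁻¹) := by group
  have hcx' : (w * k) * y' * (w * k)⁻¹ = v' := by
    calc (w * k) * y' * (w * k)⁻¹ = w * (k * y' * k⁻¹) * w⁻¹ := by group
      _ = w * y' * w⁻¹ := by rw [hx'k.symm.eq, mul_inv_cancel_right]
  have hcy : (w * k) * y * (w * k)⁻¹ = u := by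
    calc (w * k) * y * (w * k)⁻¹ = w * u * w⁻¹ := by rw [hu]; group
      _ = u := by rw [huw.symm.eq, mul_inv_cancel_right]
  have hno : ¬ Commute y' v' := by
    intro hc2
    exact hw1 (eq_one_of_comm hwo hx'w (comm_of_comm_conj hwo hx'w (hsq y' hx') (Commute.refl y') hc2))
  rcases klein_elem hA hx' hy hy₀ hx'1 hy1 hx'y with h1 | h1 | h1 | h1
  · exact hy₀1 h1
  · -- `z` commutes with `v'`
    rw [h1, hcx'] at hc'
    apply hno
    have e : y' = z * y⁻¹ := by rw [hz]; group
    rw [e]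
    exact (hc'.symm.mul_left hv'y.symm.inv_left)
  · -- `z` commutes with `u`
    rw [h1, hcy] at hc'
    apply hyu
    have e : y = y'⁻¹ * z := by rw [hz]; group
    rw [e]
    exact (hux'.inv_right.mul_right hc').symm
  · -- `z` commutes with `v' u`
    rw [h1] at hc'
    have e : (w * k) * (y' * y) * (w * k)⁻¹ = v' * u := by
      rw [← hcx', ← hcy]; group
    rw [e] at hc'
    have hu2 : u * u = 1 := by
      rw [hu]
      calc k * y * k⁻¹ * (k * y * k⁻¹) = k * (y * y) * k⁻¹ := by group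
        _ = 1 := by rw [hsq y hy]; group
    have hv2 : v' * v' = 1 := by
      rw [hv']
      calc w * y' * w⁻¹ * (w * y' * w⁻¹) = w * (y' * y') * w⁻¹ := by group
        _ = 1 := by rw [hsq y' hx']; group
    have hy2 := hsq y hy
    have hx2 := hsq y' hx'
    -- the key relation
    set P := y' * v' with hP
    set Q := u * y with hQ
    have hPQ : Commute P Q :=
      Commute.mul_left (Commute.mul_right hux'.symm (hcom y' hx' y hy)) (Commute.mul_right hv'u hv'y)
    have hPinv : v' * y' = P⁻¹ := by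
      rw [hP, mul_inv_rev, inv_eq_of_mul_eq_one_left hv2, inv_eq_of_mul_eq_one_left hx2]
    have hQinv : y * u = Q⁻¹ := by
      rw [hQ, mul_inv_rev, inv_eq_of_mul_eq_one_left hu2, inv_eq_of_mul_eq_one_left hy2]
    have hrel : P⁻¹ * Q = P * Q⁻¹ := by
      have h2 := hc'.eq
      rw [hz] at h2
      calc P⁻¹ * Q = v' * y' * (u * y) := by rw [hPinv, hQ]
        _ = v' * (y' * u) * y := by group
        _ = v' * (u * y') * y := by rw [hux'.symm.eq]
        _ = v' * u * (y' * y) := by group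
        _ = y' * y * (v' * u) := h2
        _ = y' * (y * v') * u := by group
        _ = y' * (v' * y) * u := by rw [hv'y.symm.eq]
        _ = P * (y * u) := by rw [hP]; group
        _ = P * Q⁻¹ := by rw [hQinv]
    have hsqs : P * P = Q * Q := by
      have h3 : P * (P⁻¹ * Q) * Q = P * (P * Q⁻¹) * Q := by rw [hrel]
      have h4 : P * (P⁻¹ * Q) * Q = Q * Q := by group
      have h5 : P * (P * Q⁻¹) * Q = P * P := by group
      rw [h4, h5] at h3
      exact h3.symm
    have hPw : P = w⁻¹ * w⁻¹ := mul_conj hx'w hx2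
    have hQx : Commute y' (Q * Q) :=
      (hux'.symm.mul_right (hcom y' hx' y hy)).mul_right (hux'.symm.mul_right (hcom y' hx' y hy))
    rw [← hsqs, hPw] at hQx
    have h6 : Commute y' (w ^ 4) := by
      have e : w ^ 4 = ((w⁻¹ * w⁻¹) * (w⁻¹ * w⁻¹))⁻¹ := by group
      rw [e]
      exact hQx.inv_right
    have h7 : Commute y' w := comm_of_pow (n := 4)
      (Nat.Coprime.pow_left 2 (Nat.coprime_two_left.2 hwo) |> fun h => by simpa using h) h6
    exact hw1 (eq_one_of_comm hwo hx'w h7)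

end CfsgLib.KleinO2
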