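import Mathlib
import Cfsg.Agent.Lib.Solv.Core

/-! # A `p`-group with a self-centralizing nonabelian subgroup of order `p ^ 3` has maximal class. -/

set_option autoImplicit false
set_option linter.unusedSectionVars false
set_option linter.style.haveILetI false

namespace CfsgLib.MaxClassB

open Subgroup

universe u

variable {p : ℕ} [hpf : Fact p.Prime]

section Key

variable {X : Type u} [Group X] [Finite X]

/-- The center of a nonabelian group of order `p ^ 3` has order `p`. -/
lemma card_center_of_cube {B : Type*} [Group B] [Finite B] (hB : Nat.card B = p ^ 3)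
    (hna : ¬ IsMulCommutative B) : Nat.card (center B) = p := by
  have hpp : p.Prime := hpf.out
  have hBp : IsPGroup p B := IsPGroup.of_card hB
  haveI hnt : Nontrivial B := by
    apply (Finite.one_lt_card_iff_nontrivial).1
    rw [hB]
    exact Nat.one_lt_pow (by norm_num) hpp.one_lt
  have hZnt : Nontrivial (center B) := hBp.center_nontrivial
  have hdvd : Nat.card (center B) ∣ p ^ 3 := by
    rw [← hB]; exact Subgroup.card_subgroup_dvd_card _
  obtain ⟨j, hj, hcard⟩ := (Nat.dvd_prime_pow hpp).1 hdvd
  have hidx : (center B).index * Nat.card (center B) = p ^ 3 := by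
    rw [← hB, mul_comm]; exact Subgroup.card_mul_index _
  rw [hcard] at hidx
  have hj0 : j ≠ 0 := by
    rintro rfl
    have := (Finite.one_lt_card_iff_nontrivial (α := center B)).2 hZnt
    rw [hcard] at this
    simp at this
  -- `j = 1`
  by_contra hne
  have hj1 : 2 ≤ j := by
    by_contra hlt
    have : j = 1 := by omega
    rw [this, pow_one] at hcard
    exact hne hcard
  have hcyc : IsCyclic (B ⧸ center B) := by
    have hq : Nat.card (B ⧸ center B) = p ^ (3 - j) := by
      rw [← Subgroup.index_eq_card]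
      have h1 : p ^ 3 = p ^ (3 - j) * p ^ j := by
        rw [← pow_add]; congr 1; omega
      rw [h1] at hidx
      exact Nat.eq_of_mul_eq_mul_right (pow_pos hpp.pos _) hidx
    have h3j : 3 - j = 0 ∨ 3 - j = 1 := by omega
    rcases h3j with h | h
    · rw [h, pow_zero] at hq
      haveI : Subsingleton (B ⧸ center B) := (Nat.card_eq_one_iff_unique.1 hq).1
      exact isCyclic_of_subsingleton
    · rw [h, pow_one] at hq
      haveI : Fact p.Prime := hpf
      exact isCyclic_of_prime_card hq
  haveI := hcyc
  exact hna (isMulCommutative_of_isCyclic_quotient_center_self B)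

/-- Commutators of elements of a nonabelian group of order `p ^ 3` are central. -/
lemma comm_mem_center_of_cube {B : Type*} [Group B] [Finite B] (hB : Nat.card B = p ^ 3)
    (hna : ¬ IsMulCommutative B) (b c : B) : b * c * b⁻¹ * c⁻¹ ∈ center B := by
  have hpp : p.Prime := hpf.out
  have hZ := card_center_of_cube hB hna
  have hq : Nat.card (B ⧸ center B) = p ^ 2 := by
    have h1 := Subgroup.card_eq_card_quotient_mul_card_subgroup (center B)
    rw [hB, hZ] at h1
    have : p ^ 3 = p ^ 2 * p := by ring
    rw [this] at h1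
    exact (Nat.eq_of_mul_eq_mul_right hpp.pos h1).symm
  have hcomm := IsPGroup.commutative_of_card_eq_prime_sq hq
    (QuotientGroup.mk b) (QuotientGroup.mk c)
  rw [← QuotientGroup.eq_one_iff]
  rw [QuotientGroup.mk_mul, QuotientGroup.mk_mul, QuotientGroup.mk_mul, QuotientGroup.mk_inv,
    QuotientGroup.mk_inv]
  rw [← QuotientGroup.mk_mul, ← QuotientGroup.mk_mul] at hcomm
  rw [← QuotientGroup.mk_mul]
  rw [hcomm]
  simp [mul_assoc]

/-- Standing data for the key lemma. -/
structure Hyp (B : Subgroup X) : Prop where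
  card : Nat.card B = p ^ 3
  na : ¬ IsMulCommutative B
  cen : centralizer (B : Set X) ≤ B

variable {B : Subgroup X}

lemma Hyp.isPGroup_of {n : ℕ} (hX : Nat.card X = p ^ n) : IsPGroup p X := IsPGroup.of_card hX

lemma center_le (h : Hyp (p := p) B) : center X ≤ B :=
  (Subgroup.center_le_centralizer (B : Set X)).trans h.cen

lemma card_center {n : ℕ} (hX : Nat.card X = p ^ n) (h : Hyp (p := p) B) : Nat.card (center X) = p := by
  have hpp : p.Prime := hpf.out
  have hXp : IsPGroup p X := IsPGroup.of_card hX
  have hZB := center_le h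
  have hle : (center X).subgroupOf B ≤ center B := by
    intro z hz
    rw [Subgroup.mem_center_iff]
    intro y
    apply Subtype.ext
    have hz' : (z : X) ∈ center X := hz
    exact Subgroup.mem_center_iff.1 hz' y
  have h1 : Nat.card ((center X).subgroupOf B) = Nat.card (center X) :=
    Nat.card_congr (Subgroup.subgroupOfEquivOfLe hZB).toEquiv
  have h2 := Subgroup.card_dvd_of_le hle
  rw [h1, card_center_of_cube h.card h.na] at h2
  rcases (Nat.dvd_prime hpp).1 h2 with h3 | h3
  · exfalso
    haveI hnt : Nontrivial X := by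
      apply (Finite.one_lt_card_iff_nontrivial).1
      have h4 : Nat.card B ∣ Nat.card X := Subgroup.card_subgroup_dvd_card B
      rw [h.card] at h4
      have h5 : 1 < p ^ 3 := Nat.one_lt_pow (by norm_num) hpp.one_lt
      exact lt_of_lt_of_le h5 (Nat.le_of_dvd Nat.card_pos h4)
    have h6 := hXp.center_nontrivial
    have h7 := (Finite.one_lt_card_iff_nontrivial (α := center X)).2 h6
    omega
  · exact h3

lemma center_eq {n : ℕ} (hX : Nat.card X = p ^ n) (h : Hyp (p := p) B) :
    (center X).subgroupOf B = center B := by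
  have hZB := center_le h
  have hle : (center X).subgroupOf B ≤ center B := by
    intro z hz
    rw [Subgroup.mem_center_iff]
    intro y
    apply Subtype.ext
    have hz' : (z : X) ∈ center X := hz
    exact Subgroup.mem_center_iff.1 hz' y
  apply Subgroup.eq_of_le_of_card_ge hle
  have h1 : Nat.card ((center X).subgroupOf B) = Nat.card (center X) :=
    Nat.card_congr (Subgroup.subgroupOfEquivOfLe hZB).toEquiv
  rw [h1, card_center hX h, card_center_of_cube h.card h.na]

lemma comm_mem_center {n : ℕ} (hX : Nat.card X = p ^ n) (h : Hyp (p := p) B) {b c : X} (hb : b ∈ B)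
    (hc : c ∈ B) : b * c * b⁻¹ * c⁻¹ ∈ center X := by
  have h1 := comm_mem_center_of_cube h.card h.na (⟨b, hb⟩ : B) ⟨c, hc⟩
  rw [← center_eq hX h] at h1
  exact h1

/-- A subgroup of `B` containing a subgroup of prime index properly is everything. -/
lemma eq_top_of_index_prime {H K : Subgroup B} (hK : K.index = p) (hKH : K ≤ H) {b : B} (hb : b ∈ H)
    (hbK : b ∉ K) : H = ⊤ := by
  have hpp : p.Prime := hpf.out
  have h1 := Subgroup.relIndex_mul_index hKH
  rw [hK] at h1
  have h2 : K.relIndex H ≠ 1 := by
    intro h3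
    exact hbK (Subgroup.relIndex_eq_one.1 h3 hb)
  have h3 : K.relIndex H ∣ p := ⟨_, h1.symm⟩
  rcases (Nat.dvd_prime hpp).1 h3 with h4 | h4
  · exact absurd h4 h2
  · rw [h4] at h1
    have h5 : H.index = 1 := by
      have : p * H.index = p * 1 := by rw [h1, mul_one]
      exact Nat.eq_of_mul_eq_mul_left hpp.pos this
    exact Subgroup.index_eq_one.1 h5

/-- The key lemma: an element inducing a central automorphism of `B` lies in `B`. -/
lemma mem_of_central_action {n : ℕ} (hX : Nat.card X = p ^ n) (h : Hyp (p := p) B) (y : X)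
    (hy : ∀ b ∈ B, b * y * b⁻¹ * y⁻¹ ∈ center X) : y ∈ B := by
  classical
  have hpp : p.Prime := hpf.out
  have hZc := card_center hX h
  have hyc : ∀ b ∈ B, ∀ g : X, (b * y * b⁻¹ * y⁻¹) * g = g * (b * y * b⁻¹ * y⁻¹) := by
    intro b hb g
    exact (Subgroup.mem_center_iff.1 (hy b hb) g).symm
  let f : ↥B →* ↥(center X) := MonoidHom.mk' (fun b => ⟨(b : X) * y * (b : X)⁻¹ * y⁻¹, hy b b.2⟩) (by
    intro b c
    apply Subtype.ext
    show (b * c : X) * y * (b * c : X)⁻¹ * y⁻¹ =
      ((b : X) * y * (b : X)⁻¹ * y⁻¹) * ((c : X) * y * (c : X)⁻¹ * y⁻¹)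
    have h1 := hyc c c.2 (b : X)
    have h2 : ((b : X) * y * (b : X)⁻¹ * y⁻¹) * ((c : X) * y * (c : X)⁻¹ * y⁻¹)
        = ((c : X) * y * (c : X)⁻¹ * y⁻¹) * ((b : X) * y * (b : X)⁻¹ * y⁻¹) :=
      (hyc c c.2 _).symm
    calc (b * c : X) * y * (b * c : X)⁻¹ * y⁻¹
        = ((b : X) * ((c : X) * y * (c : X)⁻¹ * y⁻¹)) * y * (b : X)⁻¹ * y⁻¹ := by
          push_cast
          group
      _ = (((c : X) * y * (c : X)⁻¹ * y⁻¹) * (b : X)) * y * (b : X)⁻¹ * y⁻¹ := by rw [h1]
      _ = ((c : X) * y * (c : X)⁻¹ * y⁻¹) * ((b : X) * y * (b : X)⁻¹ * y⁻¹) := by group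
      _ = _ := h2.symm)
  set K := f.ker with hK
  have hfker : ∀ e : ↥B, e ∈ K ↔ (e : X) * y = y * e := by
    intro e
    rw [hK, MonoidHom.mem_ker, Subtype.ext_iff]
    show (e : X) * y * (e : X)⁻¹ * y⁻¹ = 1 ↔ _
    constructor
    · intro h1
      rw [mul_inv_eq_one, mul_inv_eq_iff_eq_mul] at h1
      exact h1
    · intro h1
      rw [h1]; group
  have hidx : K.index ∣ p := by
    rw [hK, Subgroup.index_ker, ← hZc]
    exact Subgroup.card_subgroup_dvd_card _
  rcases (Nat.dvd_prime hpp).1 hidx with h1 | h1
  · -- `y` centralizes `B`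
    apply h.cen
    rw [Subgroup.mem_centralizer_iff]
    intro b hb
    have h2 : K = ⊤ := Subgroup.index_eq_one.1 h1
    have h3 : (⟨b, hb⟩ : B) ∈ K := by rw [h2]; trivial
    exact (hfker _).1 h3
  -- `K` has index `p`
  have hKc : Nat.card K = p ^ 2 := by
    have h2 := Subgroup.card_mul_index K
    rw [h.card, h1] at h2
    have : p ^ 3 = p ^ 2 * p := by ring
    rw [this] at h2
    exact Nat.eq_of_mul_eq_mul_right hpp.pos h2
  have hKcomm := IsPGroup.commutative_of_card_eq_prime_sq hKc
  have hcB := card_center_of_cube h.card h.na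
  obtain ⟨a, haK, haZ⟩ : ∃ a : ↥B, a ∈ K ∧ a ∉ center B := by
    by_contra hcon
    push Not at hcon
    have h2 : K ≤ center B := hcon
    have h3 := Subgroup.card_le_of_le h2
    rw [hKc, hcB] at h3
    have h4 : p < p ^ 2 := by
      calc p = p ^ 1 := (pow_one p).symm
        _ < p ^ 2 := Nat.pow_lt_pow_right hpp.one_lt (by norm_num)
    omega
  obtain ⟨b₁, hb₁⟩ : ∃ b₁ : ↥B, b₁ ∉ K := by
    by_contra hcon
    push Not at hcon
    have h2 : K = ⊤ := eq_top_iff.2 (fun g _ => hcon g)
    rw [h2, Subgroup.index_top] at h1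
    exact hpp.one_lt.ne h1
  -- every element of `K` commutes with `a`
  have hKa : ∀ e ∈ K, e * a = a * e := by
    intro e he
    have := hKcomm ⟨e, he⟩ ⟨a, haK⟩
    exact congrArg Subtype.val this
  have hab : b₁ * a ≠ a * b₁ := by
    intro hc
    apply haZ
    have htop : centralizer ({a} : Set B) = ⊤ := by
      apply eq_top_of_index_prime h1 (b := b₁) (K := K)
      · intro e he
        rw [Subgroup.mem_centralizer_singleton_iff]
        exact hKa e he
      · rw [Subgroup.mem_centralizer_singleton_iff]
        exact hc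
      · exact hb₁
    rw [Subgroup.mem_center_iff]
    intro g
    have : g ∈ centralizer ({a} : Set B) := by rw [htop]; trivial
    rw [Subgroup.mem_centralizer_singleton_iff] at this
    exact this
  -- the two commutators
  set w : X := (b₁ : X) * a * (b₁ : X)⁻¹ * (a : X)⁻¹ with hw
  have hwZ : w ∈ center X := comm_mem_center hX h b₁.2 a.2
  have hw1 : w ≠ 1 := by
    intro h2
    apply hab
    apply Subtype.ext
    rw [hw, mul_inv_eq_one, mul_inv_eq_iff_eq_mul] at h2
    exact h2
  set w₀ : X := (b₁ : X) * y * (b₁ : X)⁻¹ * y⁻¹ with hw₀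
  have hw₀Z : w₀ ∈ center X := hy b₁ b₁.2
  -- `w` generates the center
  have hgen : center X ≤ zpowers w := by
    have h2 : (zpowers w) ⊓ center X = zpowers w := inf_eq_left.2 (zpowers_le.2 hwZ)
    have h3 : zpowers w ≤ center X := zpowers_le.2 hwZ
    have h4 : (⟨w, hwZ⟩ : center X) ≠ 1 := fun h5 => hw1 (congrArg Subtype.val h5)
    have h5 : orderOf (⟨w, hwZ⟩ : center X) ∣ p := by
      rw [← hZc]; exact orderOf_dvd_natCard _
    have h6 : orderOf w = p := by
      rw [← Subgroup.orderOf_mk w hwZ]
      rcases (Nat.dvd_prime hpp).1 h5 with h7 | h7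
      · exact absurd (orderOf_eq_one_iff.1 h7) h4
      · exact h7
    have h7 := Subgroup.eq_of_le_of_card_ge (H := zpowers w) (K := center X) h3 (by
      rw [hZc, Nat.card_zpowers, h6])
    rw [h7]
  have hw₀w : w₀ ∈ zpowers w := hgen hw₀Z
  rw [← mem_powers_iff_mem_zpowers] at hw₀w
  obtain ⟨k, hk⟩ := hw₀w
  have hk' : w ^ k = w₀ := hk
  set c : ↥B := a ^ k with hc
  have hcK : c ∈ K := pow_mem haK k
  -- conjugation formulas
  have hwcomm : ∀ g : X, w * g = g * w := fun g => (Subgroup.mem_center_iff.1 hwZ g).symm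
  have hb₁a : (b₁ : X) * a * (b₁ : X)⁻¹ = w * a := by rw [hw]; group
  have hb₁c : (b₁ : X) * c * (b₁ : X)⁻¹ = w ^ k * c := by
    have h2 : ((c : ↥B) : X) = (a : X) ^ k := by rw [hc]; rfl
    rw [h2, ← conj_pow, hb₁a]
    have h3 : Commute w (a : X) := hwcomm _
    rw [h3.mul_pow]
  have hb₁y : (b₁ : X) * y * (b₁ : X)⁻¹ = w₀ * y := by rw [hw₀]; group
  set t : X := (c : X)⁻¹ * y with ht
  have htb₁ : (b₁ : X) * t * (b₁ : X)⁻¹ = t := by
    have h2 : (b₁ : X) * t * (b₁ : X)⁻¹ =
        ((b₁ : X) * (c : X) * (b₁ : X)⁻¹)⁻¹ * ((b₁ : X) * y * (b₁ : X)⁻¹) := by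
      rw [ht]; group
    rw [h2, hb₁c, hb₁y, hk', ht, mul_inv_rev]
    group
  have htK : ∀ e ∈ K, (e : X) * t = t * e := by
    intro e he
    have h2 := (hfker e).1 he
    have h3 := hKcomm ⟨e, he⟩ ⟨c, hcK⟩
    have h4 : (e : X) * c = c * e := congrArg (fun u : K => ((u : ↥B) : X)) h3
    rw [ht]
    calc (e : X) * ((c : X)⁻¹ * y) = ((c : X)⁻¹ * ((c : X) * e * (c : X)⁻¹)) * y := by group
      _ = ((c : X)⁻¹ * ((e : X) * c * (c : X)⁻¹)) * y := by rw [h4]
      _ = (c : X)⁻¹ * ((e : X) * y) := by group
      _ = (c : X)⁻¹ * (y * e) := by rw [h2]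
      _ = _ := by group
  have htB : t ∈ B := by
    apply h.cen
    rw [Subgroup.mem_centralizer_iff]
    intro b hb
    have htop : (centralizer ({t} : Set X)).subgroupOf B = ⊤ := by
      apply eq_top_of_index_prime h1 (b := b₁) (K := K)
      · intro e he
        rw [Subgroup.mem_subgroupOf, Subgroup.mem_centralizer_singleton_iff]
        exact htK e he
      · rw [Subgroup.mem_subgroupOf, Subgroup.mem_centralizer_singleton_iff]
        rw [mul_inv_eq_iff_eq_mul] at htb₁
        exact htb₁
      · exact hb₁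
    have h2 : (⟨b, hb⟩ : B) ∈ (centralizer ({t} : Set X)).subgroupOf B := by rw [htop]; trivial
    rw [Subgroup.mem_subgroupOf, Subgroup.mem_centralizer_singleton_iff] at h2
    exact h2
  have hy2 : y = c * t := by rw [ht]; group
  rw [hy2]
  exact mul_mem c.2 htB

end Key

/-- The main theorem. -/
theorem main : ∀ (n : ℕ) (X : Type u) [Group X] [Finite X], Nat.card X = p ^ n →
    ∀ B : Subgroup X, Nat.card B = p ^ 3 → ¬ IsMulCommutative B → centralizer (B : Set X) ≤ B →
    Group.nilpotencyClass X = n - 1 := by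
  have hpp : p.Prime := hpf.out
  intro n
  induction n with
  | zero =>
    intro X _ _ hX B hB hna hC
    exfalso
    have h1 : Nat.card B ∣ Nat.card X := Subgroup.card_subgroup_dvd_card B
    rw [hB, hX, pow_zero] at h1
    have h2 : 1 < p ^ 3 := Nat.one_lt_pow (by norm_num) hpp.one_lt
    have h3 := Nat.le_of_dvd one_pos h1
    omega
  | succ n ih =>
    intro X _ _ hX B hB hna hC
    have h : Hyp (p := p) B := ⟨hB, hna, hC⟩
    have hXp : IsPGroup p X := IsPGroup.of_card hX
    haveI hnil : Group.IsNilpotent X := hXp.isNilpotent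
    haveI hnt : Nontrivial X := by
      apply (Finite.one_lt_card_iff_nontrivial).1
      have h4 : Nat.card B ∣ Nat.card X := Subgroup.card_subgroup_dvd_card B
      rw [hB] at h4
      have h5 : 1 < p ^ 3 := Nat.one_lt_pow (by norm_num) hpp.one_lt
      exact lt_of_lt_of_le h5 (Nat.le_of_dvd Nat.card_pos h4)
    have hZc := card_center hX h
    have hXbar : Nat.card (X ⧸ center X) = p ^ n := by
      have h1 := Subgroup.card_eq_card_quotient_mul_card_subgroup (center X)
      rw [hX, hZc, pow_succ] at h1
      exact (Nat.eq_of_mul_eq_mul_right hpp.pos h1).symm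
    set π := QuotientGroup.mk' (center X) with hπ
    have hπs : Function.Surjective π := QuotientGroup.mk'_surjective _
    set Bbar := B.map π with hBbar
    have hker : π.ker = center X := QuotientGroup.ker_mk' _
    have hidx : Bbar.index = B.index := by
      rw [hBbar, Subgroup.index_map, hker, sup_eq_left.2 (center_le h)]
      rw [MonoidHom.range_eq_top.2 hπs, Subgroup.index_top, mul_one]
    have hBbc : Nat.card Bbar = p ^ 2 := by
      have h1 := Subgroup.card_mul_index Bbar
      have h2 := Subgroup.card_mul_index B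
      rw [hXbar, hidx] at h1
      rw [hX, hB] at h2
      have h3 : 0 < B.index := Nat.pos_of_ne_zero Subgroup.index_ne_zero_of_finite
      have h6 : p ^ 3 * B.index = Nat.card Bbar * p * B.index := by
        rw [h2, pow_succ, ← h1]
        ring
      have h4 : p ^ 3 = Nat.card Bbar * p := Nat.eq_of_mul_eq_mul_right h3 h6
      have h5 : p ^ 3 = p ^ 2 * p := by ring
      rw [h5] at h4
      exact (Nat.eq_of_mul_eq_mul_right hpp.pos h4).symm
    have hcen : centralizer (Bbar : Set (X ⧸ center X)) ≤ Bbar := by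
      intro xb hxb
      obtain ⟨x, rfl⟩ := hπs xb
      have hx : x ∈ B := by
        apply mem_of_central_action hX h
        intro b hb
        rw [← hker, MonoidHom.mem_ker]
        have h1 := Subgroup.mem_centralizer_iff.1 hxb (π b) ⟨b, hb, rfl⟩
        simp only [map_mul, map_inv]
        rw [h1]
        group
      exact ⟨x, hx, rfl⟩
    have hclass : Group.nilpotencyClass X = Group.nilpotencyClass (X ⧸ center X) + 1 :=
      nilpotencyClass_eq_quotient_center_plus_one
    have hn2 : 2 ≤ n := by
      have h1 : Nat.card Bbar ∣ Nat.card (X ⧸ center X) := Subgroup.card_subgroup_dvd_card Bbar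
      rw [hBbc, hXbar] at h1
      exact (Nat.pow_dvd_pow_iff_le_right hpp.one_lt).1 h1
    by_cases hn : n = 2
    · subst hn
      have hcomm := IsPGroup.commutative_of_card_eq_prime_sq hXbar
      haveI hnt2 : Nontrivial (X ⧸ center X) := by
        apply (Finite.one_lt_card_iff_nontrivial).1
        rw [hXbar]
        exact Nat.one_lt_pow (by norm_num) hpp.one_lt
      have hle : Group.nilpotencyClass (X ⧸ center X) ≤ 1 := by
        rw [← Subgroup.lowerCentralSeries_eq_bot_iff_nilpotencyClass_le]
        rw [Subgroup.lowerCentralSeries_one]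
        rw [commutator_eq_bot_iff_center_eq_top]
        rw [Subgroup.eq_top_iff']
        intro g
        rw [Subgroup.mem_center_iff]
        intro k
        exact hcomm k g
      have hne : Group.nilpotencyClass (X ⧸ center X) ≠ 0 := by
        intro h0
        rw [Group.nilpotencyClass_zero_iff_subsingleton] at h0
        exact not_subsingleton _ h0
      rw [hclass]
      omega
    · have hn3 : 3 ≤ n := by omega
      have hdvd : p ^ (2 + 1) ∣ Nat.card (X ⧸ center X) := by
        rw [hXbar]
        exact pow_dvd_pow p hn3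
      obtain ⟨A, hA, hBA⟩ := Sylow.exists_subgroup_card_pow_succ hdvd hBbc
      have hAna : ¬ IsMulCommutative A := by
        intro hc
        have hAle : A ≤ centralizer (Bbar : Set (X ⧸ center X)) := by
          intro a ha
          rw [Subgroup.mem_centralizer_iff]
          intro b hb
          have := hc.is_comm.comm ⟨b, hBA hb⟩ ⟨a, ha⟩
          exact congrArg Subtype.val this
        have h1 := Subgroup.card_le_of_le (hAle.trans hcen)
        rw [hA, hBbc] at h1
        have h2 : p ^ 2 < p ^ (2 + 1) := Nat.pow_lt_pow_right hpp.one_lt (by norm_num)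
        omega
      have hAc : centralizer (A : Set (X ⧸ center X)) ≤ A :=
        (Subgroup.centralizer_le (fun x hx => hBA hx)).trans (hcen.trans hBA)
      have := ih (X ⧸ center X) hXbar A hA hAna hAc
      rw [hclass, this]
      omega

end CfsgLib.MaxClassB
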