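import Mathlib
import Cfsg.Agent.Lib.FGS.AutP
import Cfsg.Agent.Lib.FGS.Elem
import Cfsg.Agent.Lib.Trans.PGrp
import Cfsg.Agent.Lib.OOL.PSep1
import Cfsg.Agent.Lib.Solv.Core

set_option autoImplicit false

namespace CfsgLib.MetaAut

open Subgroup
open scoped commutatorElement

variable {X : Type*} [Group X]

/-- Automorphisms trivial modulo the Frattini subgroup. -/
def autF (X : Type*) [Group X] : Subgroup (MulAut X) where
  carrier := {τ | ∀ y, τ y * y⁻¹ ∈ frattini X}
  one_mem' := by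
    intro y
    simp [one_mem]
  mul_mem' := by
    intro τ₁ τ₂ h₁ h₂ y
    have h3 := h₁ (τ₂ y)
    have h4 := h₂ y
    have : (τ₁ * τ₂) y * y⁻¹ = (τ₁ (τ₂ y) * (τ₂ y)⁻¹) * (τ₂ y * y⁻¹) := by
      simp [MulAut.mul_apply]
    rw [this]
    exact mul_mem h3 h4
  inv_mem' := by
    intro τ h y
    have h3 := h (τ⁻¹ y)
    have : τ⁻¹ y * y⁻¹ = (τ (τ⁻¹ y) * (τ⁻¹ y)⁻¹)⁻¹ := by simp
    rw [this]
    exact inv_mem h3

variable [Finite X]

theorem aut_eq_one_of_frattini {p : ℕ} [Fact p.Prime] (hX : IsPGroup p X) (σ : MulAut X)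
    (hσ : (orderOf σ).Coprime p) (h : ∀ y, σ y * y⁻¹ ∈ frattini X) : σ = 1 := by
  classical
  have hn : (frattini X).Normal := inferInstance
  have hmem : ∀ (τ : autF X) (y : X) (f : X → frattini X),
      y⁻¹ * τ.1 (y * (f y).1) ∈ frattini X := by
    intro τ y f
    have h1 := τ.2 (y * (f y).1)
    have h2 := hn.conj_mem' _ h1 y
    have h3 := mul_mem h2 (f y).2
    have e : y⁻¹ * τ.1 (y * (f y).1) =
        y⁻¹ * (τ.1 (y * (f y).1) * (y * (f y).1)⁻¹) * y * (f y).1 := by group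
    rw [e]
    exact h3
  letI act : MulAction (autF X) (X → frattini X) :=
    { smul := fun τ f y => ⟨y⁻¹ * τ.1 (y * (f y).1), hmem τ y f⟩
      one_smul := by
        intro f
        funext y
        apply Subtype.ext
        show y⁻¹ * ((1 : MulAut X) (y * (f y).1)) = (f y).1
        simp
      mul_smul := by
        intro τ₁ τ₂ f
        funext y
        apply Subtype.ext
        show y⁻¹ * ((τ₁.1 * τ₂.1) (y * (f y).1)) = y⁻¹ * τ₁.1 (y * (y⁻¹ * τ₂.1 (y * (f y).1)))
        simp [MulAut.mul_apply] }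
  have hfree : ∀ (f : X → frattini X) (τ : autF X), τ • f = f → τ = 1 := by
    intro f τ hτ
    have h1 : ∀ y, τ.1 (y * (f y).1) = y * (f y).1 := by
      intro y
      have h2 : y⁻¹ * τ.1 (y * (f y).1) = (f y).1 :=
        congrArg Subtype.val (congrFun hτ y)
      calc τ.1 (y * (f y).1) = y * (y⁻¹ * τ.1 (y * (f y).1)) := by group
        _ = y * (f y).1 := by rw [h2]
    have hgen : closure (Set.range fun y => y * (f y).1) = ⊤ := by
      apply frattini_nongenerating
      rw [eq_top_iff]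
      intro x _
      have e : x = (x * (f x).1) * (f x).1⁻¹ := by group
      rw [e]
      exact Subgroup.mul_mem _ (Subgroup.mem_sup_left (subset_closure ⟨x, rfl⟩))
        (Subgroup.mem_sup_right (inv_mem (f x).2))
    have h2 : τ.1.toMonoidHom = MonoidHom.id X := by
      apply MonoidHom.eq_of_eqOn_dense hgen
      rintro _ ⟨y, rfl⟩
      simpa using h1 y
    apply Subtype.ext
    ext x
    have := DFunLike.congr_fun h2 x
    simpa using this
  have hd := CfsgLib.FGS.card_dvd_of_free hfree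
  obtain ⟨k, hk⟩ := IsPGroup.iff_card.1 (hX.to_subgroup (frattini X))
  rw [Nat.card_fun, hk, ← pow_mul] at hd
  have hσA : σ ∈ autF X := h
  have h3 : orderOf (⟨σ, hσA⟩ : autF X) ∣ p ^ (k * Nat.card X) := (_root_.orderOf_dvd_natCard _).trans hd
  rw [Subgroup.orderOf_mk] at h3
  have h4 : orderOf σ = 1 := Nat.Coprime.eq_one_of_dvd (Nat.Coprime.pow_right _ hσ) h3
  exact orderOf_eq_one_iff.mp h4

omit [Finite X] in
theorem comm_of_exp_two {Q : Type*} [Group Q] (hexp : ∀ x : Q, x ^ 2 = 1) (x y : Q) : x * y = y * x := by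
  have h1 := hexp (x * y)
  have h2 := hexp x
  have h3 := hexp y
  rw [pow_two] at h1 h2 h3
  have h4 : x * y = (x * y)⁻¹ := eq_inv_of_mul_eq_one_left h1
  have h5 : x⁻¹ = x := inv_eq_of_mul_eq_one_left h2
  have h6 : y⁻¹ = y := inv_eq_of_mul_eq_one_left h3
  rw [h4, mul_inv_rev, h5, h6]

/-- An odd automorphism of a group of exponent two and order at most four with a nontrivial
fixed point is trivial. -/
theorem four_lemma {Q : Type*} [Group Q] [Finite Q] (hexp : ∀ x : Q, x ^ 2 = 1) (hcard : Nat.card Q ≤ 4)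
    (τ : MulAut Q) {m : ℕ} (hm : Odd m) (hτ : τ ^ m = 1) (z : Q) (hz : z ≠ 1) (hτz : τ z = z) (y : Q) :
    τ y = y := by
  classical
  by_contra hne
  haveI := Fintype.ofFinite Q
  have hy1 : y ≠ 1 := by
    rintro rfl
    exact hne (map_one τ)
  have hyz : y ≠ z := by
    rintro rfl
    exact hne hτz
  have hw1 : τ y ≠ 1 := by
    intro h
    exact hy1 ((map_eq_one_iff τ τ.injective).mp h)
  have hwz : τ y ≠ z := by
    intro h
    rw [← hτz] at h
    exact hyz (τ.injective h)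
  have hc : ({1, z, y, τ y} : Finset Q).card = 4 := by
    rw [Finset.card_insert_of_notMem, Finset.card_insert_of_notMem, Finset.card_insert_of_notMem,
      Finset.card_singleton]
    · simpa using fun h : y = τ y => hne h.symm
    · simp [hyz.symm, hwz.symm]
    · simp [hz.symm, hy1.symm, hw1.symm]
  have hS : ({1, z, y, τ y} : Finset Q) = Finset.univ := by
    apply Finset.eq_univ_of_card
    have h1 := Finset.card_le_univ ({1, z, y, τ y} : Finset Q)
    rw [Nat.card_eq_fintype_card] at hcard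
    omega
  have hmem : y * z ∈ ({1, z, y, τ y} : Finset Q) := by
    rw [hS]
    exact Finset.mem_univ _
  have hz2 : z * z = 1 := by
    have := hexp z
    rwa [pow_two] at this
  have hw : τ y = y * z := by
    simp only [Finset.mem_insert, Finset.mem_singleton] at hmem
    rcases hmem with h | h | h | h
    · exfalso
      apply hyz
      calc y = y * z * z := by rw [mul_assoc, hz2, mul_one]
        _ = z := by rw [h, one_mul]
    · exact absurd (mul_eq_right.mp h) hy1
    · exact absurd (mul_eq_left.mp h) hz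
    · exact h.symm
  have hτ2 : ∀ k : ℕ, (τ ^ (2 * k)) y = y := by
    intro k
    induction k with
    | zero => simp
    | succ k ih =>
      have : 2 * (k + 1) = 2 * k + 2 := by ring
      rw [this, pow_add, MulAut.mul_apply, pow_two, MulAut.mul_apply, hw, map_mul, hτz, hw, mul_assoc, hz2,
        mul_one, ih]
  obtain ⟨k, rfl⟩ := hm
  have h1 : (τ ^ (2 * k + 1)) y = τ y := by
    rw [pow_succ', MulAut.mul_apply, hτ2]
  rw [hτ, MulAut.one_apply] at h1
  exact hne h1.symm

/-- The subgroup generated by squares. -/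
def sq (X : Type*) [Group X] : Subgroup X := closure {x | ∃ y, x = y ^ 2}

omit [Finite X] in
theorem pow_two_mem (y : X) : y ^ 2 ∈ sq X := subset_closure ⟨y, rfl⟩

omit [Finite X] in
theorem map_mem_sq (τ : X →* X) {x : X} (hx : x ∈ sq X) : τ x ∈ sq X := by
  induction hx using Subgroup.closure_induction with
  | mem x hx =>
    obtain ⟨y, rfl⟩ := hx
    rw [map_pow]
    exact pow_two_mem _
  | one => rw [map_one]; exact one_mem _
  | mul x y _ _ hx hy => rw [map_mul]; exact mul_mem hx hy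
  | inv x _ hx => rw [map_inv]; exact inv_mem hx

instance sq_normal : (sq X).Normal := by
  refine ⟨fun n hn g => ?_⟩
  exact map_mem_sq (MulAut.conj g).toMonoidHom hn

theorem sq_le_frattini (hX : IsPGroup 2 X) : sq X ≤ frattini X := by
  haveI : Fact (Nat.Prime 2) := ⟨Nat.prime_two⟩
  rw [sq, closure_le]
  rintro _ ⟨y, rfl⟩
  exact (CfsgLib.Solv.pgroup_commutator_pow_le_frattini hX).2 y

omit [Finite X] in
theorem quot_exp (q : X ⧸ sq X) : q ^ 2 = 1 := by
  obtain ⟨x, rfl⟩ := QuotientGroup.mk_surjective q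
  rw [← QuotientGroup.mk_pow, QuotientGroup.eq_one_iff]
  exact pow_two_mem x

omit [Finite X] in
theorem quot_comm (p q : X ⧸ sq X) : p * q = q * p := comm_of_exp_two quot_exp p q

omit [Finite X] in
theorem comm_mem_sq (x y : X) : ⁅x, y⁆ ∈ sq X := by
  rw [← QuotientGroup.eq_one_iff, commutatorElement_def]
  simp only [QuotientGroup.mk_mul, QuotientGroup.mk_inv]
  rw [quot_comm (x : X ⧸ sq X) y]
  group

/-- Induced automorphism of the quotient by the squares. -/
noncomputable def tauQ (σ : MulAut X) : MulAut (X ⧸ sq X) :=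
  QuotientGroup.congr (sq X) (sq X) σ (by
    apply le_antisymm
    · rintro _ ⟨x, hx, rfl⟩
      exact map_mem_sq σ.toMonoidHom hx
    · intro x hx
      refine ⟨σ⁻¹ x, map_mem_sq (σ⁻¹ : MulAut X).toMonoidHom hx, ?_⟩
      simp)

omit [Finite X] in
theorem tauQ_mk (σ : MulAut X) (x : X) : tauQ σ (x : X ⧸ sq X) = (σ x : X) := rfl

omit [Finite X] in
theorem tauQ_pow (σ : MulAut X) (k : ℕ) (x : X) : (tauQ σ ^ k) (x : X ⧸ sq X) = ((σ ^ k) x : X) := by
  induction k with
  | zero => rfl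
  | succ k ih =>
    rw [pow_succ', MulAut.mul_apply, ih, tauQ_mk, pow_succ', MulAut.mul_apply]

omit [Finite X] in
theorem tauQ_pow_eq_one (σ : MulAut X) {m : ℕ} (h : σ ^ m = 1) : tauQ σ ^ m = 1 := by
  ext q
  obtain ⟨x, rfl⟩ := QuotientGroup.mk_surjective q
  rw [tauQ_pow, h]
  rfl

omit [Finite X] in
theorem mk_eq_iff (x y : X) : (x : X ⧸ sq X) = y ↔ x * y⁻¹ ∈ sq X := by
  rw [QuotientGroup.eq_iff_div_mem, div_eq_mul_inv]

omit [Finite X] in
theorem map_mem_iff (σ : MulAut X) (x : X) : σ x ∈ sq X ↔ x ∈ sq X := by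
  constructor
  · intro h
    have := map_mem_sq (σ⁻¹ : MulAut X).toMonoidHom h
    simpa using this
  · exact map_mem_sq σ.toMonoidHom

section Main

variable (σ : MulAut X) {m : ℕ} (hm : Odd m) (hσm : σ ^ m = 1) (hσ1 : σ ≠ 1) (hX : IsPGroup 2 X)
variable (hcard : Nat.card (X ⧸ sq X) ≤ 4)

include hm hσm in
theorem order_coprime : (orderOf σ).Coprime 2 := by
  apply Nat.Coprime.coprime_dvd_left (orderOf_dvd_of_pow_eq_one hσm)
  exact Nat.coprime_two_right.2 hm

include hm hσm hσ1 hX hcard in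
/-- `σ` fixes no nontrivial coset of `sq X`. -/
theorem no_fixed (z : X) (hz : z ∉ sq X) : σ z * z⁻¹ ∉ sq X := by
  intro h
  haveI : Fact (Nat.Prime 2) := ⟨Nat.prime_two⟩
  apply hσ1
  apply aut_eq_one_of_frattini hX σ (order_coprime σ hm hσm)
  intro y
  apply sq_le_frattini hX
  have h1 : tauQ σ (z : X ⧸ sq X) = (z : X ⧸ sq X) := (mk_eq_iff _ _).mpr h
  have hz' : (z : X ⧸ sq X) ≠ 1 := fun h2 => hz ((QuotientGroup.eq_one_iff z).mp h2)
  have h2 := four_lemma quot_exp hcard (tauQ σ) hm (tauQ_pow_eq_one σ hσm) _ hz' h1 (y : X ⧸ sq X)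
  exact (mk_eq_iff _ _).mp h2

variable (a : X) (ha : a ∉ sq X)

include hm hσm hσ1 hX hcard ha in
/-- The four cosets. -/
theorem tri_univ (q : X ⧸ sq X) : q = 1 ∨ q = (a : X ⧸ sq X) ∨ q = ((σ a : X) : X ⧸ sq X) ∨
    q = ((σ (σ a) : X) : X ⧸ sq X) := by
  classical
  haveI := Fintype.ofFinite (X ⧸ sq X)
  have ha1 : (a : X ⧸ sq X) ≠ 1 := fun h2 => ha ((QuotientGroup.eq_one_iff a).mp h2)
  have hy1 : ((σ a : X) : X ⧸ sq X) ≠ 1 := fun h2 => ha ((map_mem_iff σ a).mp ((QuotientGroup.eq_one_iff _).mp h2))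
  have hu1 : ((σ (σ a) : X) : X ⧸ sq X) ≠ 1 := fun h2 =>
    ha ((map_mem_iff σ a).mp ((map_mem_iff σ _).mp ((QuotientGroup.eq_one_iff _).mp h2)))
  have hya : ((σ a : X) : X ⧸ sq X) ≠ a := fun h2 => no_fixed σ hm hσm hσ1 hX hcard a ha ((mk_eq_iff _ _).mp h2)
  have huy : ((σ (σ a) : X) : X ⧸ sq X) ≠ ((σ a : X) : X ⧸ sq X) := fun h2 =>
    no_fixed σ hm hσm hσ1 hX hcard (σ a) (fun h => ha ((map_mem_iff σ a).mp h)) ((mk_eq_iff _ _).mp h2)
  have hua : ((σ (σ a) : X) : X ⧸ sq X) ≠ a := by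
    intro h2
    have h3 : ∀ k : ℕ, (tauQ σ ^ (2 * k)) (a : X ⧸ sq X) = a := by
      intro k
      induction k with
      | zero => simp
      | succ k ih =>
        have : 2 * (k + 1) = 2 * k + 2 := by ring
        rw [this, pow_add, MulAut.mul_apply, pow_two, MulAut.mul_apply]
        have : tauQ σ (tauQ σ (a : X ⧸ sq X)) = a := h2
        rw [this, ih]
    obtain ⟨k, hk⟩ := hm
    have h4 : (tauQ σ ^ (2 * k + 1)) (a : X ⧸ sq X) = tauQ σ a := by
      rw [pow_succ', MulAut.mul_apply, h3]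
    rw [← hk, tauQ_pow_eq_one σ hσm, MulAut.one_apply] at h4
    exact hya h4.symm
  have hc : ({1, (a : X ⧸ sq X), ((σ a : X) : X ⧸ sq X), ((σ (σ a) : X) : X ⧸ sq X)} : Finset (X ⧸ sq X)).card = 4 := by
    rw [Finset.card_insert_of_notMem, Finset.card_insert_of_notMem, Finset.card_insert_of_notMem,
      Finset.card_singleton]
    · simpa using fun h => huy (Eq.symm h)
    · simp [hya.symm, hua.symm]
    · simp [ha1.symm, hy1.symm, hu1.symm]
  have hS : ({1, (a : X ⧸ sq X), ((σ a : X) : X ⧸ sq X), ((σ (σ a) : X) : X ⧸ sq X)} : Finset (X ⧸ sq X)) = Finset.univ := by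
    apply Finset.eq_univ_of_card
    have h1 := Finset.card_le_univ ({1, (a : X ⧸ sq X), ((σ a : X) : X ⧸ sq X), ((σ (σ a) : X) : X ⧸ sq X)} : Finset (X ⧸ sq X))
    rw [Nat.card_eq_fintype_card] at hcard
    omega
  have h1 : q ∈ ({1, (a : X ⧸ sq X), ((σ a : X) : X ⧸ sq X), ((σ (σ a) : X) : X ⧸ sq X)} : Finset (X ⧸ sq X)) := by
    rw [hS]
    exact Finset.mem_univ _
  simpa only [Finset.mem_insert, Finset.mem_singleton] using h1

include hm hσm hσ1 hX hcard ha in
theorem tri_cosets (x : X) : x ∈ sq X ∨ x * a⁻¹ ∈ sq X ∨ x * (σ a)⁻¹ ∈ sq X ∨ x * (σ (σ a))⁻¹ ∈ sq X := by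
  rcases tri_univ σ hm hσm hσ1 hX hcard a ha (x : X ⧸ sq X) with h1 | h1 | h1 | h1
  · exact Or.inl ((QuotientGroup.eq_one_iff x).mp h1)
  · exact Or.inr (Or.inl ((mk_eq_iff _ _).mp h1))
  · exact Or.inr (Or.inr (Or.inl ((mk_eq_iff _ _).mp h1)))
  · exact Or.inr (Or.inr (Or.inr ((mk_eq_iff _ _).mp h1)))

include hm hσm hσ1 hX hcard ha in
theorem tri_prod : a * σ a * (σ (σ a))⁻¹ ∈ sq X := by
  have hya : σ a * a⁻¹ ∉ sq X := no_fixed σ hm hσm hσ1 hX hcard a ha
  have hy : σ a ∉ sq X := fun h => ha ((map_mem_iff σ a).mp h)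
  rcases tri_cosets σ hm hσm hσ1 hX hcard a ha (a * σ a) with h | h | h | h
  · -- `a * y ∈ W`: then `y ≡ a`
    exfalso
    apply hya
    have h2 := (mk_eq_iff (σ a) a).mp (by
      have h3 : ((a * σ a : X) : X ⧸ sq X) = 1 := (QuotientGroup.eq_one_iff _).mpr h
      rw [QuotientGroup.mk_mul] at h3
      have h4 := eq_inv_of_mul_eq_one_right h3
      rw [h4]
      have h5 := quot_exp (a : X ⧸ sq X)
      rw [pow_two] at h5
      exact inv_eq_of_mul_eq_one_left h5)
    exact h2
  · exfalso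
    apply hy
    have e : σ a = a⁻¹ * (a * σ a * a⁻¹) * a := by group
    rw [e]
    exact (inferInstance : (sq X).Normal).conj_mem' _ h a
  · exfalso
    apply ha
    have e : a * σ a * (σ a)⁻¹ = a := by group
    rwa [e] at h
  · exact h

include hm hσm hσ1 hX hcard ha in
theorem tri_gen : closure {a, σ a} = ⊤ := by
  haveI : Fact (Nat.Prime 2) := ⟨Nat.prime_two⟩
  apply frattini_nongenerating
  rw [eq_top_iff]
  intro x _
  have hW := sq_le_frattini hX
  have hA : a ∈ closure {a, σ a} ⊔ frattini X :=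
    Subgroup.mem_sup_left (subset_closure (by simp))
  have hY : σ a ∈ closure {a, σ a} ⊔ frattini X :=
    Subgroup.mem_sup_left (subset_closure (by simp))
  have hU : σ (σ a) ∈ closure {a, σ a} ⊔ frattini X := by
    have h1 := tri_prod σ hm hσm hσ1 hX hcard a ha
    have e : σ (σ a) = (a * σ a * (σ (σ a))⁻¹)⁻¹ * (a * σ a) := by group
    rw [e]
    exact mul_mem (Subgroup.mem_sup_right (inv_mem (hW h1))) (mul_mem hA hY)
  have hc : ∀ c ∈ closure {a, σ a} ⊔ frattini X, x * c⁻¹ ∈ sq X → x ∈ closure {a, σ a} ⊔ frattini X := by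
    intro c hc h
    have e : x = (x * c⁻¹) * c := by group
    rw [e]
    exact mul_mem (Subgroup.mem_sup_right (hW h)) hc
  rcases tri_cosets σ hm hσm hσ1 hX hcard a ha x with h | h | h | h
  · exact Subgroup.mem_sup_right (hW h)
  · exact hc _ hA h
  · exact hc _ hY h
  · exact hc _ hU h

include hm hσm hσ1 hX hcard ha in
/-- No index two subgroup is acted on trivially. -/
theorem no_index_two (M : Subgroup X) (hM : M.index = 2) (h : ∀ x, σ x * x⁻¹ ∈ M) : False := by
  have hWM : sq X ≤ M := by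
    rw [sq, closure_le]
    rintro _ ⟨y, rfl⟩
    exact Subgroup.sq_mem_of_index_two hM y
  have h1 := hWM (tri_prod σ hm hσm hσ1 hX hcard a ha)
  have h2 := h a
  have h3 := h (σ a)
  have haM : a ∈ M := by
    have e : a = (a * σ a * (σ (σ a))⁻¹) * (σ (σ a) * (σ a)⁻¹) := by group
    rw [e]
    exact mul_mem h1 h3
  have hyM : σ a ∈ M := by
    have e : σ a = (σ a * a⁻¹) * a := by group
    rw [e]
    exact mul_mem h2 haM
  have htop : M = ⊤ := by
    rw [eq_top_iff, ← tri_gen σ hm hσm hσ1 hX hcard a ha, closure_le]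
    rintro x (rfl | rfl)
    · exact haM
    · exact hyM
  rw [htop, Subgroup.index_top] at hM
  omega

end Main

end CfsgLib.MetaAut
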