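import Cfsg.Agent.Lib.H3.MetaAut

set_option autoImplicit false

namespace CfsgLib.MetaAut

open Subgroup
open scoped commutatorElement

variable {X : Type*} [Group X] [Finite X]

section Central

variable (σ : MulAut X) {m : ℕ} (hm : Odd m) (hσm : σ ^ m = 1) (hσ1 : σ ≠ 1) (hX : IsPGroup 2 X)
variable (hcard : Nat.card (X ⧸ sq X) ≤ 4)
variable (a : X) (ha : a ∉ sq X) (hca : commutator X ≤ zpowers a)

omit [Finite X] in
theorem map_comm_mem (τ : MulAut X) {z : X} (hz : z ∈ commutator X) : τ z ∈ commutator X := by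
  have h : (commutator X).Characteristic := inferInstance
  exact (Subgroup.characteristic_iff_le_comap.mp h τ) hz

include hm hσm hX hca in
theorem fix_comm (z : X) (hz : z ∈ commutator X) : σ z = z := by
  haveI hcyc : IsCyclic (commutator X) :=
    isCyclic_of_injective (Subgroup.inclusion hca) (Subgroup.inclusion_injective hca)
  let b : MulAut (commutator X) :=
    { toFun := fun z => ⟨σ z.1, map_comm_mem σ z.2⟩
      invFun := fun z => ⟨σ⁻¹ z.1, map_comm_mem σ⁻¹ z.2⟩
      left_inv := fun z => Subtype.ext (by simp)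
      right_inv := fun z => Subtype.ext (by simp)
      map_mul' := fun x y => Subtype.ext (by simp) }
  have hb : ∀ k : ℕ, ∀ w : commutator X, ((b ^ k) w).1 = (σ ^ k) w.1 := by
    intro k
    induction k with
    | zero => intro w; rfl
    | succ k ih =>
      intro w
      rw [pow_succ', MulAut.mul_apply, pow_succ', MulAut.mul_apply, ← ih]
      rfl
  have hbm : b ^ m = 1 := by
    ext w
    rw [hb, hσm]
    rfl
  have hP : IsPGroup 2 (commutator X) := hX.to_subgroup _
  have h1 : b = 1 := CfsgLib.OOL.odd_elem_trivial b hm (CfsgLib.SylInter.isPGroup_mulAut_of_cyclic hP) hbm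
  have h2 : b ⟨z, hz⟩ = ⟨z, hz⟩ := by rw [h1]; rfl
  exact congrArg Subtype.val h2

include hm hσm hσ1 hX hcard ha hca in
theorem comm_central : commutator X ≤ center X := by
  haveI : Fact (Nat.Prime 2) := ⟨Nat.prime_two⟩
  have hC : centralizer (commutator X : Set X) = ⊤ := by
    by_contra hne
    obtain ⟨M, hM, hle⟩ := (eq_top_or_exists_le_coatom (centralizer (commutator X : Set X))).resolve_left hne
    have hi := CfsgLib.FGS.index_eq_of_isCoatom_of_isPGroup hX hM
    apply no_index_two σ hm hσm hσ1 hX hcard a ha M hi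
    intro x
    apply hle
    rw [mem_centralizer_iff]
    intro z hz
    have hz' : x⁻¹ * z * x ∈ commutator X := (inferInstance : (commutator X).Normal).conj_mem' z hz x
    have h1 := fix_comm σ hm hσm hX a hca _ hz'
    have h2 := fix_comm σ hm hσm hX a hca z hz
    rw [map_mul, map_mul, map_inv, h2] at h1
    -- `σ x⁻¹ * z * σ x = x⁻¹ * z * x`
    have h3 : σ x * x⁻¹ * z = z * (σ x * x⁻¹) := by
      calc σ x * x⁻¹ * z = σ x * (x⁻¹ * z * x) * x⁻¹ := by group
        _ = σ x * ((σ x)⁻¹ * z * σ x) * x⁻¹ := by rw [h1]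
        _ = z * (σ x * x⁻¹) := by group
    exact h3.symm
  intro z hz
  rw [mem_center_iff]
  intro g
  have h1 : g ∈ centralizer (commutator X : Set X) := by rw [hC]; trivial
  exact (mem_centralizer_iff.mp h1 z hz).symm

end Central

section Q

variable (a : X) (hcen : commutator X ≤ center X) (hca : commutator X ≤ zpowers a)

omit [Finite X] in
theorem comm_form_mem (x y : X) : y⁻¹ * x⁻¹ * y * x ∈ commutator X := by
  have h := Subgroup.commutator_mem_commutator (Subgroup.mem_top y⁻¹) (Subgroup.mem_top x⁻¹)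
  rw [commutatorElement_def] at h
  have e : y⁻¹ * x⁻¹ * y⁻¹⁻¹ * x⁻¹⁻¹ = y⁻¹ * x⁻¹ * y * x := by group
  rw [e] at h
  exact h

theorem exists_q (hX : IsPGroup 2 X) : ∃ n : ℕ, a ^ (2 ^ n) ∈ commutator X ∧
    ∀ k : ℕ, a ^ k ∈ commutator X → 2 ^ n ∣ k := by
  classical
  obtain ⟨l, hl⟩ := hX a
  have hex : ∃ q : ℕ, 0 < q ∧ a ^ q ∈ commutator X :=
    ⟨2 ^ l, by positivity, by rw [hl]; exact one_mem _⟩
  let q := Nat.find hex
  have hq := Nat.find_spec hex
  have hdvd : ∀ k : ℕ, a ^ k ∈ commutator X → q ∣ k := by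
    intro k hk
    have h1 : k % q < q := Nat.mod_lt _ hq.1
    by_contra hnd
    have h2 : 0 < k % q := Nat.pos_of_ne_zero (fun h => hnd (Nat.dvd_of_mod_eq_zero h))
    apply Nat.find_min hex h1
    refine ⟨h2, ?_⟩
    have h3 : a ^ k = (a ^ q) ^ (k / q) * a ^ (k % q) := by
      rw [← pow_mul, ← pow_add, Nat.div_add_mod]
    have h4 : a ^ (k % q) = ((a ^ q) ^ (k / q))⁻¹ * a ^ k := by
      rw [h3]; group
    rw [h4]
    exact mul_mem (inv_mem (pow_mem hq.2 _)) hk
  have h1 : q ∣ 2 ^ l := hdvd _ (by rw [hl]; exact one_mem _)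
  obtain ⟨n, -, hn⟩ := (Nat.dvd_prime_pow Nat.prime_two).1 h1
  refine ⟨n, ?_, ?_⟩
  · rw [← hn]
    exact hq.2
  · rw [← hn]
    exact hdvd

include hca in
omit [Finite X] in
theorem comm_eq_zpowers {q : ℕ} (hq : a ^ q ∈ commutator X)
    (hd : ∀ k : ℕ, a ^ k ∈ commutator X → q ∣ k) [Finite X] : commutator X = zpowers (a ^ q) := by
  apply le_antisymm
  · intro z hz
    have h1 := hca hz
    rw [← mem_powers_iff_mem_zpowers] at h1
    obtain ⟨k, rfl⟩ := h1
    have h2 : a ^ k ∈ commutator X := hz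
    obtain ⟨j, rfl⟩ := hd k h2
    show a ^ (q * j) ∈ _
    rw [pow_mul]
    exact pow_mem (mem_zpowers _) _
  · rw [zpowers_le]
    exact hq

variable (σ : MulAut X) {m : ℕ} (hm : Odd m) (hσm : σ ^ m = 1) (hσ1 : σ ≠ 1) (hX : IsPGroup 2 X)
variable (hcard : Nat.card (X ⧸ sq X) ≤ 4) (ha : a ∉ sq X)
variable {q : ℕ} (hq : a ^ q ∈ commutator X)

include hm hσm hX hca hq in
theorem pow_y : (σ a) ^ q = a ^ q := by
  rw [← map_pow, fix_comm σ hm hσm hX a hca _ hq]

include hm hσm hX hca hq in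
theorem pow_u : (σ (σ a)) ^ q = a ^ q := by
  rw [← map_pow, pow_y a hca σ hm hσm hX hq, fix_comm σ hm hσm hX a hca _ hq]

include hm hσm hσ1 hX hcard ha hca hq hcen in
theorem pow_mem_comm (x : X) : x ^ q ∈ commutator X := by
  have hx : x ∈ closure {a, σ a} := by
    rw [tri_gen σ hm hσm hσ1 hX hcard a ha]
    trivial
  induction hx using Subgroup.closure_induction with
  | mem x hx =>
    rcases hx with rfl | rfl
    · exact hq
    · rw [pow_y a hca σ hm hσm hX hq]
      exact hq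
  | one => rw [one_pow]; exact one_mem _
  | mul x y _ _ hx hy =>
    rw [CfsgLib.Trans.mul_pow_central (hcen (comm_form_mem x y))]
    exact mul_mem (mul_mem hx hy) (pow_mem (comm_form_mem x y) _)
  | inv x _ hx =>
    rw [inv_pow]
    exact inv_mem hx

include hm hσm hσ1 hcard ha hca hq hcen in
theorem not_large (hX : IsPGroup 2 X) (n : ℕ) (hn : 2 ≤ n) (hq' : q = 2 ^ n) (hcz : commutator X = zpowers (a ^ q))
    (hg : a ^ q ≠ 1) : False := by
  have hT := pow_mem_comm a hcen hca σ hm hσm hσ1 hX hcard ha hq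
  set g := a ^ q with hgdef
  let D : Subgroup X := zpowers (g ^ 2)
  have hsqD : ∀ z ∈ commutator X, z ^ 2 ∈ D := by
    intro z hz
    rw [hcz] at hz
    obtain ⟨i, rfl⟩ := hz
    show (g ^ i) ^ 2 ∈ zpowers (g ^ 2)
    rw [← zpow_natCast (g ^ i), ← zpow_mul, mul_comm, zpow_mul]
    exact zpow_mem (by simpa using mem_zpowers (g ^ 2)) _
  have hC : ∃ s, q.choose 2 = 2 * s := by
    obtain ⟨t, ht⟩ : ∃ t, 2 ^ n = 4 * t := ⟨2 ^ (n - 2), by
      have : n = (n - 2) + 2 := by omega
      conv_lhs => rw [this, pow_add]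
      ring⟩
    refine ⟨t * (q - 1), ?_⟩
    rw [Nat.choose_two_right, hq', ht]
    apply Nat.div_eq_of_eq_mul_left (by norm_num)
    ring
  obtain ⟨s, hs⟩ := hC
  have hd : ∀ x y : X, ∃ d ∈ D, (x * y) ^ q = x ^ q * y ^ q * d := by
    intro x y
    refine ⟨((y⁻¹ * x⁻¹ * y * x) ^ s) ^ 2, hsqD _ (pow_mem (comm_form_mem x y) _), ?_⟩
    rw [CfsgLib.Trans.mul_pow_central (hcen (comm_form_mem x y)), hs, mul_comm 2 s, pow_mul]
  let M : Subgroup X :=
    { carrier := {x | x ^ q ∈ D}
      one_mem' := by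
        show (1 : X) ^ q ∈ D
        rw [one_pow]; exact one_mem _
      mul_mem' := by
        intro x y hx hy
        obtain ⟨d, hdD, hd2⟩ := hd x y
        show (x * y) ^ q ∈ D
        rw [hd2]
        exact mul_mem (mul_mem hx hy) hdD
      inv_mem' := by
        intro x hx
        show x⁻¹ ^ q ∈ D
        rw [inv_pow]
        exact inv_mem hx }
  have hWM : sq X ≤ M := by
    rw [sq, closure_le]
    rintro _ ⟨y, rfl⟩
    show (y ^ 2) ^ q ∈ D
    rw [← pow_mul, mul_comm, pow_mul]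
    exact hsqD _ (hT y)
  have h1 : (a * σ a * (σ (σ a))⁻¹) ^ q ∈ D := hWM (tri_prod σ hm hσm hσ1 hX hcard a ha)
  obtain ⟨d₁, hd₁, e₁⟩ := hd a (σ a)
  obtain ⟨d₂, hd₂, e₂⟩ := hd (a * σ a) (σ (σ a))⁻¹
  rw [e₂, e₁, inv_pow, pow_u a hca σ hm hσm hX hq, pow_y a hca σ hm hσm hX hq] at h1
  have hgc : ∀ x : X, g * x = x * g := fun x => (mem_center_iff.mp (hcen hq) x).symm
  have h2 : a ^ q * a ^ q * d₁ * g⁻¹ * d₂ = g * d₁ * d₂ := by
    have : g * g * d₁ * g⁻¹ = g * d₁ := by
      calc g * g * d₁ * g⁻¹ = g * (g * d₁) * g⁻¹ := by group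
        _ = g * (d₁ * g) * g⁻¹ := by rw [hgc d₁]
        _ = g * d₁ := by group
    rw [this]
  rw [h2] at h1
  have h3 : g ∈ D := by
    have e : g = (g * d₁ * d₂) * d₂⁻¹ * d₁⁻¹ := by group
    rw [e]
    exact mul_mem (mul_mem h1 (inv_mem hd₂)) (inv_mem hd₁)
  obtain ⟨k, hk⟩ := h3
  have hk' : g ^ (2 * k - 1) = 1 := by
    have h4 : (g ^ 2) ^ k = g := hk
    rw [← zpow_natCast g 2, ← zpow_mul] at h4
    have h5 : g ^ ((2 : ℤ) * k) = g := by simpa using h4
    rw [zpow_sub, zpow_one, h5, mul_inv_cancel]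
  obtain ⟨l, hl⟩ := hX g
  have h6 : orderOf g ∣ 2 ^ l := orderOf_dvd_of_pow_eq_one hl
  obtain ⟨j, -, hj⟩ := (Nat.dvd_prime_pow Nat.prime_two).1 h6
  have h7 : ((orderOf g : ℕ) : ℤ) ∣ 2 * k - 1 := orderOf_dvd_iff_zpow_eq_one.mpr hk'
  rcases Nat.eq_zero_or_pos j with rfl | hjp
  · rw [pow_zero] at hj
    exact hg (orderOf_eq_one_iff.mp hj)
  · have h8 : (2 : ℤ) ∣ ((orderOf g : ℕ) : ℤ) := by
      rw [hj]
      push_cast
      exact dvd_pow_self _ hjp.ne'
    have h9 := h8.trans h7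
    omega

include hm hσm hσ1 hcard ha hca hq hcen in
theorem small_case (hX : IsPGroup 2 X) (hq2 : q = 2) (hcz : commutator X = zpowers (a ^ q))
    (hg : a ^ q ≠ 1) : Nonempty (X ≃* QuaternionGroup 2) := by
  subst hq2
  have hT := pow_mem_comm a hcen hca σ hm hσm hσ1 hX hcard ha hq
  set g := a ^ 2 with hgdef
  have hcc : ∀ x y : X, ⁅x, y⁆ ^ 2 = 1 := by
    intro x y
    have hc : ⁅x, y⁆ ∈ center X := hcen (Subgroup.commutator_mem_commutator (Subgroup.mem_top x) (Subgroup.mem_top y))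
    set c := ⁅x, y⁆ with hcdef
    have h1 : x * y * x⁻¹ = c * y := by
      rw [hcdef, commutatorElement_def]
      group
    have hcz' : ∀ w : X, c * w = w * c := fun w => (mem_center_iff.mp hc w).symm
    have h2 : x ^ 2 * y * (x ^ 2)⁻¹ = c ^ 2 * y := by
      calc x ^ 2 * y * (x ^ 2)⁻¹ = x * (x * y * x⁻¹) * x⁻¹ := by
            rw [pow_two]
            group
        _ = x * (c * y) * x⁻¹ := by rw [h1]
        _ = c * (x * y * x⁻¹) := by
          rw [← mul_assoc x c y, ← hcz' x]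
          group
        _ = c * (c * y) := by rw [h1]
        _ = c ^ 2 * y := by rw [pow_two, mul_assoc]
    have h3 : x ^ 2 * y = y * x ^ 2 := (mem_center_iff.mp (hcen (hT x)) y).symm
    rw [h3, mul_assoc, mul_inv_cancel, mul_one] at h2
    exact (mul_eq_right.mp h2.symm)
  let O : Subgroup X :=
    { carrier := {z | z ∈ center X ∧ z ^ 2 = 1}
      one_mem' := ⟨one_mem _, one_pow _⟩
      mul_mem' := by
        intro u v hu hv
        refine ⟨mul_mem hu.1 hv.1, ?_⟩
        have hcm : Commute u v := (mem_center_iff.mp hu.1 v).symm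
        rw [hcm.mul_pow, hu.2, hv.2, one_mul]
      inv_mem' := by
        intro u hu
        exact ⟨inv_mem hu.1, by rw [inv_pow, hu.2, inv_one]⟩ }
  have hXO : commutator X ≤ O := by
    rw [_root_.commutator_def, Subgroup.commutator_le]
    intro x _ y _
    exact ⟨hcen (Subgroup.commutator_mem_commutator (Subgroup.mem_top x) (Subgroup.mem_top y)), hcc x y⟩
  have hzz : ∀ z ∈ commutator X, z ^ 2 = 1 := fun z hz => (hXO hz).2
  have hg2 : g ^ 2 = 1 := hzz g hq
  have htwo : ∀ z ∈ commutator X, z = 1 ∨ z = g := by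
    intro z hz
    rw [hcz] at hz
    obtain ⟨i, rfl⟩ := hz
    rcases Int.even_or_odd' i with ⟨k, rfl | rfl⟩
    · left
      show g ^ (2 * k) = 1
      rw [zpow_mul]
      have : g ^ (2 : ℤ) = 1 := by exact_mod_cast hg2
      rw [this, one_zpow]
    · right
      show g ^ (2 * k + 1) = g
      rw [zpow_add, zpow_mul, zpow_one]
      have : g ^ (2 : ℤ) = 1 := by exact_mod_cast hg2
      rw [this, one_zpow, one_mul]
  have hWc : sq X ≤ commutator X := by
    rw [sq, closure_le]
    rintro _ ⟨y, rfl⟩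
    exact hT y
  have hcos : ∀ x c : X, c ^ 2 = g → x * c⁻¹ ∈ sq X → x ^ 2 = g := by
    intro x c hc hx
    have hw := hWc hx
    set w := x * c⁻¹ with hwdef
    have e : x = w * c := by rw [hwdef]; group
    rw [e]
    have hcm : Commute w c := (mem_center_iff.mp (hcen hw) c).symm
    rw [hcm.mul_pow, hzz w hw, one_mul, hc]
  have hy2 : (σ a) ^ 2 = g := pow_y a hca σ hm hσm hX hq
  have hu2 : (σ (σ a)) ^ 2 = g := pow_u a hca σ hm hσm hX hq
  have hinv : ∀ x : X, x ^ 2 = 1 → x ≠ 1 → x = g := by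
    intro x hx hx1
    rcases tri_cosets σ hm hσm hσ1 hX hcard a ha x with h | h | h | h
    · exact (htwo x (hWc h)).resolve_left hx1
    · exact absurd (hx.symm.trans (hcos x a rfl h)) hg.symm
    · exact absurd (hx.symm.trans (hcos x _ hy2 h)) hg.symm
    · exact absurd (hx.symm.trans (hcos x _ hu2 h)) hg.symm
  have huniq : ∀ x y : X, x ^ 2 = 1 → y ^ 2 = 1 → x ≠ 1 → y ≠ 1 → x = y := by
    intro x y hx hy hx1 hy1
    rw [hinv x hx hx1, hinv y hy hy1]
  exact (CfsgLib.OOL.aut_odd_of_unique_invol hX huniq σ m hm hσm hσ1).2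

theorem cyc_equiv {G : Type*} [Group G] (h : IsCyclic G) (N : ℕ) (hN : Nat.card G = N) :
    Nonempty (Multiplicative (ZMod N) ≃* G) := by
  subst hN
  exact ⟨zmodCyclicMulEquiv h⟩

include hm hσm hσ1 hcard ha hca hq hcen in
theorem abelian_case (hX : IsPGroup 2 X) (n : ℕ) (hq' : q = 2 ^ n) (hd : ∀ k : ℕ, a ^ k ∈ commutator X → q ∣ k)
    (hcz : commutator X = zpowers (a ^ q)) (hg : a ^ q = 1) :
    Nonempty (X ≃* Multiplicative (ZMod (2 ^ n)) × Multiplicative (ZMod (2 ^ n))) := by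
  classical
  haveI : Fact (Nat.Prime 2) := ⟨Nat.prime_two⟩
  have hbot : commutator X = ⊥ := by rw [hcz, hg, zpowers_one_eq_bot]
  have hT := pow_mem_comm a hcen hca σ hm hσm hσ1 hX hcard ha hq
  have hall : ∀ x : X, x ^ q = 1 := by
    intro x
    have := hT x
    rwa [hbot, Subgroup.mem_bot] at this
  have hcomm : ∀ x y : X, Commute x y := by
    intro x y
    have h1 : ⁅x, y⁆ ∈ commutator X := Subgroup.commutator_mem_commutator (Subgroup.mem_top x) (Subgroup.mem_top y)
    rw [hbot, Subgroup.mem_bot] at h1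
    exact commutatorElement_eq_one_iff_commute.mp h1
  have hn0 : n ≠ 0 := by
    rintro rfl
    apply ha
    rw [hq', pow_zero, pow_one] at hg
    rw [hg]
    exact one_mem _
  obtain ⟨r, hr⟩ : ∃ r, n = r + 1 := ⟨n - 1, by omega⟩
  have hq2 : q = 2 * 2 ^ r := by rw [hq', hr, pow_succ]; ring
  set R := 2 ^ r with hR
  have hRpos : 0 < R := by positivity
  have hoa : orderOf a = q := Nat.dvd_antisymm (orderOf_dvd_of_pow_eq_one hg)
    (hd _ (by rw [pow_orderOf_eq_one]; exact one_mem _))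
  have hoy : orderOf (σ a) = q := by rw [MulEquiv.orderOf_eq, hoa]
  have hou : orderOf (σ (σ a)) = q := by rw [MulEquiv.orderOf_eq, hoy]
  have hWr : ∀ w ∈ sq X, w ^ R = 1 := by
    intro w hw
    induction hw using Subgroup.closure_induction with
    | mem x hx =>
      obtain ⟨y, rfl⟩ := hx
      rw [← pow_mul, ← hq2]
      exact hall y
    | one => exact one_pow _
    | mul x y _ _ hx hy => rw [(hcomm x y).mul_pow, hx, hy, one_mul]
    | inv x _ hx => rw [inv_pow, hx, inv_one]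
  have hinvol : ∀ c : X, orderOf c = q → ∀ z ∈ zpowers c, z ^ 2 = 1 → z ≠ 1 → z = c ^ R := by
    intro c hc z hz hz2 hz1
    rw [← mem_powers_iff_mem_zpowers] at hz
    obtain ⟨k, rfl⟩ := hz
    change c ^ k = c ^ R
    change (c ^ k) ^ 2 = 1 at hz2
    change c ^ k ≠ 1 at hz1
    rw [← pow_mul] at hz2
    have h1 : q ∣ k * 2 := by
      rw [← hc]
      exact orderOf_dvd_of_pow_eq_one hz2
    have h2 : R ∣ k := by
      rw [hq2, mul_comm] at h1
      exact Nat.dvd_of_mul_dvd_mul_right (by norm_num) h1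
    obtain ⟨s, rfl⟩ := h2
    have hcR : (c ^ R) ^ 2 = 1 := by
      rw [← pow_mul, mul_comm, ← hq2]
      exact hall c
    rcases Nat.even_or_odd' s with ⟨t, rfl | rfl⟩
    · exfalso
      apply hz1
      rw [pow_mul, pow_mul, hcR, one_pow]
    · rw [pow_mul, pow_succ, pow_mul, hcR, one_pow, one_mul]
  have hinter : ∀ z, z ∈ zpowers a → z ∈ zpowers (σ a) → z = 1 := by
    intro z hza hzy
    by_contra hz1
    obtain ⟨l, hl⟩ := hX z
    obtain ⟨e, -, he⟩ := (Nat.dvd_prime_pow Nat.prime_two).1 (orderOf_dvd_of_pow_eq_one hl)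
    have he0 : e ≠ 0 := by
      rintro rfl
      rw [pow_zero] at he
      exact hz1 (orderOf_eq_one_iff.mp he)
    obtain ⟨e', rfl⟩ : ∃ e', e = e' + 1 := ⟨e - 1, by omega⟩
    have h1 : z ^ (2 ^ e') ≠ 1 := by
      apply pow_ne_one_of_lt_orderOf (by positivity)
      rw [he, pow_succ]
      have : 0 < 2 ^ e' := by positivity
      omega
    have h2 : (z ^ (2 ^ e')) ^ 2 = 1 := by
      rw [← pow_mul, ← pow_succ, ← he]
      exact pow_orderOf_eq_one z
    have h3 := hinvol a hoa _ (pow_mem hza _) h2 h1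
    have h4 := hinvol (σ a) hoy _ (pow_mem hzy _) h2 h1
    have h5 := hWr _ (tri_prod σ hm hσm hσ1 hX hcard a ha)
    rw [(hcomm _ _).mul_pow, (hcomm _ _).mul_pow, inv_pow, ← h3, ← h4] at h5
    have h6 : (σ (σ a)) ^ R = 1 := by
      rw [pow_two] at h2
      rw [h2, one_mul, inv_eq_one] at h5
      exact h5
    have h7 : (σ (σ a)) ^ R ≠ 1 := by
      apply pow_ne_one_of_lt_orderOf hRpos.ne'
      rw [hou, hq2]
      omega
    exact h7 h6
  let A : Subgroup X := zpowers a
  let B : Subgroup X := zpowers (σ a)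
  let f : A × B →* X := MonoidHom.noncommCoprod A.subtype B.subtype (fun x y => hcomm _ _)
  have hfa : ∀ x : A, ∀ y : B, f (x, y) = x.1 * y.1 := fun x y => rfl
  have hinj : Function.Injective f := by
    rw [injective_iff_map_eq_one]
    rintro ⟨x, y⟩ hxy
    rw [hfa] at hxy
    have h1 : x.1 = y.1⁻¹ := eq_inv_of_mul_eq_one_left hxy
    have h2 : x.1 = 1 := hinter _ x.2 (by rw [h1]; exact inv_mem y.2)
    have h3 : y.1 = 1 := by
      rw [h2, one_mul] at hxy
      exact hxy
    exact Prod.ext (Subtype.ext h2) (Subtype.ext h3)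
  have hsurj : Function.Surjective f := by
    rw [← MonoidHom.range_eq_top, eq_top_iff, ← tri_gen σ hm hσm hσ1 hX hcard a ha, closure_le]
    rintro x (rfl | rfl)
    · exact ⟨(⟨x, mem_zpowers x⟩, 1), by rw [hfa]; simp⟩
    · exact ⟨(1, ⟨_, mem_zpowers _⟩), by rw [hfa]; simp⟩
  have hcA : Nat.card A = 2 ^ n := by
    rw [Nat.card_zpowers, hoa, hq']
  have hcB : Nat.card B = 2 ^ n := by
    rw [Nat.card_zpowers, hoy, hq']
  obtain ⟨e₁⟩ := cyc_equiv (G := A) inferInstance (2 ^ n) hcA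
  obtain ⟨e₂⟩ := cyc_equiv (G := B) inferInstance (2 ^ n) hcB
  exact ⟨(MulEquiv.ofBijective f ⟨hinj, hsurj⟩).symm.trans (MulEquiv.prodCongr e₁.symm e₂.symm)⟩

end Q

section Final

theorem card_quot_le (a b : X) (hgen : closure {a, b} = ⊤) : Nat.card (X ⧸ sq X) ≤ 4 := by
  let aA : X ⧸ sq X := a
  let bB : X ⧸ sq X := b
  haveI hn : (zpowers bB).Normal := by
    refine ⟨fun n hn g => ?_⟩
    rw [quot_comm g n, mul_assoc, mul_inv_cancel, mul_one]
    exact hn
  have key : ∀ x ∈ closure {a, b}, (x : X ⧸ sq X) ∈ zpowers aA ⊔ zpowers bB := by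
    intro x hx
    induction hx using Subgroup.closure_induction with
    | mem x hx =>
      rcases hx with rfl | rfl
      · exact Subgroup.mem_sup_left (mem_zpowers _)
      · exact Subgroup.mem_sup_right (mem_zpowers _)
    | one => exact one_mem _
    | mul x y _ _ hx hy =>
      rw [QuotientGroup.mk_mul]
      exact mul_mem hx hy
    | inv x _ hx =>
      rw [QuotientGroup.mk_inv]
      exact inv_mem hx
  have htop : zpowers aA ⊔ zpowers bB = ⊤ := by
    rw [eq_top_iff]
    intro q _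
    obtain ⟨x, rfl⟩ := QuotientGroup.mk_surjective q
    exact key x (by rw [hgen]; trivial)
  have h1 := CfsgLib.Solv.card_sup_dvd_mul (zpowers aA) (zpowers bB)
  rw [htop, Subgroup.card_top] at h1
  have h2 : ∀ c : X ⧸ sq X, Nat.card (zpowers c) ≤ 2 := by
    intro c
    rw [Nat.card_zpowers]
    exact Nat.le_of_dvd (by norm_num) (orderOf_dvd_of_pow_eq_one (quot_exp c))
  have h3 := Nat.le_of_dvd (Nat.mul_pos Nat.card_pos Nat.card_pos) h1
  have h4 := Nat.mul_le_mul (h2 aA) (h2 bB)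
  omega

end Final

theorem main (hX : IsPGroup 2 X) (hm : Cfsg.IsMetacyclic X) (hA : ¬ IsPGroup 2 (MulAut X)) :
    Nonempty (X ≃* QuaternionGroup 2) ∨
      ∃ n : ℕ, Nonempty (X ≃* Multiplicative (ZMod (2 ^ n)) × Multiplicative (ZMod (2 ^ n))) := by
  classical
  haveI : Fact (Nat.Prime 2) := ⟨Nat.prime_two⟩
  -- an automorphism of odd order
  obtain ⟨σ, m, hmo, hσm, hσ1⟩ : ∃ (σ : MulAut X) (m : ℕ), Odd m ∧ σ ^ m = 1 ∧ σ ≠ 1 := by
    unfold IsPGroup at hA
    push Not at hA
    obtain ⟨τ, hτ⟩ := hA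
    have ho : orderOf τ ≠ 0 := (orderOf_pos τ).ne'
    obtain ⟨k, m, hmo, hkm⟩ := Nat.exists_eq_two_pow_mul_odd ho
    refine ⟨τ ^ (2 ^ k), m, hmo, ?_, hτ k⟩
    rw [← pow_mul, ← hkm, pow_orderOf_eq_one]
  obtain ⟨N, hN, hNc, hQc⟩ := hm
  obtain ⟨a₀, ha₀⟩ := hNc
  obtain ⟨bB, hbB⟩ := hQc
  obtain ⟨b, rfl⟩ := QuotientGroup.mk_surjective bB
  set a : X := a₀.1 with ha
  have hNa : N = zpowers a := by
    apply le_antisymm
    · intro x hx
      obtain ⟨i, hi⟩ := ha₀ ⟨x, hx⟩
      refine ⟨i, ?_⟩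
      have := congrArg Subtype.val hi
      simpa using this
    · rw [zpowers_le]
      exact a₀.2
  have hgen : closure {a, b} = ⊤ := by
    rw [eq_top_iff]
    intro x _
    obtain ⟨i, hi⟩ := hbB (x : X ⧸ N)
    have h1 : ((b ^ i : X) : X ⧸ N) = x := hi
    rw [QuotientGroup.eq] at h1
    rw [hNa] at h1
    have h2 : (b ^ i)⁻¹ * x ∈ closure {a, b} := by
      have h3 : zpowers a ≤ closure {a, b} := by
        rw [zpowers_le]
        exact subset_closure (by simp)
      exact h3 h1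
    have e : x = b ^ i * ((b ^ i)⁻¹ * x) := by group
    rw [e]
    exact mul_mem (zpow_mem (subset_closure (by simp)) _) h2
  have hca : commutator X ≤ zpowers a := by
    rw [_root_.commutator_def, Subgroup.commutator_le]
    intro x _ y _
    rw [← hNa, ← QuotientGroup.eq_one_iff, commutatorElement_def]
    obtain ⟨i, hi⟩ := hbB (x : X ⧸ N)
    obtain ⟨j, hj⟩ := hbB (y : X ⧸ N)
    simp only [QuotientGroup.mk_mul, QuotientGroup.mk_inv]
    rw [← hi, ← hj]
    have hc : Commute ((b : X ⧸ N) ^ i) ((b : X ⧸ N) ^ j) := (Commute.refl _).zpow_zpow i j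
    have : ((b : X ⧸ N) ^ i) * ((b : X ⧸ N) ^ j) * ((b : X ⧸ N) ^ i)⁻¹ * ((b : X ⧸ N) ^ j)⁻¹ = 1 := by
      rw [hc.eq]
      group
    simpa using this
  have hcard := card_quot_le a b hgen
  -- `a` is not in `sq X`
  have ha' : a ∉ sq X := by
    intro haW
    have h1 : closure ({b} : Set X) = ⊤ := by
      apply frattini_nongenerating
      rw [eq_top_iff, ← hgen, closure_le]
      rintro x (rfl | rfl)
      · exact Subgroup.mem_sup_right (sq_le_frattini hX haW)
      · exact Subgroup.mem_sup_left (subset_closure rfl)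
    haveI hcyc : IsCyclic X := by
      refine ⟨b, fun x => ?_⟩
      have : x ∈ closure ({b} : Set X) := by rw [h1]; trivial
      rw [← zpowers_eq_closure] at this
      obtain ⟨i, hi⟩ := this
      exact ⟨i, hi⟩
    exact hσ1 (CfsgLib.OOL.odd_elem_trivial σ hmo (CfsgLib.SylInter.isPGroup_mulAut_of_cyclic hX) hσm)
  have hcen := comm_central σ hmo hσm hσ1 hX hcard a ha' hca
  obtain ⟨n, hq, hd⟩ := exists_q a hX
  have hcz := comm_eq_zpowers a hca hq hd
  by_cases hg : a ^ (2 ^ n) = 1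
  · right
    exact ⟨n, abelian_case a hcen hca σ hmo hσm hσ1 hcard ha' hq hX n rfl hd hcz hg⟩
  · left
    have hn1 : n = 1 ∨ 2 ≤ n := by
      rcases Nat.lt_or_ge n 2 with h | h
      · interval_cases n
        · exfalso
          apply ha'
          have hWc : commutator X ≤ sq X := by
            rw [_root_.commutator_def, Subgroup.commutator_le]
            intro x _ y _
            exact comm_mem_sq x y
          have h1 : a ^ (2 ^ 0) ∈ sq X := hWc hq
          simpa using h1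
        · exact Or.inl rfl
      · exact Or.inr h
    rcases hn1 with rfl | h2
    · exact small_case a hcen hca σ hmo hσm hσ1 hcard ha' hq hX rfl hcz hg
    · exact (not_large a hcen hca σ hmo hσm hσ1 hcard ha' hq hX n h2 rfl hcz hg).elim

end CfsgLib.MetaAut
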