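import Cfsg.Agent.Lib.H3.FourConn
import Cfsg.Agent.Lib.PLocal.Misc
import Cfsg.Agent.Lib.Local.Isolated
import Cfsg.Prelude.Def_PLocal

/-! # A weak replacement theorem for metabelian `p`-groups. -/

set_option autoImplicit false
set_option linter.unusedSectionVars false
set_option linter.unusedVariables false

namespace CfsgLib.MetaRepl

open Subgroup Cfsg
open scoped commutatorElement

lemma sym_aux {G : Type*} [Group G] {u v c b : G} (h1 : (u * c) * (v * b) = (v * b) * (u * c)) (h2 : b * u = u * b)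
    (h3 : v * u = u * v) (h4 : c * b = b * c) : c * v = v * c := by
  have key : u * (c * v) * b = u * (v * c) * b := by
    calc u * (c * v) * b = (u * c) * (v * b) := by group
      _ = (v * b) * (u * c) := h1
      _ = v * (b * u) * c := by group
      _ = v * (u * b) * c := by rw [h2]
      _ = (v * u) * (b * c) := by group
      _ = (u * v) * (c * b) := by rw [h3, h4]
      _ = u * (v * c) * b := by group
  exact mul_left_cancel (mul_right_cancel key)

lemma index_le_of_rel {X Y : Type*} [Group X] [Group Y] (K : Subgroup X) (L : Subgroup Y) [Finite (Y ⧸ L)] (f : X → Y)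
    (h : ∀ a b, a⁻¹ * b ∈ K ↔ (f a)⁻¹ * f b ∈ L) : K.index ≤ L.index := by
  let q : X ⧸ K → Y ⧸ L := Quotient.map' f (by
    intro a b hab
    rw [QuotientGroup.leftRel_apply] at hab ⊢
    exact (h a b).1 hab)
  have hq : Function.Injective q := by
    intro a b
    induction a using QuotientGroup.induction_on with | _ a => ?_
    induction b using QuotientGroup.induction_on with | _ b => ?_
    intro hab
    have h1 : ((f a : Y) : Y ⧸ L) = ((f b : Y) : Y ⧸ L) := hab
    rw [QuotientGroup.eq] at h1 ⊢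
    exact (h a b).2 h1
  exact Nat.card_le_card_of_injective q hq

variable {S : Type*} [Group S] [Finite S]

/-- The subgroup generated by the commutators `[x, b]`. -/
def commSet (x : S) (B : Subgroup S) : Subgroup S := closure {y | ∃ b ∈ B, y = ⁅x, b⁆}

theorem replace_step (C : Subgroup S) (hCc : ∀ a ∈ C, ∀ b ∈ C, a * b = b * a) (hCd : ∀ g h : S, ⁅g, h⁆ ∈ C)
    (B : Subgroup S) (hB : ∀ a ∈ B, ∀ b ∈ B, a * b = b * a) (x : S)
    (hDn : commSet x B ≤ normalizer (B : Set S)) :
    ∃ B' : Subgroup S, (∀ a ∈ B', ∀ b ∈ B', a * b = b * a) ∧ Nat.card B ≤ Nat.card B' ∧ B' ≤ B ⊔ commSet x B ∧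
      B ⊓ C ≤ B' ∧ commSet x B ≤ B' := by
  set D := commSet x B with hD
  have hDC : D ≤ C := by
    rw [hD, commSet, closure_le]
    rintro _ ⟨b, hb, rfl⟩
    exact hCd x b
  have hDc : ∀ a ∈ D, ∀ b ∈ D, a * b = b * a := fun a ha b hb => hCc a (hDC ha) b (hDC hb)
  have hgen : ∀ b ∈ B, ⁅x, b⁆ ∈ D := fun b hb => subset_closure ⟨b, hb, rfl⟩
  set E := D ⊓ B with hE
  set K₁ : Subgroup S := B ⊓ B.comap (MulAut.conj x).toMonoidHom with hK₁
  have hK₁m : ∀ c, c ∈ K₁ ↔ c ∈ B ∧ x * c * x⁻¹ ∈ B := fun c => Iff.rfl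
  set B₀ : Subgroup S := B ⊓ centralizer (D : Set S) with hB₀
  have hK₁B₀ : K₁ ≤ B₀ := by
    intro c hc
    obtain ⟨hcB, hcx⟩ := (hK₁m c).1 hc
    refine ⟨hcB, ?_⟩
    -- `c` commutes with the generators
    have h1 : D ≤ centralizer ({c} : Set S) := by
      rw [hD, commSet, closure_le]
      rintro _ ⟨b, hb, rfl⟩
      rw [SetLike.mem_coe, mem_centralizer_iff]
      intro z hz
      rw [Set.mem_singleton_iff] at hz
      rw [hz]
      set u := ⁅x, c⁆ with hu
      set v := ⁅x, b⁆ with hv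
      have hu1 : u * c = x * c * x⁻¹ := by rw [hu, commutatorElement_def]; group
      have hv1 : v * b = x * b * x⁻¹ := by rw [hv, commutatorElement_def]; group
      have huB : u ∈ B := by
        rw [hu, commutatorElement_def]
        exact B.mul_mem hcx (B.inv_mem hcB)
      apply sym_aux (u := u) (b := b)
      · rw [hu1, hv1]
        have : c * b = b * c := hB c hcB b hb
        calc x * c * x⁻¹ * (x * b * x⁻¹) = x * (c * b) * x⁻¹ := by group
          _ = x * (b * c) * x⁻¹ := by rw [this]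
          _ = x * b * x⁻¹ * (x * c * x⁻¹) := by group
      · exact hB b hb u huB
      · exact hCc v (hCd x b) u (hCd x c)
      · exact hB c hcB b hb
    refine mem_centralizer_iff.2 (fun d hd => ?_)
    exact (mem_centralizer_iff.1 (h1 hd) c rfl).symm
  -- counting
  have hcount : K₁.relIndex B ≤ E.relIndex D := by
    rw [Subgroup.relIndex, Subgroup.relIndex]
    apply index_le_of_rel (K₁.subgroupOf B) (E.subgroupOf D)
      (fun b => (⟨⁅x, (b : S)⁆, hgen b b.2⟩ : ↥D))
    rintro ⟨a, ha⟩ ⟨b, hb⟩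
    rw [Subgroup.mem_subgroupOf, Subgroup.mem_subgroupOf]
    show a⁻¹ * b ∈ K₁ ↔ (⁅x, a⁆)⁻¹ * ⁅x, b⁆ ∈ E
    have hab : a⁻¹ * b ∈ B := B.mul_mem (B.inv_mem ha) hb
    have heq : (⁅x, a⁆)⁻¹ * ⁅x, b⁆ = a * (x * (a⁻¹ * b) * x⁻¹) * b⁻¹ := by
      rw [commutatorElement_def, commutatorElement_def]
      group
    have hDm : (⁅x, a⁆)⁻¹ * ⁅x, b⁆ ∈ D := D.mul_mem (D.inv_mem (hgen a ha)) (hgen b hb)
    constructor
    · intro h
      refine ⟨hDm, ?_⟩
      rw [heq]
      exact B.mul_mem (B.mul_mem ha ((hK₁m _).1 h).2) (B.inv_mem hb)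
    · rintro ⟨-, h⟩
      refine (hK₁m _).2 ⟨hab, ?_⟩
      rw [heq] at h
      have h2 : x * (a⁻¹ * b) * x⁻¹ = a⁻¹ * (a * (x * (a⁻¹ * b) * x⁻¹) * b⁻¹) * b := by group
      rw [h2]
      exact B.mul_mem (B.mul_mem (B.inv_mem ha) h) hb
  -- the commuting product
  have hcomm0 : ∀ a ∈ B₀, ∀ b ∈ D, a * b = b * a := by
    intro a ha b hb
    exact (mem_centralizer_iff.1 ha.2 b hb).symm
  have hB₀D : B₀ ⊓ D = E := by
    apply le_antisymm
    · rintro y ⟨h1, h2⟩
      exact ⟨h2, h1.1⟩
    · rintro y ⟨h1, h2⟩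
      refine ⟨⟨h2, ?_⟩, h1⟩
      refine mem_centralizer_iff.2 (fun d hd => ?_)
      exact hDc d hd y h1
  have hB₀B : B₀ ≤ B := inf_le_left
  have hcardB' : Nat.card (B₀ ⊔ D : Subgroup S) * Nat.card E = Nat.card B₀ * Nat.card D := by
    have := CfsgLib.FourConn.card_sup_mul_inf (A := B₀) (B := D) (CfsgLib.FourConn.le_norm_of_comm hcomm0)
    rwa [hB₀D] at this
  have hED : E ≤ D := inf_le_left
  have h1 : Nat.card E * E.relIndex D = Nat.card D := by
    have h := Subgroup.card_mul_index (E.subgroupOf D)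
    rw [show Nat.card (E.subgroupOf D) = Nat.card E from
      Nat.card_congr (Subgroup.subgroupOfEquivOfLe hED).toEquiv] at h
    exact h
  have h2 : Nat.card B₀ * B₀.relIndex B = Nat.card B := by
    have h := Subgroup.card_mul_index (B₀.subgroupOf B)
    rw [show Nat.card (B₀.subgroupOf B) = Nat.card B₀ from
      Nat.card_congr (Subgroup.subgroupOfEquivOfLe hB₀B).toEquiv] at h
    exact h
  have h3 : B₀.relIndex B ≤ K₁.relIndex B := by
    apply Nat.le_of_dvd
    · exact Nat.pos_of_ne_zero (by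
        rw [Subgroup.relIndex]
        exact Subgroup.index_ne_zero_of_finite)
    · exact Subgroup.relIndex_dvd_of_le_left B hK₁B₀
  have hEpos : 0 < Nat.card E := Nat.card_pos
  have hfin : Nat.card B ≤ Nat.card (B₀ ⊔ D : Subgroup S) := by
    apply Nat.le_of_mul_le_mul_right _ hEpos
    rw [hcardB', ← h2, ← h1]
    have := Nat.mul_le_mul_left (Nat.card E * Nat.card B₀) (h3.trans hcount)
    calc Nat.card B₀ * B₀.relIndex B * Nat.card E = Nat.card E * Nat.card B₀ * B₀.relIndex B := by ring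
      _ ≤ Nat.card E * Nat.card B₀ * E.relIndex D := this
      _ = Nat.card B₀ * (Nat.card E * E.relIndex D) := by ring
  refine ⟨B₀ ⊔ D, ?_, hfin, sup_le_sup_right hB₀B D, ?_, le_sup_right⟩
  · apply CfsgLib.PLocal.comm_sup
    · intro a ha b hb
      exact hB a ha.1 b hb.1
    · exact hDc
    · exact hcomm0
  · rintro y ⟨hyB, hyC⟩
    apply mem_sup_left
    refine ⟨hyB, ?_⟩
    refine mem_centralizer_iff.2 (fun d hd => ?_)
    exact hCc d (hDC hd) y hyC

variable {p : ℕ} [hp : Fact p.Prime]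

theorem weak_replacement (hS : IsPGroup p S) (hmeta : IsMulCommutative ↥(commutator S))
    (A : Subgroup S) (hA : A ∈ maxAbelianSubgroups S) :
    ∃ B ∈ maxAbelianSubgroups S, B.Normal ∧ B ≤ normalClosure (A : Set S) := by
  set C := commutator S with hC
  have hCc : ∀ a ∈ C, ∀ b ∈ C, a * b = b * a := by
    intro a ha b hb
    have := hmeta.is_comm.comm ⟨a, ha⟩ ⟨b, hb⟩
    exact congrArg Subtype.val this
  have hCd : ∀ g h : S, ⁅g, h⁆ ∈ C := by
    intro g h
    rw [hC, _root_.commutator_def]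
    exact Subgroup.commutator_mem_commutator (mem_top g) (mem_top h)
  set K := normalClosure (A : Set S) with hK
  haveI hKn : K.Normal := Subgroup.normalClosure_normal
  haveI hCn : C.Normal := by rw [hC]; infer_instance
  have hAK : A ≤ K := subset_normalClosure
  let F : Set (Subgroup S) := {B | B ∈ maxAbelianSubgroups S ∧ B ≤ K}
  have hFne : F.Nonempty := ⟨A, hA, hAK⟩
  obtain ⟨B, hBF, hBmax⟩ := Set.exists_max_image F (fun B => Nat.card ↥(B ⊓ C)) (Set.toFinite F) hFne
  obtain ⟨hBm, hBK⟩ := hBF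
  have hBc : ∀ a ∈ B, ∀ b ∈ B, a * b = b * a := by
    intro a ha b hb
    have := hBm.1.is_comm.comm ⟨a, ha⟩ ⟨b, hb⟩
    exact congrArg Subtype.val this
  -- the key claim
  have hkey : ∀ x : S, commSet x B ≤ normalizer (B : Set S) → commSet x B ≤ B := by
    intro x hx
    obtain ⟨B', hB'c, hB'card, hB'le, hB'1, hB'2⟩ := replace_step C hCc hCd B hBc x hx
    have hDK : commSet x B ≤ K := by
      rw [commSet, closure_le]
      rintro _ ⟨b, hb, rfl⟩
      rw [commutatorElement_def]
      exact K.mul_mem (hKn.conj_mem _ (hBK hb) x) (K.inv_mem (hBK hb))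
    have hDC : commSet x B ≤ C := by
      rw [commSet, closure_le]
      rintro _ ⟨b, hb, rfl⟩
      exact hCd x b
    have hB'comm : IsMulCommutative ↥B' :=
      ⟨⟨fun a b => Subtype.ext (hB'c a a.2 b b.2)⟩⟩
    have hB'F : B' ∈ F := by
      refine ⟨⟨hB'comm, ?_⟩, hB'le.trans (sup_le hBK hDK)⟩
      intro X hX
      exact (hBm.2 X hX).trans hB'card
    have hle := hBmax B' hB'F
    have hsub : B ⊓ C ≤ B' ⊓ C := le_inf hB'1 inf_le_right
    have heq : B ⊓ C = B' ⊓ C := Subgroup.eq_of_le_of_card_ge hsub hle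
    intro d hd
    have : d ∈ B' ⊓ C := ⟨hB'2 hd, hDC hd⟩
    rw [← heq] at this
    exact this.1
  -- consequence: `x` normalizes `B`
  have hconseq : ∀ x : S, commSet x B ≤ normalizer (B : Set S) → x ∈ normalizer (B : Set S) := by
    intro x hx
    have h1 := hkey x hx
    apply Subgroup.mem_normalizer_fintype
    intro b hb
    have h2 : ⁅x, b⁆ ∈ B := h1 (subset_closure ⟨b, hb, rfl⟩)
    rw [commutatorElement_def] at h2
    have : x * b * x⁻¹ = x * b * x⁻¹ * b⁻¹ * b := by group
    rw [SetLike.mem_coe, this]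
    exact B.mul_mem h2 hb
  -- Step 1: `C` normalizes `B`
  have hstep1 : C ≤ normalizer (B : Set S) := by
    by_contra hnot
    set M := C ⊔ B with hM
    set H := normalizer (B : Set S) ⊓ M with hH
    have hHM : H < M := by
      refine lt_of_le_of_ne inf_le_right ?_
      intro h
      apply hnot
      have : M ≤ normalizer (B : Set S) := by
        rw [← h]; exact inf_le_left
      exact le_sup_left.trans this
    obtain ⟨y, hyM, hyH, hyn⟩ := CfsgLib.Local.exists_normalizing (IsPGroup.to_subgroup hS M) hHM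
    have hyM' := hyM
    rw [hM, ← SetLike.mem_coe, Subgroup.normal_mul] at hyM'
    obtain ⟨c, hc, b', hb', rfl⟩ := Set.mem_mul.1 hyM'
    have hb'M : b' ∈ M := mem_sup_right hb'
    have hb'n : b' ∈ normalizer (B : Set S) := Subgroup.le_normalizer hb'
    have hb'H : b' ∈ H := ⟨hb'n, hb'M⟩
    have hcH : c ∉ H := by
      intro h
      exact hyH (H.mul_mem h hb'H)
    have hcM : c ∈ M := mem_sup_left hc
    have hcn : c ∈ normalizer (H : Set S) := by
      have h2 : c = (c * b') * b'⁻¹ := by group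
      rw [h2]
      exact Subgroup.mul_mem _ hyn (Subgroup.inv_mem _ (Subgroup.le_normalizer hb'H))
    have hD : commSet c B ≤ normalizer (B : Set S) := by
      rw [commSet, closure_le]
      rintro _ ⟨b, hb, rfl⟩
      have hbH : b ∈ H := ⟨Subgroup.le_normalizer hb, mem_sup_right hb⟩
      rw [commutatorElement_def]
      have h1 : c * b * c⁻¹ ∈ H := (Subgroup.mem_normalizer_iff.1 hcn b).1 hbH
      exact (H.mul_mem h1 (H.inv_mem hbH)).1
    have h3 := hconseq c hD
    exact hcH ⟨h3, hcM⟩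
  refine ⟨B, hBm, ?_, hBK⟩
  rw [← Subgroup.normalizer_eq_top_iff, eq_top_iff]
  intro x _
  apply hconseq
  rw [commSet, closure_le]
  rintro _ ⟨b, hb, rfl⟩
  exact hstep1 (hCd x b)

end CfsgLib.MetaRepl
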