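import Mathlib
import Cfsg.Agent.Lib.Solv.Core
import Cfsg.Agent.Lib.Solv.CoprimeSylow
import Cfsg.Agent.Lib.Solv.SZ
import Cfsg.Agent.Lib.H3.FourConn
import Cfsg.Agent.Lib.PLocal.CoreLift
import Cfsg.Agent.Lib.Solv.PGroup
import Cfsg.Prelude.Def_LocalStructure

/-! # Minimal non-`p`-closed groups: the non-simple ones -/

set_option autoImplicit false

namespace CfsgLib.MinClosed

open Subgroup

section irr

variable {M : Type*} [AddCommGroup M] [Finite M]

/-- The kernel of an endomorphism, as an additive subgroup. -/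
def endKer {M : Type*} [AddCommGroup M] (f : AddMonoid.End M) : AddSubgroup M where
  carrier := {x | f x = 0}
  zero_mem' := map_zero f
  add_mem' := fun {a b} ha hb => by
    show f (a + b) = 0
    rw [map_add, show f a = 0 from ha, show f b = 0 from hb, add_zero]
  neg_mem' := fun {a} ha => by
    show f (-a) = 0
    rw [map_neg, show f a = 0 from ha, neg_zero]

theorem mem_endKer {M : Type*} [AddCommGroup M] (f : AddMonoid.End M) (x : M) :
    x ∈ endKer f ↔ f x = 0 := Iff.rfl

/-- An irreducible module for a cyclic group of prime order `p` over `F_q` has dimension the order of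
`q` modulo `p`. -/
theorem card_irred (q p : ℕ) [hq : Fact q.Prime] [hp : Fact p.Prime] (hqp : q ≠ p)
    (hqM : ∀ x : M, q • x = 0) (T : AddMonoid.End M) (hTp : T ^ p = 1) (hT1 : T ≠ 1)
    (hirr : ∀ B : AddSubgroup M, (∀ x ∈ B, T x ∈ B) → B = ⊥ ∨ B = ⊤) [hne : Nontrivial M] :
    Nat.card M = q ^ orderOf (q : ZMod p) := by
  classical
  have hq0 : (q : ZMod p) ≠ 0 := by
    intro h
    have := (ZMod.natCast_eq_zero_iff q p).1 h
    exact hqp ((Nat.prime_dvd_prime_iff_eq hp.out hq.out).1 this).symm
  set e := orderOf (q : ZMod p) with he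
  have hqe : (q : ZMod p) ^ e = 1 := pow_orderOf_eq_one _
  have hepos : 0 < e := by
    apply orderOf_pos_iff.2
    apply isOfFinOrder_iff_pow_eq_one.2
    exact ⟨p - 1, by have := hp.out.two_le; omega, ZMod.pow_card_sub_one_eq_one hq0⟩
  -- `T^{q^e} = T`
  have hTq : T ^ (q ^ e) = T := by
    have h1 : ((q ^ e : ℕ) : ZMod p) = ((1 : ℕ) : ZMod p) := by
      push_cast; exact hqe
    have h2 := (ZMod.natCast_eq_natCast_iff' _ _ _).1 h1
    have h3 : (q ^ e) % p = 1 % p := h2
    rw [pow_eq_pow_mod _ hTp, h3, ← pow_eq_pow_mod _ hTp, pow_one]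
  -- the algebra generated by `T`
  haveI : Finite (AddMonoid.End M) := Finite.of_injective (fun f : AddMonoid.End M => (f : M → M))
    (fun a b h => DFunLike.coe_injective h)
  set R : Subring (AddMonoid.End M) := Subring.closure {T} with hR
  letI crR : CommRing R := Subring.closureCommRingOfComm (s := {T}) (by
    rintro x rfl y rfl; rfl)
  have hTR : T ∈ R := Subring.subset_closure rfl
  set Tt : R := ⟨T, hTR⟩ with hTt
  haveI : Nontrivial (AddMonoid.End M) := by
    refine ⟨⟨0, 1, fun h => ?_⟩⟩
    obtain ⟨a, ha⟩ := exists_ne (0 : M)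
    have := congrArg (fun f : AddMonoid.End M => f a) h
    exact ha this.symm
  haveI hRnt : Nontrivial R := by
    refine ⟨⟨0, 1, fun h => ?_⟩⟩
    have := congrArg Subtype.val h
    exact zero_ne_one this
  have hqR : ((q : ℕ) : R) = 0 := by
    apply Subtype.ext
    show ((q : ℕ) : AddMonoid.End M) = 0
    ext x
    show ((q : ℕ) : AddMonoid.End M) x = 0
    rw [AddMonoid.End.natCast_apply, hqM]
  haveI hchar : CharP R q := (CharP.charP_iff_prime_eq_zero hq.out).2 hqR
  have hfrob : ∀ r : R, r ^ (q ^ e) = r := by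
    rintro ⟨r, hr⟩
    induction hr using Subring.closure_induction with
    | mem x hx =>
      rw [Set.mem_singleton_iff] at hx
      subst hx
      apply Subtype.ext
      exact hTq
    | zero =>
      rw [show (⟨0, Subring.zero_mem _⟩ : R) = 0 from rfl, zero_pow (pow_pos hq.out.pos e).ne']
    | one =>
      rw [show (⟨1, Subring.one_mem _⟩ : R) = 1 from rfl, one_pow]
    | add x y hx hy ihx ihy =>
      have e1 : (⟨x + y, Subring.add_mem _ hx hy⟩ : R) = ⟨x, hx⟩ + ⟨y, hy⟩ := rfl
      rw [e1, add_pow_char_pow, ihx, ihy]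
    | neg x hx ih =>
      have e1 : (⟨-x, Subring.neg_mem _ hx⟩ : R) = -⟨x, hx⟩ := rfl
      rw [e1, neg_pow, neg_one_pow_char_pow R q e, ih, neg_one_mul]
    | mul x y hx hy ihx ihy =>
      have e1 : (⟨x * y, Subring.mul_mem _ hx hy⟩ : R) = ⟨x, hx⟩ * ⟨y, hy⟩ := rfl
      rw [e1, mul_pow, ihx, ihy]
  -- nonzero elements are injective
  have hinj : ∀ r : R, r ≠ 0 → Function.Injective (r.1 : M → M) := by
    intro r hr
    have hcomm : ∀ x : M, r.1 (T x) = T (r.1 x) := by
      intro x
      have := congrArg (fun t : R => (t.1 : AddMonoid.End M) x) (mul_comm r Tt)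
      exact this
    have h1 := hirr (endKer r.1) (by
      intro x hx
      rw [mem_endKer] at hx ⊢
      show r.1 (T x) = 0
      rw [hcomm]
      have : r.1 x = 0 := hx
      rw [this, map_zero])
    rcases h1 with h1 | h1
    · intro a b hab
      have h2 : a - b ∈ endKer r.1 := by
        rw [mem_endKer, map_sub]
        exact sub_eq_zero.2 hab
      rw [h1, AddSubgroup.mem_bot] at h2
      exact sub_eq_zero.1 h2
    · exfalso
      apply hr
      apply Subtype.ext
      ext x
      have : x ∈ endKer r.1 := by rw [h1]; trivial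
      exact this
  haveI hdom : IsDomain R := by
    haveI : NoZeroDivisors R := by
      refine ⟨fun {r s} hrs => ?_⟩
      by_contra hcon
      push Not at hcon
      obtain ⟨hr, hs⟩ := hcon
      apply hs
      apply Subtype.ext
      ext x
      have h1 : r.1 (s.1 x) = 0 := by
        have := congrArg (fun t : R => (t.1 : AddMonoid.End M) x) hrs
        exact this
      have h2 := hinj r hr (a₁ := s.1 x) (a₂ := 0) (by rw [h1, map_zero])
      exact h2
    exact NoZeroDivisors.to_isDomain R
  -- the bound on `R`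
  haveI : Fintype R := Fintype.ofFinite R
  have hq2 : 1 < q ^ e := Nat.one_lt_pow hepos.ne' hq.out.one_lt
  have hRcard : Nat.card R ≤ q ^ e := by
    set P : Polynomial R := Polynomial.X ^ (q ^ e) - Polynomial.X with hP
    have hdeg : P.natDegree = q ^ e := by
      rw [hP, Polynomial.natDegree_sub_eq_left_of_natDegree_lt] <;> simp [Polynomial.natDegree_X_pow, hq2]
    have hP0 : P ≠ 0 := by
      intro h
      rw [h, Polynomial.natDegree_zero] at hdeg
      omega
    have hsub : (Finset.univ : Finset R).val ⊆ P.roots := by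
      intro r _
      rw [Polynomial.mem_roots hP0, Polynomial.IsRoot, hP]
      simp [hfrob]
    have := Polynomial.card_le_degree_of_subset_roots hsub
    rw [hdeg, Finset.card_univ] at this
    rwa [Nat.card_eq_fintype_card]
  -- surjection
  obtain ⟨a, ha⟩ := exists_ne (0 : M)
  have hMcard : Nat.card M ≤ Nat.card R := by
    let f : R →+ M :=
      { toFun := fun r => r.1 a
        map_zero' := rfl
        map_add' := fun _ _ => rfl }
    have hf := hirr f.range (by
      rintro _ ⟨r, rfl⟩
      exact ⟨Tt * r, rfl⟩)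
    have hfa : a ∈ f.range := ⟨1, rfl⟩
    rcases hf with hf | hf
    · rw [hf, AddSubgroup.mem_bot] at hfa
      exact absurd hfa ha
    · exact Nat.card_le_card_of_surjective f (AddMonoidHom.range_eq_top.1 hf)
  -- lower bound
  have hMp : IsPGroup q (Multiplicative M) := by
    intro g
    refine ⟨1, ?_⟩
    rw [pow_one]
    exact hqM (Multiplicative.toAdd g)
  obtain ⟨d, hd⟩ := IsPGroup.iff_card.1 hMp
  have hdM : Nat.card M = q ^ d := hd
  let σ : Equiv.Perm M :=
    { toFun := T
      invFun := ⇑(T ^ (p - 1))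
      left_inv := fun x => by
        have : (T ^ (p - 1) * T) = 1 := by
          rw [← pow_succ]
          have h2 := hp.out.pos
          rw [Nat.sub_add_cancel h2, hTp]
        exact congrArg (fun f : AddMonoid.End M => f x) this
      right_inv := fun x => by
        have : (T * T ^ (p - 1)) = 1 := by
          rw [← pow_succ']
          have h2 := hp.out.pos
          rw [Nat.sub_add_cancel h2, hTp]
        exact congrArg (fun f : AddMonoid.End M => f x) this }
  have hσk : ∀ (k : ℕ) (x : M), (σ ^ k) x = (T ^ k) x := by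
    intro k x
    induction k with
    | zero => rfl
    | succ k ih =>
      rw [pow_succ', Equiv.Perm.mul_apply, ih, pow_succ']
      rfl
  have hσp : σ ^ p = 1 := by
    ext x
    rw [hσk, hTp]
    rfl
  have hPg : IsPGroup p (zpowers σ) := by
    rintro ⟨g, k, rfl⟩
    refine ⟨1, Subtype.ext ?_⟩
    show ((σ ^ k) ^ (p ^ 1) : Equiv.Perm M) = 1
    rw [pow_one, ← zpow_natCast, zpow_comm, zpow_natCast, hσp, one_zpow]
  have hmod := hPg.card_modEq_card_fixedPoints M
  have hfix : MulAction.fixedPoints (zpowers σ) M = {0} := by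
    ext x
    rw [Set.mem_singleton_iff]
    constructor
    · intro hx
      have h1 : T x = x := hx ⟨σ, mem_zpowers σ⟩
      have hB := hirr (endKer (T - 1)) (by
        intro y hy
        rw [mem_endKer] at hy ⊢
        have hy' : T y - y = 0 := hy
        have e1 : T y = y := sub_eq_zero.1 hy'
        show T (T y) - T y = 0
        rw [e1, e1, sub_self])
      rcases hB with hB | hB
      · have : x ∈ endKer (T - 1) := by
          rw [mem_endKer]
          show T x - x = 0
          rw [h1, sub_self]
        rw [hB] at this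
        exact this
      · exfalso
        apply hT1
        ext y
        have : y ∈ endKer (T - 1) := by rw [hB]; trivial
        have h3 : T y - y = 0 := this
        exact sub_eq_zero.1 h3
    · rintro rfl
      rintro ⟨g, k, rfl⟩
      show (σ ^ k) 0 = 0
      have : ∀ m : ℤ, (σ ^ m) 0 = 0 := by
        intro m
        induction m using Int.induction_on with
        | zero => rfl
        | succ i ih =>
          rw [zpow_add_one, Equiv.Perm.mul_apply]
          show (σ ^ (i : ℤ)) (T 0) = 0
          rw [map_zero]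
          exact ih
        | pred i ih =>
          rw [zpow_sub_one, Equiv.Perm.mul_apply]
          have h5 : σ⁻¹ 0 = 0 := by
            rw [Equiv.Perm.inv_eq_iff_eq]
            exact (map_zero T).symm
          rw [h5]
          exact ih
      exact this k
  have hcardfix : Nat.card (MulAction.fixedPoints (zpowers σ) M) = 1 := by
    rw [hfix]
    simp
  rw [hcardfix, hdM] at hmod
  have hz : (q : ZMod p) ^ d = 1 := by
    have := (ZMod.natCast_eq_natCast_iff _ _ _).2 hmod
    push_cast at this
    exact this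
  have hed : e ∣ d := orderOf_dvd_of_pow_eq_one hz
  have hd0 : d ≠ 0 := by
    intro h0
    rw [h0, pow_zero] at hdM
    exact (Finite.one_lt_card_iff_nontrivial.2 hne).ne' hdM
  have hle : e ≤ d := Nat.le_of_dvd (Nat.pos_of_ne_zero hd0) hed
  apply le_antisymm (hMcard.trans hRcard)
  rw [hdM]
  exact Nat.pow_le_pow_right hq.out.pos hle

end irr

section normal

variable {G : Type*} [Group G] [Finite G]

/-- The order of a minimal normal elementary abelian subgroup of prime index. -/
theorem card_of_min_normal {p q : ℕ} [hp : Fact p.Prime] [hq : Fact q.Prime] (hqp : q ≠ p)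
    (A : Subgroup G) [hAn : A.Normal] (hAel : Cfsg.IsElementaryAbelian q A) (hidx : A.index = p)
    (hnt : A ≠ ⊥) (hmin : ∀ B : Subgroup G, B.Normal → B ≤ A → B = ⊥ ∨ B = A)
    (x : G) (hxA : x ∉ A) (hact : ∃ a ∈ A, x * a * x⁻¹ ≠ a) :
    Nat.card A = q ^ orderOf (q : ZMod p) := by
  classical
  obtain ⟨hAc, hAq⟩ := hAel
  have hmc : ∀ a b : A, a * b = b * a := fun a b => mul_comm' a b
  letI cA : CommGroup A := { (inferInstance : Group A) with mul_comm := hmc }
  let c : A →* A := (MulAut.conjNormal x : A ≃* A).toMonoidHom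
  have hc : ∀ a : A, ((c a : A) : G) = x * a * x⁻¹ := fun a => by
    show ((MulAut.conjNormal x a : A) : G) = _
    rw [MulAut.conjNormal_apply]
  let T : AddMonoid.End (Additive A) := MonoidHom.toAdditive c
  have hT : ∀ a : A, (T (Additive.ofMul a)) = Additive.ofMul (c a) := fun a => rfl
  have hTk : ∀ (k : ℕ) (a : A), (((T ^ k) (Additive.ofMul a)).toMul : G) = x ^ k * a * (x ^ k)⁻¹ := by
    intro k
    induction k with
    | zero => intro a; simp
    | succ k ih =>
      intro a
      rw [pow_succ']
      show (((T ((T ^ k) (Additive.ofMul a)))).toMul : G) = _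
      have e1 : T ((T ^ k) (Additive.ofMul a)) =
          Additive.ofMul (c ((T ^ k) (Additive.ofMul a)).toMul) := rfl
      rw [e1]
      show ((c ((T ^ k) (Additive.ofMul a)).toMul : A) : G) = _
      rw [hc, ih, pow_succ']
      group
  have hxp : x ^ p ∈ A := by
    have := Subgroup.pow_index_mem A x
    rwa [hidx] at this
  have hTp : T ^ p = 1 := by
    refine DFunLike.ext _ _ (fun a => ?_)
    have h1 := hTk p a.toMul
    refine (Additive.toMul (α := A)).injective (Subtype.ext ?_)
    refine h1.trans ?_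
    have := hmc ⟨x ^ p, hxp⟩ a.toMul
    have h2 : x ^ p * (a.toMul : G) = a.toMul * x ^ p := congrArg Subtype.val this
    rw [h2, mul_assoc, mul_inv_cancel, mul_one]
    rfl
  have hT1 : T ≠ 1 := by
    intro h
    obtain ⟨a, ha, hne⟩ := hact
    apply hne
    have h1 := hT (⟨a, ha⟩ : A)
    rw [h] at h1
    have h2 : Additive.ofMul (⟨a, ha⟩ : A) = Additive.ofMul (c ⟨a, ha⟩) := h1
    have h3 : (⟨a, ha⟩ : A) = c ⟨a, ha⟩ := h2
    have h4 := congrArg Subtype.val h3
    rw [hc] at h4
    exact h4.symm
  have hirr : ∀ B : AddSubgroup (Additive A), (∀ y ∈ B, T y ∈ B) → B = ⊥ ∨ B = ⊤ := by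
    intro B hB
    let B' : Subgroup G :=
      { carrier := {g | ∃ h : g ∈ A, Additive.ofMul (⟨g, h⟩ : A) ∈ B}
        mul_mem' := by
          rintro a b ⟨ha, ha'⟩ ⟨hb, hb'⟩
          exact ⟨A.mul_mem ha hb, B.add_mem ha' hb'⟩
        one_mem' := ⟨A.one_mem, B.zero_mem⟩
        inv_mem' := by
          rintro a ⟨ha, ha'⟩
          exact ⟨A.inv_mem ha, B.neg_mem ha'⟩ }
    have hB'A : B' ≤ A := fun g hg => hg.1
    have hB'x : x ∈ normalizer (B' : Set G) := by
      apply CfsgLib.PLocal.mem_normalizer_of_conj_le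
      rintro b ⟨hb, hb'⟩
      have h1 := hB _ hb'
      refine ⟨hAn.conj_mem b hb x, ?_⟩
      exact h1
    have hB'A2 : A ≤ normalizer (B' : Set G) := by
      intro a ha
      apply CfsgLib.PLocal.mem_normalizer_of_conj_le
      intro b hb
      have h1 : a * b = b * a := congrArg Subtype.val (hmc ⟨a, ha⟩ ⟨b, hB'A hb⟩)
      rw [h1, mul_inv_cancel_right]
      exact hb
    have hcoat : IsCoatom A := by
      have := hp.out
      rw [← hidx] at this
      exact CfsgLib.Solv.isCoatom_of_index_prime A this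
    have hnorm : normalizer (B' : Set G) = ⊤ := by
      apply hcoat.2
      exact lt_of_le_of_ne hB'A2 (fun h => hxA (by rw [h]; exact hB'x))
    have hB'n : B'.Normal := Subgroup.normalizer_eq_top_iff.1 hnorm
    rcases hmin B' hB'n hB'A with h | h
    · left
      rw [eq_bot_iff]
      intro y hy
      have h1 : (y.toMul : G) ∈ B' := ⟨y.toMul.2, hy⟩
      rw [h, Subgroup.mem_bot] at h1
      rw [AddSubgroup.mem_bot]
      apply Additive.toMul.injective
      exact Subtype.ext h1
    · right
      rw [eq_top_iff]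
      intro y _
      have h1 : (y.toMul : G) ∈ B' := by rw [h]; exact y.toMul.2
      obtain ⟨_, h2⟩ := h1
      exact h2
  have hqM : ∀ y : Additive A, q • y = 0 := by
    intro y
    apply Additive.toMul.injective
    apply Subtype.ext
    show ((y.toMul ^ q : A) : G) = 1
    exact hAq _ y.toMul.2
  haveI hnt2 : Nontrivial (Additive A) := by
    have : Nontrivial A := (Subgroup.nontrivial_iff_ne_bot A).2 hnt
    exact inferInstance
  have := card_irred q p hqp hqM T hTp hT1 hirr
  exact this

/-- The structural core for minimal non-`p`-closed and minimal non-`p`-exponent-closed groups. -/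
theorem core_structure {p : ℕ} [hp : Fact p.Prime]
    (A : Subgroup G) [hAn : A.Normal] (hA0 : A ≠ ⊥)
    (hmin : ∀ B : Subgroup G, B.Normal → B ≤ A → B = ⊥ ∨ B = A)
    (hAp : ¬ p ∣ Nat.card A) (P : Subgroup G) (hPp : IsPGroup p P) (hAP : A ⊔ P = ⊤)
    (hnc : ¬ P ≤ centralizer (A : Set G))
    (hO : ∀ N : Subgroup G, N.Normal → IsPGroup p N → N = ⊥)
    (hcomm : ∀ U : Subgroup G, IsPGroup p U → ∀ R : Subgroup G, R ≤ A →
      U ≤ normalizer (R : Set G) → R ⊔ U ≠ ⊤ → U ≤ centralizer (R : Set G)) :
    ∃ q : ℕ, q.Prime ∧ q ≠ p ∧ Nat.card G = p * q ^ orderOf (q : ZMod p) ∧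
      Nat.card A = q ^ orderOf (q : ZMod p) ∧ Cfsg.IsElementaryAbelian q A := by
  classical
  have hcopU : ∀ U : Subgroup G, IsPGroup p U → (Nat.card U).Coprime (Nat.card A) := by
    intro U hU
    obtain ⟨k, hk⟩ := IsPGroup.iff_card.1 hU
    rw [hk]
    exact Nat.Coprime.pow_left k ((Nat.Prime.coprime_iff_not_dvd hp.out).2 hAp)
  have hcop := hcopU P hPp
  have hPsolv : Group.IsSolvable P := by
    haveI : Group.IsNilpotent P := hPp.isNilpotent
    infer_instance
  have hinfU : ∀ U : Subgroup G, IsPGroup p U → U ⊓ A = ⊥ := by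
    intro U hU
    exact Subgroup.inf_eq_bot_of_coprime (hcopU U hU)
  have hcardU : ∀ U : Subgroup G, IsPGroup p U → Nat.card (U ⊔ A : Subgroup G) = Nat.card U * Nat.card A := by
    intro U hU
    have h1 := CfsgLib.Solv.card_sup_mul_card_inf U A
    rw [hinfU U hU, Subgroup.card_bot, mul_one] at h1
    exact h1
  have hG : Nat.card G = Nat.card P * Nat.card A := by
    have h1 := hcardU P hPp
    rw [sup_comm, hAP, Subgroup.card_top] at h1
    exact h1
  have hPA : P ≤ normalizer (A : Set G) := by
    rw [Subgroup.normalizer_eq_top_iff.2 hAn]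
    exact le_top
  -- find the prime
  have hex : ∃ q : ℕ, q.Prime ∧ ∃ R : Subgroup G, CfsgLib.Solv.IsSylowIn q R A ∧
      P ≤ normalizer (R : Set G) ∧ R ⊔ P = ⊤ := by
    by_contra hcon
    push Not at hcon
    apply hnc
    set C : Subgroup G := A ⊓ centralizer (P : Set G) with hC
    have hrel : C.relIndex A = 1 := by
      by_contra hne
      obtain ⟨q, hq, hqd⟩ := Nat.exists_prime_and_dvd hne
      haveI : Fact q.Prime := ⟨hq⟩
      obtain ⟨R, hR, hRn⟩ := CfsgLib.Solv.exists_invariant_sylow (p := q) P A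
        (by rw [Subgroup.normalizer_eq_top_iff.2 hAn]; exact le_top) hcop (Or.inl hPsolv)
      have hne2 := hcon q hq R hR hRn
      have h1 := hcomm P hPp R hR.1 hRn hne2
      have hRC : R ≤ C := le_inf hR.1 ((Subgroup.le_centralizer_iff).1 h1)
      have h2 : C.relIndex A ∣ R.relIndex A := Subgroup.relIndex_dvd_of_le_left A hRC
      exact hR.2.2 (hqd.trans h2)
    have hAC : A ≤ C := Subgroup.relIndex_eq_one.1 hrel
    exact (Subgroup.le_centralizer_iff).1 (hAC.trans inf_le_right)
  obtain ⟨q, hq, R, hR, hPR, hRP⟩ := hex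
  haveI : Fact q.Prime := ⟨hq⟩
  -- `A` is a `q`-group
  have hRA : R = A := by
    have h1 := CfsgLib.FourConn.card_sup_mul_inf hPR
    have h2 : P ⊓ R = ⊥ := by
      rw [eq_bot_iff, ← hinfU P hPp]
      exact inf_le_inf_left _ hR.1
    rw [h2, Subgroup.card_bot, mul_one, sup_comm, hRP, Subgroup.card_top, hG] at h1
    have hPpos : 0 < Nat.card P := Nat.card_pos
    have h3 : Nat.card A = Nat.card R := Nat.eq_of_mul_eq_mul_left hPpos h1
    exact Subgroup.eq_of_le_of_card_ge hR.1 h3.le
  have hAq : IsPGroup q A := by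
    rw [← hRA]
    exact hR.2.1
  -- solvability
  haveI hsA : Group.IsSolvable A := by
    haveI : Group.IsNilpotent A := hAq.isNilpotent
    infer_instance
  have hsurj : Function.Surjective ((QuotientGroup.mk' A).comp P.subtype) := by
    intro z
    obtain ⟨g, rfl⟩ := QuotientGroup.mk'_surjective A z
    have hg : g ∈ P ⊔ A := by
      rw [sup_comm, hAP]
      trivial
    obtain ⟨u, hu, a, ha, rfl⟩ := Subgroup.mem_sup_of_normal_right.1 hg
    refine ⟨⟨u, hu⟩, ?_⟩
    show (QuotientGroup.mk' A) u = (QuotientGroup.mk' A) (u * a)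
    have h1 : (QuotientGroup.mk' A) a = 1 := (QuotientGroup.eq_one_iff a).2 ha
    rw [map_mul, h1, mul_one]
  haveI hsQ : Group.IsSolvable (G ⧸ A) := solvable_of_surjective hsurj
  haveI hsG : Group.IsSolvable G := solvable_of_ker_le_range A.subtype (QuotientGroup.mk' A) (by
    rw [QuotientGroup.ker_mk', Subgroup.range_subtype])
  obtain ⟨hAc, r, hr, hAr⟩ := CfsgLib.Solv.minimal_normal_elementary A hA0 hmin
  haveI : Fact r.Prime := ⟨hr⟩
  have hrp : r ≠ p := by
    rintro rfl
    obtain ⟨x, hx, hx1⟩ : ∃ x ∈ A, x ≠ (1 : G) := by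
      obtain ⟨a, ha⟩ := (Subgroup.ne_bot_iff_exists_ne_one (H := A)).1 hA0
      exact ⟨a.1, a.2, fun h => ha (Subtype.ext h)⟩
    apply hAp
    have h1 : orderOf (⟨x, hx⟩ : A) = r := by
      apply orderOf_eq_prime
      · exact Subtype.ext (hAr x hx)
      · exact fun h => hx1 (congrArg Subtype.val h)
    rw [← h1]
    exact orderOf_dvd_natCard _
  -- the centralizer in `P`
  have hCn : (P ⊓ centralizer (A : Set G)).Normal := by
    apply Subgroup.normalizer_eq_top_iff.1
    rw [eq_top_iff, ← hAP]
    apply sup_le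
    · intro a ha
      apply CfsgLib.PLocal.mem_normalizer_of_conj_le
      rintro c ⟨hc1, hc2⟩
      have h3 : c * a = a * c := Subgroup.mem_centralizer_iff.1 hc2 a ha |>.symm
      have h4 : a * c * a⁻¹ = c := by rw [← h3, mul_inv_cancel_right]
      rw [h4]
      exact ⟨hc1, hc2⟩
    · intro u hu
      apply CfsgLib.PLocal.mem_normalizer_of_conj_le
      rintro c ⟨hc1, hc2⟩
      refine ⟨P.mul_mem (P.mul_mem hu hc1) (P.inv_mem hu), ?_⟩
      haveI : (centralizer (A : Set G)).Normal := Subgroup.normal_centralizer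
      exact ‹(centralizer (A : Set G)).Normal›.conj_mem c hc2 u
  have hCb : P ⊓ centralizer (A : Set G) = ⊥ :=
    hO _ hCn (hPp.to_le inf_le_left)
  -- an element of order `p`
  have hP0 : Nat.card P ≠ 1 := by
    intro h
    apply hnc
    rw [(Subgroup.card_eq_one).1 h]
    exact bot_le
  obtain ⟨k, hk⟩ := IsPGroup.iff_card.1 hPp
  have hk0 : k ≠ 0 := by
    rintro rfl
    exact hP0 (by rw [hk, pow_zero])
  obtain ⟨y, hy⟩ := exists_prime_orderOf_dvd_card' p (G := P) (by rw [hk]; exact dvd_pow_self p hk0)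
  have hyG : orderOf (y : G) = p := by rw [Subgroup.orderOf_coe, hy]
  have hYP : zpowers (y : G) ≤ P := by
    rw [Subgroup.zpowers_le]
    exact y.2
  have hY : IsPGroup p (zpowers (y : G)) := hPp.to_le hYP
  have hYeq : zpowers (y : G) = P := by
    by_contra hne
    have h1 : A ⊔ zpowers (y : G) ≠ ⊤ := by
      intro htop
      apply hne
      have h2 := hcardU _ hY
      rw [sup_comm, htop, Subgroup.card_top, hG] at h2
      have h3 : Nat.card P = Nat.card (zpowers (y : G)) :=
        Nat.eq_of_mul_eq_mul_right (Nat.card_pos (α := A)) h2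
      exact Subgroup.eq_of_le_of_card_ge hYP h3.le
    have h2 := hcomm _ hY A le_rfl (by
      rw [Subgroup.normalizer_eq_top_iff.2 hAn]; exact le_top) h1
    have h3 : (y : G) ∈ P ⊓ centralizer (A : Set G) := ⟨y.2, h2 (mem_zpowers _)⟩
    rw [hCb, Subgroup.mem_bot] at h3
    rw [h3, orderOf_one] at hyG
    exact hp.out.one_lt.ne hyG
  have hPcard : Nat.card P = p := by
    rw [← hYeq, Nat.card_zpowers, hyG]
  have hidx : A.index = p := by
    have h1 := Subgroup.card_mul_index A
    rw [hG, hPcard, mul_comm] at h1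
    exact Nat.eq_of_mul_eq_mul_right Nat.card_pos h1
  have hyA : (y : G) ∉ A := by
    intro h
    have h3 : (y : G) ∈ P ⊓ A := ⟨y.2, h⟩
    rw [hinfU P hPp, Subgroup.mem_bot] at h3
    rw [h3, orderOf_one] at hyG
    exact hp.out.one_lt.ne hyG
  have hact : ∃ a ∈ A, (y : G) * a * (y : G)⁻¹ ≠ a := by
    by_contra hcon
    push Not at hcon
    apply hnc
    rw [← hYeq, Subgroup.zpowers_le, Subgroup.mem_centralizer_iff]
    intro a ha
    have := hcon a ha
    rw [mul_inv_eq_iff_eq_mul] at this
    exact this.symm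
  have hcardA := card_of_min_normal (q := r) (p := p) hrp A ⟨hAc, hAr⟩ hidx hA0 hmin y hyA hact
  refine ⟨r, hr, hrp, ?_, hcardA, ⟨hAc, hAr⟩⟩
  rw [hG, hPcard, hcardA]

end normal

end CfsgLib.MinClosed
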