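import Mathlib
import Cfsg.Agent.Lib.H3.MinClosed

/-! # Minimal non-`p`-closed groups: the three statements -/

set_option autoImplicit false

namespace CfsgLib.MinClosed

open Subgroup

variable {G : Type*} [Group G] [Finite G]

/-- Two subgroups normalizing each other with trivial intersection commute. -/
theorem le_centralizer_of_mutual {R U : Subgroup G} (hUR : U ≤ normalizer (R : Set G))
    (hRU : R ≤ normalizer (U : Set G)) (hb : R ⊓ U = ⊥) : U ≤ centralizer (R : Set G) := by
  intro u hu
  rw [Subgroup.mem_centralizer_iff]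
  intro r hr
  have h1 : u * r * u⁻¹ ∈ R := (Subgroup.mem_normalizer_iff.1 (hUR hu) r).1 hr
  have h2 : r * u⁻¹ * r⁻¹ ∈ U := (Subgroup.mem_normalizer_iff.1 (hRU hr) u⁻¹).1 (U.inv_mem hu)
  have h3 : u * r * u⁻¹ * r⁻¹ ∈ R ⊓ U := by
    refine ⟨R.mul_mem h1 (R.inv_mem hr), ?_⟩
    have : u * r * u⁻¹ * r⁻¹ = u * (r * u⁻¹ * r⁻¹) := by group
    rw [this]
    exact U.mul_mem hu h2
  rw [hb, Subgroup.mem_bot] at h3
  have h4 : u * r * u⁻¹ = r := by
    rw [mul_inv_eq_one] at h3
    exact h3
  rw [mul_inv_eq_iff_eq_mul] at h4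
  exact h4.symm

/-- If `U` is a `p`-subgroup normalizing a `p'`-subgroup `R`, and `K ⊇ U` is a `p`-subgroup in `R ⊔ U`,
then `K = U`. -/
theorem eq_of_pgroup_le_sup {p : ℕ} [hp : Fact p.Prime] {U R K : Subgroup G}
    (hU : IsPGroup p U) (hRp : ¬ p ∣ Nat.card R) (hUR : U ≤ normalizer (R : Set G))
    (hK : IsPGroup p K) (hUK : U ≤ K) (hKH : K ≤ U ⊔ R) : K = U := by
  have h1 := CfsgLib.FourConn.card_sup_mul_inf hUR
  have hb : U ⊓ R = ⊥ := by
    apply Subgroup.inf_eq_bot_of_coprime
    obtain ⟨k, hk⟩ := IsPGroup.iff_card.1 hU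
    rw [hk]
    exact Nat.Coprime.pow_left k ((Nat.Prime.coprime_iff_not_dvd hp.out).2 hRp)
  rw [hb, Subgroup.card_bot, mul_one] at h1
  have h2 : Nat.card K ∣ Nat.card U * Nat.card R := by
    rw [← h1]
    exact Subgroup.card_dvd_of_le hKH
  obtain ⟨k, hk⟩ := IsPGroup.iff_card.1 hK
  have h3 : Nat.Coprime (Nat.card K) (Nat.card R) := by
    rw [hk]
    exact Nat.Coprime.pow_left k ((Nat.Prime.coprime_iff_not_dvd hp.out).2 hRp)
  have h4 : Nat.card K ∣ Nat.card U := h3.dvd_of_dvd_mul_right h2
  exact (Subgroup.eq_of_le_of_card_ge hUK (Nat.le_of_dvd Nat.card_pos h4)).symm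

/-- The common opening: the Sylow subgroup is not normal if `G` is not `p`-closed. -/
theorem not_normal_of_not_closed {p : ℕ} [hp : Fact p.Prime] (hnc : ¬ Cfsg.IsPClosed p G)
    (P : Sylow p G) : ¬ (P : Subgroup G).Normal := by
  intro hn
  apply hnc
  intro Q
  haveI := Sylow.unique_of_normal P hn
  rw [Subsingleton.elim Q P]
  exact hn

/-- Comap of the image of `P` in a quotient. -/
theorem comap_map_mk (P N : Subgroup G) [hN : N.Normal] :
    (P.map (QuotientGroup.mk' N)).comap (QuotientGroup.mk' N) = P ⊔ N := by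
  rw [Subgroup.comap_map_eq, QuotientGroup.ker_mk']

/-- S3868. -/
theorem min_closed_structure {p : ℕ} [hp : Fact p.Prime]
    (hnc : ¬ Cfsg.IsPClosed p G) (hsub : ∀ H : Subgroup G, H ≠ ⊤ → Cfsg.IsPClosed p ↥H)
    (hquo : ∀ (N : Subgroup G) [N.Normal], N ≠ ⊥ → Cfsg.IsPClosed p (G ⧸ N))
    (hns : ¬ IsSimpleGroup G) :
    ∃ q : ℕ, q.Prime ∧ q ≠ p ∧ Nat.card G = p * q ^ orderOf (q : ZMod p) ∧
      ∃ A : Subgroup G, A.Normal ∧ Nat.card ↥A = q ^ orderOf (q : ZMod p) ∧
        Cfsg.IsElementaryAbelian q A ∧ ∀ B : Subgroup G, B.Normal → B ≤ A → B = ⊥ ∨ B = A := by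
  classical
  obtain ⟨P⟩ : Nonempty (Sylow p G) := inferInstance
  have hPn := not_normal_of_not_closed hnc P
  -- the image of the Sylow subgroup in a quotient is normal
  have himg : ∀ (N : Subgroup G) [N.Normal], N ≠ ⊥ → ((P : Subgroup G) ⊔ N).Normal := by
    intro N _ hN
    have hs : Function.Surjective (QuotientGroup.mk' N) := QuotientGroup.mk'_surjective N
    have h1 := hquo N hN (P.mapSurjective hs)
    rw [Sylow.coe_mapSurjective] at h1
    rw [← comap_map_mk]
    exact Subgroup.Normal.comap h1 _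
  have hO : ∀ N : Subgroup G, N.Normal → IsPGroup p N → N = ⊥ := by
    intro N hN hNp
    by_contra hne
    apply hPn
    have h1 := himg N hne
    have h2 : (P : Subgroup G) ⊔ N = P := P.is_maximal' (P.2.to_sup_of_normal_right hNp) le_sup_left
    rwa [h2] at h1
  have hNp : ∀ N : Subgroup G, N.Normal → N ≠ ⊤ → ¬ p ∣ Nat.card N := by
    intro N hN hNt
    haveI := hN
    obtain ⟨S⟩ : Nonempty (Sylow p N) := inferInstance
    have hSn := hsub N hNt S
    haveI hSc : (S : Subgroup N).Characteristic := Sylow.characteristic_of_normal S hSn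
    have h1 : ((S : Subgroup N).map N.subtype).Normal := inferInstance
    have h2 := hO _ h1 (S.2.map _)
    have h3 : (S : Subgroup N) = ⊥ := by
      rwa [Subgroup.map_eq_bot_iff_of_injective _ N.subtype_injective] at h2
    have h4 := S.not_dvd_index
    rwa [h3, Subgroup.index_bot] at h4
  haveI hnt : Nontrivial G := by
    by_contra hcon
    rw [not_nontrivial_iff_subsingleton] at hcon
    apply hPn
    rw [show (P : Subgroup G) = ⊥ from Subsingleton.elim _ _]
    infer_instance
  obtain ⟨A, hAn, hA0, hmin⟩ := CfsgLib.Solv.exists_minimal_normal G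
  haveI := hAn
  have hAt : A ≠ ⊤ := by
    intro hAt
    apply hns
    refine ⟨fun N hN => ?_⟩
    rcases hmin N hN (by rw [hAt]; exact le_top) with h | h
    · exact Or.inl h
    · exact Or.inr (h.trans hAt)
  have hAp := hNp A hAn hAt
  have hPA : A ⊔ (P : Subgroup G) = ⊤ := by
    by_contra hne
    rw [sup_comm] at hne
    have h1 := hNp _ (himg A hA0) hne
    apply hPn
    have h2 : (P : Subgroup G) = ⊥ := by
      obtain ⟨k, hk⟩ := IsPGroup.iff_card.1 P.2
      have hle : (P : Subgroup G) ≤ (P : Subgroup G) ⊔ A := le_sup_left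
      have hd := Subgroup.card_dvd_of_le hle
      rw [hk] at hd
      rcases Nat.eq_zero_or_pos k with rfl | hkpos
      · rw [pow_zero] at hk
        exact Subgroup.card_eq_one.1 hk
      · exact absurd ((dvd_pow_self p hkpos.ne').trans hd) h1
    rw [h2]
    infer_instance
  have hnc' : ¬ (P : Subgroup G) ≤ centralizer (A : Set G) := by
    intro hc
    apply hPn
    apply Subgroup.normalizer_eq_top_iff.1
    rw [eq_top_iff, ← hPA]
    apply sup_le
    · intro a ha
      apply CfsgLib.PLocal.mem_normalizer_of_conj_le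
      intro u hu
      have h3 : u * a = a * u := Subgroup.mem_centralizer_iff.1 (hc hu) a ha |>.symm
      have h4 : a * u * a⁻¹ = u := by rw [← h3, mul_inv_cancel_right]
      rw [h4]
      exact hu
    · exact Subgroup.le_normalizer
  have hcomm : ∀ U : Subgroup G, IsPGroup p U → ∀ R : Subgroup G, R ≤ A →
      U ≤ normalizer (R : Set G) → R ⊔ U ≠ ⊤ → U ≤ centralizer (R : Set G) := by
    intro U hU R hRA hUR hne
    have hRp : ¬ p ∣ Nat.card R := fun h => hAp (h.trans (Subgroup.card_dvd_of_le hRA))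
    have hcl := hsub _ hne
    set H := R ⊔ U with hH
    have hUH : U ≤ H := le_sup_right
    have hU' : IsPGroup p (U.subgroupOf H) := hU.comap_subtype
    obtain ⟨S, hS⟩ := hU'.exists_le_sylow
    have hSn := hcl S
    have hSmap : (S : Subgroup H).map H.subtype = U := by
      apply eq_of_pgroup_le_sup hU hRp hUR (S.2.map _)
      · intro u hu
        exact ⟨⟨u, hUH hu⟩, hS hu, rfl⟩
      · rw [sup_comm]
        exact Subgroup.map_subtype_le _
    have hRU : R ≤ normalizer (U : Set G) := by
      intro r hr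
      apply CfsgLib.PLocal.mem_normalizer_of_conj_le
      intro u hu
      rw [← hSmap] at hu ⊢
      obtain ⟨s, hs, rfl⟩ := hu
      have hrH : r ∈ H := Subgroup.mem_sup_left hr
      exact ⟨⟨r, hrH⟩ * s * ⟨r, hrH⟩⁻¹, hSn.conj_mem s hs _, rfl⟩
    refine le_centralizer_of_mutual hUR hRU ?_
    apply Subgroup.inf_eq_bot_of_coprime
    obtain ⟨k, hk⟩ := IsPGroup.iff_card.1 hU
    rw [hk]
    exact Nat.Coprime.pow_right k ((Nat.coprime_comm.1 ((Nat.Prime.coprime_iff_not_dvd hp.out).2 hRp)))
  obtain ⟨q, hq, hqp, hcG, hcA, hel⟩ := core_structure A hA0 hmin hAp P P.2 hPA hnc' hO hcomm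
  exact ⟨q, hq, hqp, hcG, A, hAn, hcA, hel, hmin⟩

/-- The subgroup of elements of order dividing `p` exists. -/
def HasOmega (p : ℕ) (H : Type*) [Group H] : Prop :=
  ∃ K : Subgroup H, (K : Set H) = {g : H | g ^ p = 1}

theorem hasOmega_of_sub {p : ℕ} {V : Subgroup G} (hV : HasOmega p V)
    (hall : ∀ g : G, g ^ p = 1 → g ∈ V) : HasOmega p G := by
  obtain ⟨K, hK⟩ := hV
  refine ⟨K.map V.subtype, ?_⟩
  ext g
  constructor
  · rintro ⟨v, hv, rfl⟩
    have h1 : v ∈ (K : Set V) := hv
    rw [hK] at h1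
    exact congrArg Subtype.val h1
  · intro hg
    have h1 : (⟨g, hall g hg⟩ : V) ∈ (K : Set V) := by
      rw [hK]
      exact Subtype.ext hg
    exact ⟨_, h1, rfl⟩

/-- S3873. -/
theorem min_exp_closed_structure {p : ℕ} [hp : Fact p.Prime]
    (hnc : ¬ HasOmega p G) (hsub : ∀ K : Subgroup G, K ≠ ⊤ → HasOmega p K)
    (hquo : ∀ (N : Subgroup G) [N.Normal], N ≠ ⊥ → HasOmega p (G ⧸ N))
    (hns : ¬ IsSimpleGroup G) (hnp : ¬ IsPGroup p G) :
    ∃ q : ℕ, q.Prime ∧ q ≠ p ∧ Nat.card G = p * q ^ orderOf (q : ZMod p) ∧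
      ∃ A : Subgroup G, A.Normal ∧ Nat.card ↥A = q ^ orderOf (q : ZMod p) ∧
        Cfsg.IsElementaryAbelian q A ∧ ∀ B : Subgroup G, B.Normal → B ≤ A → B = ⊥ ∨ B = A := by
  classical
  -- powers fall into every nontrivial normal subgroup
  have hV : ∀ (N : Subgroup G) [N.Normal], N ≠ ⊥ → ∀ g : G, g ^ p ∈ N := by
    intro N _ hN g
    obtain ⟨K, hK⟩ := hquo N hN
    have hmem : ∀ z : G ⧸ N, z ∈ K ↔ z ^ p = 1 := by
      intro z
      have := Set.ext_iff.1 hK z
      exact this
    set V := K.comap (QuotientGroup.mk' N) with hVdef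
    have hVt : V = ⊤ := by
      by_contra hne
      apply hnc
      refine hasOmega_of_sub (hsub V hne) ?_
      intro x hx
      show (QuotientGroup.mk' N) x ∈ K
      rw [hmem, ← map_pow, hx, map_one]
    have hg : g ∈ V := by rw [hVt]; trivial
    have h1 : (QuotientGroup.mk' N) g ∈ K := hg
    rw [hmem, ← map_pow] at h1
    exact (QuotientGroup.eq_one_iff _).1 h1
  -- proper normal subgroups have order prime to `p`
  have hNp : ∀ N : Subgroup G, N.Normal → N ≠ ⊤ → ¬ p ∣ Nat.card N := by
    intro N hN hNt hd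
    haveI := hN
    obtain ⟨K, hK⟩ := hsub N hNt
    have hmem : ∀ z : N, z ∈ K ↔ z ^ p = 1 := by
      intro z
      have := Set.ext_iff.1 hK z
      exact this
    let W : Subgroup G := K.map N.subtype
    have hWmem : ∀ g : G, g ∈ W ↔ g ∈ N ∧ g ^ p = 1 := by
      intro g
      constructor
      · rintro ⟨v, hv, rfl⟩
        exact ⟨v.2, congrArg Subtype.val ((hmem v).1 hv)⟩
      · rintro ⟨h1, h2⟩
        exact ⟨⟨g, h1⟩, (hmem _).2 (Subtype.ext h2), rfl⟩
    have hWn : W.Normal := by
      refine ⟨fun w hw g => ?_⟩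
      rw [hWmem] at hw ⊢
      refine ⟨hN.conj_mem w hw.1 g, ?_⟩
      rw [conj_pow, hw.2]
      group
    haveI := hWn
    by_cases hW0 : W = ⊥
    · obtain ⟨y, hy⟩ := exists_prime_orderOf_dvd_card' p hd
      have h1 : (y : G) ∈ W := (hWmem _).2 ⟨y.2, by
        have := pow_orderOf_eq_one y
        rw [hy] at this
        exact congrArg Subtype.val this⟩
      rw [hW0, Subgroup.mem_bot] at h1
      have h2 : y = 1 := Subtype.ext h1
      rw [h2, orderOf_one] at hy
      exact hp.out.one_lt.ne hy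
    · apply hnp
      intro g
      refine ⟨2, ?_⟩
      have h1 := hV W hW0 g
      rw [hWmem] at h1
      rw [pow_two, pow_mul]
      exact h1.2
  haveI hnt : Nontrivial G := by
    by_contra hcon
    rw [not_nontrivial_iff_subsingleton] at hcon
    apply hnc
    refine ⟨⊤, ?_⟩
    ext g
    constructor
    · intro _
      exact Subsingleton.elim _ _
    · intro _
      trivial
  obtain ⟨A, hAn, hA0, hmin⟩ := CfsgLib.Solv.exists_minimal_normal G
  haveI := hAn
  have hAt : A ≠ ⊤ := by
    intro hAt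
    apply hns
    refine ⟨fun N hN => ?_⟩
    rcases hmin N hN (by rw [hAt]; exact le_top) with h | h
    · exact Or.inl h
    · exact Or.inr (h.trans hAt)
  have hAp := hNp A hAn hAt
  have hpow := hV A hA0
  obtain ⟨P⟩ : Nonempty (Sylow p G) := inferInstance
  -- `AP = G`
  have hPA : A ⊔ (P : Subgroup G) = ⊤ := by
    have hs : Function.Surjective (QuotientGroup.mk' A) := QuotientGroup.mk'_surjective A
    have hQp : IsPGroup p (G ⧸ A) := by
      intro z
      obtain ⟨g, rfl⟩ := hs z
      refine ⟨1, ?_⟩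
      rw [pow_one, ← map_pow]
      exact (QuotientGroup.eq_one_iff _).2 (hpow g)
    have h1 := CfsgLib.PLocal.sylow_eq_top_of_isPGroup hQp (P.mapSurjective hs)
    rw [Sylow.coe_mapSurjective] at h1
    have h2 := comap_map_mk (P : Subgroup G) A
    rw [h1, Subgroup.comap_top] at h2
    rw [sup_comm, ← h2]
  have hbU : ∀ U : Subgroup G, IsPGroup p U → U ⊓ A = ⊥ := by
    intro U hU
    apply Subgroup.inf_eq_bot_of_coprime
    obtain ⟨k, hk⟩ := IsPGroup.iff_card.1 hU
    rw [hk]
    exact Nat.Coprime.pow_left k ((Nat.Prime.coprime_iff_not_dvd hp.out).2 hAp)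
  have hexp : ∀ U : Subgroup G, IsPGroup p U → ∀ g ∈ U, g ^ p = 1 := by
    intro U hU g hg
    have h1 : g ^ p ∈ U ⊓ A := ⟨U.pow_mem hg p, hpow g⟩
    rw [hbU U hU, Subgroup.mem_bot] at h1
    exact h1
  have hnc' : ¬ (P : Subgroup G) ≤ centralizer (A : Set G) := by
    intro hc
    apply hnc
    refine ⟨P, ?_⟩
    ext g
    constructor
    · exact hexp P P.2 g
    · intro hg
      have hg' : g ∈ (P : Subgroup G) ⊔ A := by
        rw [sup_comm, hPA]
        trivial
      obtain ⟨u, hu, a, ha, rfl⟩ := Subgroup.mem_sup_of_normal_right.1 hg'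
      have hcua : Commute u a := by
        exact (Subgroup.mem_centralizer_iff.1 (hc hu) a ha).symm
      have h1 : (u * a) ^ p = 1 := hg
      rw [hcua.mul_pow, hexp P P.2 u hu, one_mul] at h1
      have ha1 : a = 1 := by
        by_contra hne
        have h2 : orderOf (⟨a, ha⟩ : A) = p := by
          apply orderOf_eq_prime
          · exact Subtype.ext h1
          · exact fun h => hne (congrArg Subtype.val h)
        apply hAp
        rw [← h2]
        exact orderOf_dvd_natCard _
      rw [ha1, mul_one]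
      exact hu
  have hO : ∀ N : Subgroup G, N.Normal → IsPGroup p N → N = ⊥ := by
    intro N hN hNP
    by_cases hNt : N = ⊤
    · exfalso
      apply hnp
      subst hNt
      intro g
      obtain ⟨k, hk⟩ := hNP ⟨g, trivial⟩
      exact ⟨k, congrArg Subtype.val hk⟩
    · have h1 := hNp N hN hNt
      obtain ⟨k, hk⟩ := IsPGroup.iff_card.1 hNP
      rcases Nat.eq_zero_or_pos k with rfl | hkpos
      · rw [pow_zero] at hk
        exact Subgroup.card_eq_one.1 hk
      · exact absurd (hk ▸ dvd_pow_self p hkpos.ne') h1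
  have hcomm : ∀ U : Subgroup G, IsPGroup p U → ∀ R : Subgroup G, R ≤ A →
      U ≤ normalizer (R : Set G) → R ⊔ U ≠ ⊤ → U ≤ centralizer (R : Set G) := by
    intro U hU R hRA hUR hne
    have hRp : ¬ p ∣ Nat.card R := fun h => hAp (h.trans (Subgroup.card_dvd_of_le hRA))
    set H := R ⊔ U with hH
    obtain ⟨K, hK⟩ := hsub H hne
    have hmem : ∀ z : H, z ∈ K ↔ z ^ p = 1 := by
      intro z
      have := Set.ext_iff.1 hK z
      exact this
    have hUH : U ≤ H := le_sup_right
    have hKp : IsPGroup p (K.map H.subtype) := by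
      rintro ⟨g, v, hv, rfl⟩
      refine ⟨1, Subtype.ext ?_⟩
      have := (hmem v).1 hv
      show (v : G) ^ p ^ 1 = 1
      rw [pow_one]
      exact congrArg Subtype.val this
    have hKeq : K.map H.subtype = U := by
      apply eq_of_pgroup_le_sup hU hRp hUR hKp
      · intro u hu
        exact ⟨⟨u, hUH hu⟩, (hmem _).2 (Subtype.ext (hexp U hU u hu)), rfl⟩
      · rw [sup_comm]
        exact Subgroup.map_subtype_le _
    have hRU : R ≤ normalizer (U : Set G) := by
      intro r hr
      apply CfsgLib.PLocal.mem_normalizer_of_conj_le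
      intro u hu
      have hrH : r ∈ H := Subgroup.mem_sup_left hr
      rw [← hKeq]
      refine ⟨⟨r, hrH⟩ * ⟨u, hUH hu⟩ * ⟨r, hrH⟩⁻¹, (hmem _).2 (Subtype.ext ?_), rfl⟩
      show (r * u * r⁻¹) ^ p = 1
      rw [conj_pow, hexp U hU u hu]
      group
    refine le_centralizer_of_mutual hUR hRU ?_
    apply Subgroup.inf_eq_bot_of_coprime
    obtain ⟨k, hk⟩ := IsPGroup.iff_card.1 hU
    rw [hk]
    exact Nat.Coprime.pow_right k ((Nat.coprime_comm.1 ((Nat.Prime.coprime_iff_not_dvd hp.out).2 hRp)))
  obtain ⟨q, hq, hqp, hcG, hcA, hel⟩ := core_structure A hA0 hmin hAp P P.2 hPA hnc' hO hcomm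
  exact ⟨q, hq, hqp, hcG, A, hAn, hcA, hel, hmin⟩

/-- S3869. -/
theorem irreducible_gives_min_closed {p q : ℕ} [hp : Fact p.Prime] (hq : q.Prime) (hpq : q ≠ p)
    (hna : ¬ IsMulCommutative G) (A : Subgroup G) [hAn : A.Normal] (hA : Cfsg.IsElementaryAbelian q A)
    (hidx : A.index = p)
    (hmin : ∀ B : Subgroup G, B.Normal → B ≤ A → B = ⊥ ∨ B = A) :
    Nat.card ↥A = q ^ orderOf (q : ZMod p) ∧ ¬ Cfsg.IsPClosed p G ∧
      (∀ H : Subgroup G, H ≠ ⊤ → Cfsg.IsPClosed p ↥H) ∧
      ∀ (N : Subgroup G) [N.Normal], N ≠ ⊥ → Cfsg.IsPClosed p (G ⧸ N) := by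
  classical
  haveI hqF : Fact q.Prime := ⟨hq⟩
  obtain ⟨hAc, hAq⟩ := hA
  have hcoat : IsCoatom A := CfsgLib.Solv.isCoatom_of_index_prime A (by rw [hidx]; exact hp.out)
  have hAcomm : ∀ a ∈ A, ∀ b ∈ A, a * b = b * a := by
    intro a ha b hb
    exact congrArg Subtype.val (mul_comm' (⟨a, ha⟩ : A) ⟨b, hb⟩)
  have hAqg : IsPGroup q A := by
    intro a
    refine ⟨1, Subtype.ext ?_⟩
    rw [pow_one]
    exact hAq a.1 a.2
  -- no element outside `A` centralizes `A`
  have hxc : ∀ x : G, x ∉ A → ¬ ∀ a ∈ A, a * x = x * a := by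
    intro x hx hc
    apply hna
    have hsup : A ⊔ zpowers x = ⊤ := by
      apply hcoat.2
      refine lt_of_le_of_ne le_sup_left (fun h => hx ?_)
      rw [h]
      exact Subgroup.mem_sup_right (mem_zpowers x)
    have h1 : ∀ g : G, g ∈ centralizer (A : Set G) := by
      intro g
      have hg : g ∈ A ⊔ zpowers x := by rw [hsup]; trivial
      have hle : A ⊔ zpowers x ≤ centralizer (A : Set G) := by
        apply sup_le
        · intro a ha
          rw [Subgroup.mem_centralizer_iff]
          intro b hb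
          exact hAcomm b hb a ha
        · rw [Subgroup.zpowers_le, Subgroup.mem_centralizer_iff]
          exact hc
      exact hle hg
    have h2 : ∀ g : G, g ∈ centralizer (zpowers x : Set G) := by
      intro g
      have hg : g ∈ A ⊔ zpowers x := by rw [hsup]; trivial
      have hle : A ⊔ zpowers x ≤ centralizer (zpowers x : Set G) := by
        apply sup_le
        · intro a ha
          rw [Subgroup.mem_centralizer_iff]
          rintro _ ⟨k, rfl⟩
          have h3 : Commute a x := (hc a ha)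
          exact ((h3.zpow_right k).eq).symm
        · intro y hy
          rw [Subgroup.mem_centralizer_iff]
          intro z hz
          obtain ⟨k, rfl⟩ := hy
          obtain ⟨l, rfl⟩ := hz
          exact ((Commute.refl x).zpow_zpow l k).eq
      exact hle hg
    refine ⟨⟨fun a b => ?_⟩⟩
    have ha : a ∈ A ⊔ zpowers x := by rw [hsup]; trivial
    have hle : A ⊔ zpowers x ≤ centralizer ({b} : Set G) := by
      apply sup_le
      · intro y hy
        rw [Subgroup.mem_centralizer_iff]
        intro z hz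
        rw [Set.mem_singleton_iff] at hz
        subst hz
        exact (Subgroup.mem_centralizer_iff.1 (h1 z) y hy).symm
      · intro y hy
        rw [Subgroup.mem_centralizer_iff]
        intro z hz
        rw [Set.mem_singleton_iff] at hz
        subst hz
        exact (Subgroup.mem_centralizer_iff.1 (h2 z) y hy).symm
    exact (Subgroup.mem_centralizer_iff.1 (hle ha) b rfl).symm
  have hA0 : A ≠ ⊥ := by
    rintro rfl
    apply hna
    have h1 : Nat.card G = p := by
      rw [← hidx, Subgroup.index_bot]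
    obtain ⟨g, hg⟩ := exists_prime_orderOf_dvd_card' p (G := G) (by rw [h1])
    have hc : ∀ a ∈ (⊥ : Subgroup G), a * g = g * a := by
      intro a ha
      rw [Subgroup.mem_bot] at ha
      rw [ha, one_mul, mul_one]
    exact absurd hc (hxc g (by
      intro h
      rw [Subgroup.mem_bot] at h
      rw [h, orderOf_one] at hg
      exact hp.out.one_lt.ne hg))
  have hcardG : Nat.card G = Nat.card A * p := by
    rw [← hidx, Subgroup.card_mul_index]
  have hpA : ¬ p ∣ Nat.card A := by
    intro h
    obtain ⟨k, hk⟩ := IsPGroup.iff_card.1 hAqg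
    rw [hk] at h
    exact hpq ((Nat.prime_dvd_prime_iff_eq hp.out hq).1 (hp.out.dvd_of_dvd_pow h)).symm
  have hbU : ∀ U : Subgroup G, IsPGroup p U → U ⊓ A = ⊥ := by
    intro U hU
    apply Subgroup.inf_eq_bot_of_coprime
    obtain ⟨k, hk⟩ := IsPGroup.iff_card.1 hU
    rw [hk]
    exact Nat.Coprime.pow_left k ((Nat.Prime.coprime_iff_not_dvd hp.out).2 hpA)
  -- a normal `p`-subgroup is trivial
  have hO : ∀ N : Subgroup G, N.Normal → IsPGroup p N → N = ⊥ := by
    intro N hN hNp
    by_contra hne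
    obtain ⟨y, hy, hy1⟩ : ∃ y ∈ N, y ≠ (1 : G) := by
      obtain ⟨a, ha⟩ := (Subgroup.ne_bot_iff_exists_ne_one (H := N)).1 hne
      exact ⟨a.1, a.2, fun h => ha (Subtype.ext h)⟩
    have hyA : y ∉ A := by
      intro h
      have h1 : y ∈ N ⊓ A := ⟨hy, h⟩
      rw [hbU N hNp, Subgroup.mem_bot] at h1
      exact hy1 h1
    apply hxc y hyA
    intro a ha
    have h1 : y * a * y⁻¹ * a⁻¹ ∈ N ⊓ A := by
      constructor
      · have : y * a * y⁻¹ * a⁻¹ = y * (a * y⁻¹ * a⁻¹) := by group
        rw [this]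
        exact N.mul_mem hy (hN.conj_mem _ (N.inv_mem hy) a)
      · exact A.mul_mem (hAn.conj_mem a ha y) (A.inv_mem ha)
    rw [hbU N hNp, Subgroup.mem_bot] at h1
    rw [mul_inv_eq_one, mul_inv_eq_iff_eq_mul] at h1
    exact h1.symm
  have hcardA : Nat.card A = q ^ orderOf (q : ZMod p) := by
    obtain ⟨x, hx⟩ : ∃ x, x ∉ A := by
      by_contra hcon
      push Not at hcon
      exact hcoat.1 (eq_top_iff.2 (fun g _ => hcon g))
    have hact : ∃ a ∈ A, x * a * x⁻¹ ≠ a := by
      by_contra hcon
      push Not at hcon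
      apply hxc x hx
      intro a ha
      have := hcon a ha
      rw [mul_inv_eq_iff_eq_mul] at this
      exact this.symm
    exact card_of_min_normal hpq A ⟨hAc, hAq⟩ hidx hA0 hmin x hx hact
  have hpgrp : ∀ H : Subgroup G, ¬ H ≤ A → H ⊓ A = ⊥ → IsPGroup p H := by
    intro H hHA hb
    have hsup : H ⊔ A = ⊤ := by
      rw [sup_comm]
      apply hcoat.2
      refine lt_of_le_of_ne le_sup_left (fun h => hHA ?_)
      rw [h]
      exact le_sup_right
    have h1 := CfsgLib.Solv.card_sup_mul_card_inf H A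
    rw [hb, hsup, Subgroup.card_bot, mul_one, Subgroup.card_top, hcardG, mul_comm] at h1
    have h2 : Nat.card H = p := (Nat.eq_of_mul_eq_mul_right Nat.card_pos h1).symm
    exact IsPGroup.of_card (n := 1) (by rw [h2, pow_one])
  refine ⟨hcardA, ?_, ?_, ?_⟩
  · intro hcl
    obtain ⟨P⟩ : Nonempty (Sylow p G) := inferInstance
    have h1 := hO _ (hcl P) P.2
    have hd := P.not_dvd_index
    rw [h1, Subgroup.index_bot, hcardG] at hd
    exact hd (dvd_mul_left _ _)
  · intro H hH S
    by_cases hHA : H ≤ A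
    · have hb : (S : Subgroup H) = ⊥ := by
        obtain ⟨k, hk⟩ := IsPGroup.iff_card.1 S.2
        have hdvd : Nat.card (S : Subgroup H) ∣ Nat.card A :=
          (Subgroup.card_subgroup_dvd_card _).trans (Subgroup.card_dvd_of_le hHA)
        rcases Nat.eq_zero_or_pos k with rfl | hkpos
        · rw [pow_zero] at hk
          exact Subgroup.card_eq_one.1 hk
        · exact absurd ((dvd_pow_self p hkpos.ne').trans (hk ▸ hdvd)) hpA
      rw [hb]
      infer_instance
    · have h1 : (H ⊓ A).Normal := by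
        apply Subgroup.normalizer_eq_top_iff.1
        have hsup : H ⊔ A = ⊤ := by
          rw [sup_comm]
          apply hcoat.2
          refine lt_of_le_of_ne le_sup_left (fun h => hHA ?_)
          rw [h]
          exact le_sup_right
        rw [eq_top_iff, ← hsup]
        apply sup_le
        · intro u hu
          apply CfsgLib.PLocal.mem_normalizer_of_conj_le
          rintro c ⟨hc1, hc2⟩
          exact ⟨H.mul_mem (H.mul_mem hu hc1) (H.inv_mem hu), hAn.conj_mem c hc2 u⟩
        · intro a ha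
          apply CfsgLib.PLocal.mem_normalizer_of_conj_le
          rintro c ⟨hc1, hc2⟩
          rw [hAcomm a ha c hc2, mul_inv_cancel_right]
          exact ⟨hc1, hc2⟩
      rcases hmin _ h1 inf_le_right with h | h
      · have hPp := hpgrp H hHA h
        rw [CfsgLib.PLocal.sylow_eq_top_of_isPGroup hPp S]
        infer_instance
      · exfalso
        have hAH : A ≤ H := inf_eq_right.1 h
        rcases eq_or_lt_of_le hAH with h2 | h2
        · exact hHA h2.symm.le
        · exact hH (hcoat.2 H h2)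
  · intro N hNn hN S
    have h1 : (N ⊓ A).Normal := inferInstance
    rcases hmin _ h1 inf_le_right with h | h
    · exfalso
      have hNA : ¬ N ≤ A := by
        intro hle
        rw [inf_eq_left.2 hle] at h
        exact hN h
      exact hN (hO N hNn (hpgrp N hNA h))
    · have hAN : A ≤ N := inf_eq_right.1 h
      have hQp : IsPGroup p (G ⧸ N) := by
        intro z
        obtain ⟨g, rfl⟩ := QuotientGroup.mk'_surjective N z
        refine ⟨1, ?_⟩
        rw [pow_one, ← map_pow]
        apply (QuotientGroup.eq_one_iff _).2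
        apply hAN
        have := Subgroup.pow_index_mem A g
        rwa [hidx] at this
      rw [CfsgLib.PLocal.sylow_eq_top_of_isPGroup hQp S]
      infer_instance

end CfsgLib.MinClosed
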