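import Cfsg.Agent.Lib.H3.PAct
import Cfsg.Agent.Lib.SS.Split
import Cfsg.Prelude.Def_LocalStructure

/-! `O^p(H)` quasisimple with `O_p(H) = 1`. -/

set_option autoImplicit false
set_option linter.unusedSectionVars false
set_option linter.style.haveILetI false
set_option linter.unusedVariables false

namespace CfsgLib.PAct

open Subgroup CfsgLib.Comp
open scoped commutatorElement

universe u

variable {H : Type u} [Group H] [Finite H] {p : ℕ} [hp : Fact p.Prime]

/-- A `p`-subgroup of a `p'`-group is trivial. -/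
lemma bot_of_isP_coprime {A : Type*} [Group A] [Finite A] {Q : Subgroup A} (hc : (Nat.card Q).Coprime p)
    (hP : IsPGroup p Q) : Q = ⊥ := by
  obtain ⟨k, hk⟩ := IsPGroup.iff_card.1 hP
  rw [hk] at hc
  have hk0 : k = 0 := by
    by_contra hne
    have := Nat.Coprime.eq_one_of_dvd hc.symm (dvd_pow_self p hne)
    exact hp.out.one_lt.ne this.symm
  rw [hk0, pow_zero] at hk
  exact Subgroup.eq_bot_of_card_eq _ hk

/-- Elements of a `p'`-subgroup lie in the residual. -/
lemma mem_residual_of_coprime {C : Subgroup H} (hC : (Nat.card C).Coprime p) : C ≤ Cfsg.pResidual p H := by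
  intro x hx
  refine Subgroup.subset_closure ?_
  have h1 : orderOf x ∣ Nat.card C := by
    have := orderOf_dvd_natCard (G := C) (⟨x, hx⟩ : C)
    rwa [Subgroup.orderOf_mk] at this
  exact Nat.Coprime.coprime_dvd_left h1 hC

/-- The centralizer of the residual in the quasisimple situation. -/
theorem cent_coprime (hO : Cfsg.pCore p H = ⊥) :
    (Nat.card (centralizer (Cfsg.pResidual p H : Set H))).Coprime p := by
  set K := Cfsg.pResidual p H with hK
  haveI hKn : K.Normal := CfsgLib.Tr.pResidual_normal p H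
  set C := centralizer (K : Set H) with hC
  haveI hCn : C.Normal := by rw [hC]; infer_instance
  have hquot : IsPGroup p (H ⧸ K) := by
    obtain ⟨a, ha⟩ := CfsgLib.SS.index_pResidual (G := H) (p := p)
    rw [IsPGroup.iff_card]
    exact ⟨a, by rw [← ha]; rfl⟩
  let f : C →* H ⧸ K := (QuotientGroup.mk' K).comp C.subtype
  have hker : f.ker ≤ center C := by
    intro x hx
    have h1 : (x : H) ∈ K := by
      rw [← QuotientGroup.ker_mk' K, MonoidHom.mem_ker]
      exact hx
    rw [Subgroup.mem_center_iff]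
    intro y
    apply Subtype.ext
    exact (Subgroup.mem_centralizer_iff.1 y.2 _ h1).symm
  have hnil : Group.IsNilpotent C := by
    have h2 : IsPGroup p f.range := hquot.to_subgroup _
    haveI := h2.isNilpotent
    exact Subgroup.isNilpotent_of_ker_le_center f.rangeRestrict (by
      rw [MonoidHom.ker_rangeRestrict]; exact hker)
  have hle : C ≤ Cfsg.fittingSubgroup H := CfsgLib.Solv.le_fittingSubgroup' C hnil
  exact Nat.Coprime.coprime_dvd_left (Subgroup.card_dvd_of_le hle) (fitting_coprime hO)

theorem main_2815 (hpd : p ∣ Nat.card H) (hO : Cfsg.pCore p H = ⊥) (hq : Cfsg.IsQuasisimple ↥(Cfsg.pResidual p H)) :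
    Cfsg.pResidual p H = Cfsg.generalizedFittingSubgroup H ∧
    (∀ Y : Subgroup H, IsPGroup p ↥Y → Y ≠ ⊥ → ⁅Cfsg.pResidual p H, Y⁆ = Cfsg.pResidual p H ∧
      Cfsg.pResidual p H ≤ ⨆ k : ↥(Cfsg.pResidual p H), Y.map (MulAut.conj (k : H)).toMonoidHom) ∧
    (∀ C : Subgroup H, C.Normal → ¬ Cfsg.pResidual p H ≤ C → (Nat.card ↥C).Coprime p) ∧
    Cfsg.IsPIrreducible p H := by
  set K := Cfsg.pResidual p H with hK
  haveI hKn : K.Normal := CfsgLib.Tr.pResidual_normal p H
  have hcop : (Nat.card (centralizer (K : Set H))).Coprime p := cent_coprime hO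
  have hCK : centralizer (K : Set H) ≤ K := mem_residual_of_coprime hcop
  have hcomp : Cfsg.IsComponent K := ⟨Subgroup.Normal.isSubnormal hKn, hq⟩
  have hKperf : ⁅K, K⁆ = K := comp_commutator hcomp
  have h3 : ∀ C : Subgroup H, C.Normal → ¬ K ≤ C → (Nat.card ↥C).Coprime p := by
    intro C hCn hnot
    rcases le_or_commute_of_normal hcomp hCn with h | h
    · exact absurd h hnot
    · have hle : C ≤ centralizer (K : Set H) := by
        intro c hc
        refine Subgroup.mem_centralizer_iff.2 ?_
        intro k hk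
        exact comm_bot_iff.1 h k hk c hc
      exact Nat.Coprime.coprime_dvd_left (Subgroup.card_dvd_of_le hle) hcop
  refine ⟨?_, ?_, h3, ?_, ?_⟩
  · apply le_antisymm
    · exact (comp_le_layer hcomp).trans le_sup_left
    · exact gfit_le_of_self_centralizing K (mem_residual_of_coprime (fitting_coprime hO)) hCK
  · intro Y hY hY1
    have hMK : ⁅K, Y⁆ ≤ K := by
      rw [Subgroup.commutator_le]
      intro k hk y hy
      rw [commutatorElement_def]
      have h1 : y * k⁻¹ * y⁻¹ ∈ K := hKn.conj_mem _ (inv_mem hk) y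
      have h2 : k * y * k⁻¹ * y⁻¹ = k * (y * k⁻¹ * y⁻¹) := by group
      rw [h2]
      exact mul_mem hk h1
    have hKN : K ≤ normalizer ((⁅K, Y⁆ : Subgroup H) : Set H) := le_normalizer_commutator K Y
    haveI hM0 : ((⁅K, Y⁆ : Subgroup H).subgroupOf K).Normal :=
      CfsgLib.Solv.normal_subgroupOf_of_le_normalizer hKN
    have hKY : ⁅K, Y⁆ = K := by
      rcases normal_eq_top_or_le_center hq ((⁅K, Y⁆ : Subgroup H).subgroupOf K) with h | h
      · apply le_antisymm hMK
        intro k hk
        have h1 : (⟨k, hk⟩ : K) ∈ (⁅K, Y⁆ : Subgroup H).subgroupOf K := by rw [h]; trivial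
        exact Subgroup.mem_subgroupOf.1 h1
      · exfalso
        have hc1 : ⁅⁅K, Y⁆, K⁆ = ⊥ := by
          rw [comm_bot_iff]
          intro m hm k hk
          have h1 := h (Subgroup.mem_subgroupOf.2 hm : (⟨m, hMK hm⟩ : K) ∈ (⁅K, Y⁆ : Subgroup H).subgroupOf K)
          have h2 := (Subgroup.mem_center_iff.1 h1) ⟨k, hk⟩
          exact (congrArg Subtype.val h2).symm
        have hc2 := commute_of_perfect_three hKperf hc1
        have hYC : Y ≤ centralizer (K : Set H) := by
          intro y hy
          refine Subgroup.mem_centralizer_iff.2 ?_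
          intro k hk
          exact comm_bot_iff.1 hc2 k hk y hy
        exact hY1 (bot_of_isP_coprime (Nat.Coprime.coprime_dvd_left (Subgroup.card_dvd_of_le hYC) hcop) hY)
    refine ⟨hKY, ?_⟩
    conv_lhs => rw [← hKY]
    rw [Subgroup.commutator_le]
    intro k hk y hy
    rw [commutatorElement_def]
    refine mul_mem ?_ (inv_mem ?_)
    · refine (le_iSup (fun k : K => Y.map (MulAut.conj (k : H)).toMonoidHom) ⟨k, hk⟩) ?_
      exact ⟨y, hy, by simp [MulAut.conj_apply]⟩
    · refine (le_iSup (fun k : K => Y.map (MulAut.conj (k : H)).toMonoidHom) 1) ?_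
      exact ⟨y, hy, by simp⟩
  · intro hcl
    obtain ⟨P⟩ : Nonempty (Sylow p H) := inferInstance
    haveI hPn := hcl P
    have h1 : (P : Subgroup H) ≤ Cfsg.pCore p H := CfsgLib.Solv.le_pCore' _ P.isPGroup'
    rw [hO, le_bot_iff] at h1
    have h2 := P.not_dvd_index
    rw [h1, Subgroup.index_bot] at h2
    exact h2 hpd
  · intro N hNn hncl
    by_contra hnot
    apply hncl
    have hc := h3 N hNn hnot
    intro P
    have h1 := bot_of_isP_coprime (Nat.Coprime.coprime_dvd_left (Subgroup.card_subgroup_dvd_card _) hc) P.isPGroup'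
    rw [h1]
    infer_instance

end CfsgLib.PAct
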