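import Cfsg.Agent.Lib.H3.PAct2
import Cfsg.Agent.Lib.SS.Misc

/-! The largest `Q`-centralized normal subgroup of `F*(H)`. -/

set_option autoImplicit false
set_option linter.unusedSectionVars false
set_option linter.style.haveILetI false
set_option linter.unusedVariables false

namespace CfsgLib.PAct

open Subgroup CfsgLib.Comp
open scoped commutatorElement

universe u

variable {G : Type*} [Group G] [Finite G] {p : ℕ} [hp : Fact p.Prime]

/-- Normalizing both factors normalizes the commutator. -/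
lemma normalizes_commutator {A B : Subgroup G} {q : G} (hA : q ∈ normalizer (A : Set G))
    (hB : q ∈ normalizer (B : Set G)) : q ∈ normalizer ((⁅A, B⁆ : Subgroup G) : Set G) := by
  refine Subgroup.mem_normalizer_fintype ?_
  intro n hn
  have hle : ⁅A, B⁆ ≤ (⁅A, B⁆).comap (MulAut.conj q).toMonoidHom := by
    rw [Subgroup.commutator_le]
    intro a ha b hb
    simp only [Subgroup.mem_comap, MulEquiv.coe_toMonoidHom, MulAut.conj_apply]
    have h1 : q * ⁅a, b⁆ * q⁻¹ = ⁅q * a * q⁻¹, q * b * q⁻¹⁆ := by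
      simp only [commutatorElement_def]; group
    rw [h1]
    exact Subgroup.commutator_mem_commutator ((Subgroup.mem_normalizer_iff.1 hA a).1 ha)
      ((Subgroup.mem_normalizer_iff.1 hB b).1 hb)
  have := hle hn
  simpa [MulAut.conj_apply] using this

/-- A `p`-subgroup centralizing `F*` is trivial when `O_p = 1`. -/
lemma bot_of_cent_gfit {H : Type*} [Group H] [Finite H] (hO : Cfsg.pCore p H = ⊥) {Y : Subgroup H}
    (hY : IsPGroup p Y) (hc : ∀ a ∈ Cfsg.generalizedFittingSubgroup H, ∀ y ∈ Y, a * y = y * a) : Y = ⊥ := by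
  set A := Cfsg.generalizedFittingSubgroup H with hA
  have hN : A.Normal := gfit_normal'
  have hYA : Y ≤ A := by
    refine le_trans ?_ gfit_self_centralizing
    intro y hy
    refine Subgroup.mem_centralizer_iff.2 ?_
    intro a ha
    exact hc a ha y hy
  set Z := A ⊓ centralizer (A : Set H) with hZ
  haveI hZn : Z.Normal := by
    rw [hZ]
    infer_instance
  have hZab : IsMulCommutative Z := by
    refine comm_of_forall ?_
    intro a b
    apply Subtype.ext
    exact (Subgroup.mem_centralizer_iff.1 a.2.2 b b.2.1).symm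
  have hZF : Z ≤ Cfsg.fittingSubgroup H := by
    apply CfsgLib.Solv.le_fittingSubgroup'
    exact nilpotent_of_forall_comm (fun a b => hZab.is_comm.comm a b)
  have hYZ : Y ≤ Z := by
    intro y hy
    refine ⟨hYA hy, ?_⟩
    refine Subgroup.mem_centralizer_iff.2 ?_
    intro a ha
    exact hc a ha y hy
  exact bot_of_isP_coprime (Nat.Coprime.coprime_dvd_left (Subgroup.card_dvd_of_le (hYZ.trans hZF)) (fitting_coprime hO)) hY

/-- A central element in the commutator subgroup lies in the Frattini subgroup. -/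
lemma central_comm_le_frattini {X : Type*} [Group X] {x : X} (hx : x ∈ center X) (hc : x ∈ commutator X) :
    x ∈ frattini X := by
  unfold frattini Order.radical
  simp only [Subgroup.mem_iInf]
  intro M hM
  by_contra hxM
  -- `M ⊔ ⟨x⟩ = ⊤`
  have hsup : M ⊔ zpowers x = ⊤ := by
    apply hM.2
    refine lt_of_le_of_ne le_sup_left ?_
    intro h
    apply hxM
    rw [h]
    exact Subgroup.mem_sup_right (mem_zpowers x)
  have hmul : ∀ g : X, ∃ m ∈ M, ∃ k : ℤ, g = m * x ^ k := by
    intro g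
    have hg : g ∈ M ⊔ zpowers x := by rw [hsup]; trivial
    have hnorm : (zpowers x).Normal := by
      refine ⟨?_⟩
      rintro _ ⟨k, rfl⟩ g
      refine ⟨k, ?_⟩
      simp only
      have h1 : Commute g (x ^ k) := by
        have h2 : Commute g x := (Subgroup.mem_center_iff.1 hx g)
        exact h2.zpow_right k
      rw [h1.eq]
      group
    rw [← SetLike.mem_coe, Subgroup.mul_normal] at hg
    obtain ⟨m, hm, _, ⟨k, rfl⟩, rfl⟩ := hg
    exact ⟨m, hm, k, rfl⟩
  have hle : commutator X ≤ M := by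
    rw [commutator_def, Subgroup.commutator_le]
    intro a _ b _
    obtain ⟨m, hm, k, rfl⟩ := hmul a
    obtain ⟨n, hn, j, rfl⟩ := hmul b
    have hcomm : ∀ (i : ℤ) (y : X), x ^ i * y = y * x ^ i := by
      intro i y
      have h2 : Commute y x := (Subgroup.mem_center_iff.1 hx y)
      exact (h2.zpow_right i).symm.eq
    have h3 : ⁅m * x ^ k, n * x ^ j⁆ = ⁅m, n⁆ := by
      simp only [commutatorElement_def, mul_inv_rev]
      calc m * x ^ k * (n * x ^ j) * ((x ^ k)⁻¹ * m⁻¹) * ((x ^ j)⁻¹ * n⁻¹)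
          = m * (x ^ k * n) * x ^ j * (x ^ k)⁻¹ * m⁻¹ * (x ^ j)⁻¹ * n⁻¹ := by group
        _ = m * n * x ^ k * x ^ j * (x ^ k)⁻¹ * m⁻¹ * (x ^ j)⁻¹ * n⁻¹ := by
            rw [hcomm k n]; group
        _ = m * n * x ^ j * (x ^ k * (x ^ k)⁻¹) * m⁻¹ * (x ^ j)⁻¹ * n⁻¹ := by
            have : x ^ k * x ^ j = x ^ j * x ^ k := hcomm k (x ^ j)
            rw [mul_assoc (m * n), this]; group
        _ = m * n * (x ^ j * m⁻¹) * (x ^ j)⁻¹ * n⁻¹ := by group
        _ = m * n * m⁻¹ * n⁻¹ := by rw [hcomm j m⁻¹]; group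
    rw [h3, commutatorElement_def]
    exact M.mul_mem (M.mul_mem (M.mul_mem hm hn) (M.inv_mem hm)) (M.inv_mem hn)
  exact hxM (hle hc)

/-- Nilpotent groups and generation modulo the commutator subgroup. -/
lemma le_of_le_sup_comm {T X : Subgroup G} (hnil : Group.IsNilpotent T) (hXT : X ≤ T) (h : T ≤ X ⊔ ⁅T, T⁆) :
    T ≤ X := by
  have h1 : X.subgroupOf T ⊔ frattini T = ⊤ := by
    rw [eq_top_iff]
    rintro ⟨t, ht⟩ -
    have h2 : (X.subgroupOf T ⊔ commutator T).map T.subtype = X ⊔ ⁅T, T⁆ := by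
      rw [Subgroup.map_sup, Subgroup.subgroupOf_map_subtype, inf_eq_left.2 hXT, Subgroup.map_subtype_commutator]
    have h3 : t ∈ (X.subgroupOf T ⊔ commutator T).map T.subtype := by rw [h2]; exact h ht
    obtain ⟨y, hy, hyt⟩ := h3
    have h4 : y = ⟨t, ht⟩ := Subtype.ext hyt
    rw [← h4]
    exact (sup_le_sup le_rfl CfsgLib.SS.commutator_le_frattini_of_nilpotent) hy
  have h5 := frattini_nongenerating h1
  intro t ht
  have h6 : (⟨t, ht⟩ : T) ∈ X.subgroupOf T := by rw [h5]; trivial
  exact Subgroup.mem_subgroupOf.1 h6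

/-- Fixed points of a `p`-group on a `[L, Q] = L` with `L/L'` a `p'`-group lie in `L'`. -/
theorem inf_cent_le_comm {L Q T : Subgroup G} (hQ : IsPGroup p Q) (hQL : Q ≤ normalizer (L : Set G))
    (hLQ : L = ⁅L, Q⁆) (hTL : T ≤ L) (hTc : (Nat.card T).Coprime p) (hgen : L ≤ T ⊔ ⁅L, L⁆) :
    L ⊓ centralizer (Q : Set G) ≤ ⁅L, L⁆ := by
  set D := ⁅L, L⁆ with hD
  set N₁ := normalizer (D : Set G) with hN₁
  have hLN : L ≤ N₁ := le_normalizer_commutator L L
  have hQN : Q ≤ N₁ := fun q hq => normalizes_commutator (hQL hq) (hQL hq)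
  have hTN : T ≤ N₁ := hTL.trans hLN
  set D₀ : Subgroup N₁ := D.subgroupOf N₁ with hD₀
  haveI hD₀n : D₀.Normal := Subgroup.normal_in_normalizer
  set π := QuotientGroup.mk' D₀ with hπ
  set Lb := (L.subgroupOf N₁).map π with hLb
  set Qb := (Q.subgroupOf N₁).map π with hQb
  set Tb := (T.subgroupOf N₁).map π with hTb
  have hker : ∀ a : N₁, π a = 1 ↔ (a : G) ∈ D := by
    intro a
    rw [← MonoidHom.mem_ker, hπ, QuotientGroup.ker_mk']
    exact Subgroup.mem_subgroupOf
  -- `Lb` is abelian
  have hLbab : IsMulCommutative Lb := by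
    refine comm_of_forall ?_
    rintro ⟨_, a, ha, rfl⟩ ⟨_, b, hb, rfl⟩
    apply Subtype.ext
    have ha' : (a : G) ∈ L := Subgroup.mem_subgroupOf.1 ha
    have hb' : (b : G) ∈ L := Subgroup.mem_subgroupOf.1 hb
    have h1 : π (a * b * a⁻¹ * b⁻¹) = 1 := by
      rw [hker]
      exact Subgroup.commutator_mem_commutator ha' hb'
    rw [map_mul, map_mul, map_mul, map_inv, map_inv, mul_inv_eq_one, mul_inv_eq_iff_eq_mul] at h1
    exact h1
  -- `Lb ≤ Tb`
  have hLT : Lb ≤ Tb := by
    rintro _ ⟨a, ha, rfl⟩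
    have ha' : (a : G) ∈ L := Subgroup.mem_subgroupOf.1 ha
    have h1 : (a : G) ∈ ((T ⊔ D : Subgroup G) : Set G) := hgen ha'
    rw [Subgroup.coe_mul_of_left_le_normalizer_right T D hTN] at h1
    obtain ⟨t, ht, d, hd, htd⟩ := h1
    have hd1 : π ⟨d, Subgroup.le_normalizer hd⟩ = 1 := (hker _).2 hd
    have h2 : a = ⟨t, hTN ht⟩ * ⟨d, Subgroup.le_normalizer hd⟩ := Subtype.ext htd.symm
    refine ⟨⟨t, hTN ht⟩, Subgroup.mem_subgroupOf.2 ht, ?_⟩
    rw [h2, map_mul, hd1, mul_one]
  have hLbc : (Nat.card Lb).Coprime p := by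
    have h1 : Nat.card Lb ∣ Nat.card Tb := Subgroup.card_dvd_of_le hLT
    have h2 : Nat.card Tb ∣ Nat.card (T.subgroupOf N₁) := Subgroup.card_map_dvd _ _
    have h3 : Nat.card (T.subgroupOf N₁) = Nat.card T := Nat.card_congr (Subgroup.subgroupOfEquivOfLe hTN).toEquiv
    rw [h3] at h2
    exact Nat.Coprime.coprime_dvd_left (h1.trans h2) hTc
  have hQbp : IsPGroup p Qb := (hQ.of_equiv (Subgroup.subgroupOfEquivOfLe hQN).symm).map _
  have hcop : (Nat.card Qb).Coprime (Nat.card Lb) := by
    obtain ⟨k, hk⟩ := IsPGroup.iff_card.1 hQbp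
    rw [hk]
    exact Nat.Coprime.pow_left _ hLbc.symm
  have hQbN : Qb ≤ normalizer (Lb : Set (N₁ ⧸ D₀)) := by
    rintro _ ⟨q, hq, rfl⟩
    refine Subgroup.mem_normalizer_fintype ?_
    rintro _ ⟨a, ha, rfl⟩
    refine ⟨q * a * q⁻¹, ?_, by simp⟩
    apply Subgroup.mem_subgroupOf.2
    have ha' : (a : G) ∈ L := Subgroup.mem_subgroupOf.1 ha
    have hq' : (q : G) ∈ Q := Subgroup.mem_subgroupOf.1 hq
    exact (Subgroup.mem_normalizer_iff.1 (hQL hq') a).1 ha'
  have hbot := CfsgLib.Solv.inf_centralizer_commutator_eq_bot Qb Lb hQbN hcop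
  intro x hx
  obtain ⟨hxL, hxC⟩ := hx
  set x' : N₁ := ⟨x, hLN hxL⟩ with hx'
  have hW' : ⁅L, Q⁆ ≤ (⁅Lb, Qb⁆.comap π).map N₁.subtype := by
    rw [Subgroup.commutator_le]
    intro l hl' q hq
    refine ⟨⁅(⟨l, hLN hl'⟩ : N₁), (⟨q, hQN hq⟩ : N₁)⁆, ?_, rfl⟩
    refine Subgroup.mem_comap.2 ?_
    rw [map_commutatorElement]
    exact Subgroup.commutator_mem_commutator ⟨_, Subgroup.mem_subgroupOf.2 hl', rfl⟩
      ⟨_, Subgroup.mem_subgroupOf.2 hq, rfl⟩
  have hW : L ≤ (⁅Lb, Qb⁆.comap π).map N₁.subtype := hLQ.le.trans hW'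
  have h1 : π x' ∈ (Lb ⊓ centralizer (Qb : Set (N₁ ⧸ D₀))) ⊓ ⁅Lb, Qb⁆ := by
    refine ⟨⟨⟨x', Subgroup.mem_subgroupOf.2 hxL, rfl⟩, ?_⟩, ?_⟩
    · refine Subgroup.mem_centralizer_iff.2 ?_
      rintro _ ⟨q, hq, rfl⟩
      have hq' : (q : G) ∈ Q := Subgroup.mem_subgroupOf.1 hq
      have h2 := Subgroup.mem_centralizer_iff.1 hxC _ hq'
      have h3 : q * x' = x' * q := Subtype.ext h2
      rw [← map_mul, ← map_mul, h3]
    · obtain ⟨y, hy, hyx⟩ := hW hxL
      have h2 : y = x' := Subtype.ext hyx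
      rw [← h2]
      exact hy
  rw [hbot, Subgroup.mem_bot, hker] at h1
  exact h1

/-- S2817. -/
theorem main_2817 {H : Type*} [Group H] [Finite H] (hO : Cfsg.pCore p H = ⊥) (Q : Subgroup H) (hQ : IsPGroup p ↥Q)
    (L : Subgroup H) (hL : L = ⁅Cfsg.generalizedFittingSubgroup H, Q⁆) (F : Subgroup H)
    (hF : F ≤ Cfsg.generalizedFittingSubgroup H ∧ Cfsg.generalizedFittingSubgroup H ≤ normalizer (F : Set H) ∧
      Q ≤ centralizer (F : Set H) ∧ ∀ N : Subgroup H, N ≤ Cfsg.generalizedFittingSubgroup H →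
        Cfsg.generalizedFittingSubgroup H ≤ normalizer (N : Set H) → Q ≤ centralizer (N : Set H) → N ≤ F) :
    F = Cfsg.generalizedFittingSubgroup H ⊓ centralizer ((L ⊔ Q : Subgroup H) : Set H) ∧ ⁅L, Q⁆ = L ∧
      L ⊓ F ≤ (frattini ↥L).map L.subtype ∧
      (∀ B : Subgroup H, IsPGroup p ↥B → B ≤ normalizer (Q : Set H) → ⁅L, B⁆ ≤ F → ⁅L, B⁆ = ⊥) ∧
      (Nat.card ↥(centralizer ((F ⊔ L : Subgroup H) : Set H))).Coprime p := by
  obtain ⟨hF1, hF2, hF3, hF4⟩ := hF
  obtain ⟨hA1, hA2⟩ := gfit_comm hO Q hQ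
  have hAn : (Cfsg.generalizedFittingSubgroup H).Normal := gfit_normal'
  set A := Cfsg.generalizedFittingSubgroup H with hA
  rw [← hL] at hA1 hA2
  have hLA : L ≤ A := by
    rw [hL]
    refine CfsgLib.Solv.commutator_le_of_normalizes ?_
    rw [Subgroup.normalizer_eq_top_iff.2 hAn]
    exact le_top
  have hAL : A ≤ normalizer (L : Set H) := by rw [hL]; exact le_normalizer_commutator A Q
  have hANt : normalizer (A : Set H) = ⊤ := Subgroup.normalizer_eq_top_iff.2 hAn
  have hQL : Q ≤ normalizer (L : Set H) := by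
    rw [hL]
    exact fun q hq => normalizes_commutator (by rw [hANt]; trivial) (Subgroup.le_normalizer hq)
  -- `F` commutes with `Q` and `L`
  have hFQ : ∀ x ∈ F, ∀ q ∈ Q, x * q = q * x := fun x hx q hq => Subgroup.mem_centralizer_iff.1 (hF3 hq) x hx
  have hLF : ⁅L, F⁆ = ⊥ := by
    rw [hL]
    apply Subgroup.commutator_commutator_eq_bot_of_rotate
    · rw [comm_bot_iff.2 (fun q hq x hx => (hFQ x hx q hq).symm)]
      exact Subgroup.commutator_bot_left _
    · have h1 : ⁅F, A⁆ ≤ F := by
        rw [Subgroup.commutator_le]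
        intro x hx a ha
        rw [commutatorElement_def]
        have h2 : a * x⁻¹ * a⁻¹ ∈ F := (Subgroup.mem_normalizer_iff.1 (hF2 ha) _).1 (inv_mem hx)
        have h3 : x * a * x⁻¹ * a⁻¹ = x * (a * x⁻¹ * a⁻¹) := by group
        rw [h3]
        exact mul_mem hx h2
      rw [comm_bot_iff]
      intro y hy q hq
      exact hFQ y (h1 hy) q hq
  have hFLc : ∀ l ∈ L, ∀ x ∈ F, l * x = x * l := comm_bot_iff.1 hLF
  -- the description of `F`
  have hFeq : F = A ⊓ centralizer ((L ⊔ Q : Subgroup H) : Set H) := by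
    apply le_antisymm
    · refine le_inf hF1 ?_
      intro x hx
      refine Subgroup.mem_centralizer_iff.2 ?_
      intro y hy
      have hle : L ⊔ Q ≤ centralizer ({x} : Set H) := by
        refine sup_le ?_ ?_
        · intro l hl
          exact Subgroup.mem_centralizer_singleton_iff.2 (hFLc l hl x hx)
        · intro q hq
          exact Subgroup.mem_centralizer_singleton_iff.2 (hFQ x hx q hq).symm
      exact Subgroup.mem_centralizer_singleton_iff.1 (hle hy)
    · refine hF4 _ inf_le_left ?_ ?_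
      · -- `A` normalizes
        refine hA1.ge.trans ?_
        refine sup_le ?_ ?_
        · intro l hl
          refine Subgroup.mem_normalizer_fintype ?_
          rintro x ⟨hxA, hxC⟩
          have h1 := Subgroup.mem_centralizer_iff.1 hxC l (Subgroup.mem_sup_left hl)
          have h2 : l * x * l⁻¹ = x := by rw [h1]; group
          rw [h2]
          exact ⟨hxA, hxC⟩
        · rintro c ⟨hcA, hcC⟩
          refine Subgroup.mem_normalizer_fintype ?_
          rintro x ⟨hxA, hxC⟩
          refine ⟨hAn.conj_mem x hxA c, ?_⟩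
          refine Subgroup.mem_centralizer_iff.2 ?_
          intro y hy
          have hle : L ⊔ Q ≤ centralizer ({c * x * c⁻¹} : Set H) := by
            refine sup_le ?_ ?_
            · intro l hl
              rw [Subgroup.mem_centralizer_singleton_iff]
              have h3 : c⁻¹ * l * c ∈ L := by
                have := (Subgroup.mem_normalizer_iff.1 (hAL (inv_mem hcA)) l).1 hl
                simpa using this
              have h4 := Subgroup.mem_centralizer_iff.1 hxC _ (Subgroup.mem_sup_left h3)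
              calc l * (c * x * c⁻¹) = c * ((c⁻¹ * l * c) * x) * c⁻¹ := by group
                _ = c * (x * (c⁻¹ * l * c)) * c⁻¹ := by rw [h4]
                _ = _ := by group
            · intro q hq
              rw [Subgroup.mem_centralizer_singleton_iff]
              have h4 := Subgroup.mem_centralizer_iff.1 hxC q (Subgroup.mem_sup_right hq)
              have h5 := Subgroup.mem_centralizer_iff.1 hcC q hq
              calc q * (c * x * c⁻¹) = (q * c) * x * c⁻¹ := by group
                _ = (c * q) * x * c⁻¹ := by rw [h5]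
                _ = c * (q * x) * c⁻¹ := by group
                _ = c * (x * q) * c⁻¹ := by rw [h4]
                _ = c * x * (q * c⁻¹) := by group
                _ = c * x * (c⁻¹ * q) := by
                    have h6 : q * c⁻¹ = c⁻¹ * q := by
                      have h7 : Commute c q := h5.symm
                      exact (h7.inv_left).symm.eq
                    rw [h6]
                _ = _ := by group
          exact Subgroup.mem_centralizer_singleton_iff.1 (hle hy)
      · intro q hq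
        refine Subgroup.mem_centralizer_iff.2 ?_
        rintro x ⟨-, hxC⟩
        exact Subgroup.mem_centralizer_iff.1 hxC q (Subgroup.mem_sup_right hq) |>.symm
  -- structure of `L`
  have hLsn : (L.subgroupOf A).IsSubnormal :=
    Subgroup.Normal.isSubnormal (CfsgLib.Solv.normal_subgroupOf_of_le_normalizer hAL)
  obtain ⟨hLF1, hLF2⟩ := gfit_subnormal_sub hLA hLsn
  set T := (Cfsg.fittingSubgroup L).map L.subtype with hT
  set E₀ := (Cfsg.layer L).map L.subtype with hE₀
  have hTL : T ≤ L := by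
    rintro _ ⟨a, -, rfl⟩
    exact a.2
  have hE₀L : E₀ ≤ L := by
    rintro _ ⟨a, -, rfl⟩
    exact a.2
  have hTF : T ≤ Cfsg.fittingSubgroup H := by rw [hLF1]; exact inf_le_left
  have hTc : (Nat.card T).Coprime p :=
    Nat.Coprime.coprime_dvd_left (Subgroup.card_dvd_of_le hTF) (fitting_coprime hO)
  have hLsup : L = T ⊔ E₀ := by
    have h1 : (⊤ : Subgroup L).map L.subtype = L := by
      rw [← MonoidHom.range_eq_map, Subgroup.range_subtype]
    rw [← h1, ← hLF2, Subgroup.map_sup]
  have hE₀comm : E₀ ≤ ⁅L, L⁆ := by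
    have h1 : E₀ = ⁅E₀, E₀⁆ := by
      rw [hE₀, ← Subgroup.map_commutator, layer_perfect]
    rw [h1]
    exact Subgroup.commutator_mono hE₀L hE₀L
  have hgen : L ≤ T ⊔ ⁅L, L⁆ := by
    conv_lhs => rw [hLsup]
    exact sup_le_sup le_rfl hE₀comm
  have hLCQ := inf_cent_le_comm hQ hQL hA2 hTL hTc hgen
  have hETc : ∀ e ∈ E₀, ∀ t ∈ T, e * t = t * e := by
    rintro _ ⟨e, he, rfl⟩ _ ⟨t, ht, rfl⟩
    exact congrArg Subtype.val (layer_commute_fitting e he t ht)
  have hLFQ : L ⊓ F ≤ L ⊓ centralizer (Q : Set H) := by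
    rintro x ⟨hxL, hxF⟩
    refine ⟨hxL, Subgroup.mem_centralizer_iff.2 ?_⟩
    intro q hq
    exact (hFQ x hxF q hq).symm
  refine ⟨hFeq, hA2.symm, ?_, ?_, ?_⟩
  · -- Frattini
    rintro x ⟨hxL, hxF⟩
    refine ⟨⟨x, hxL⟩, ?_, rfl⟩
    apply central_comm_le_frattini
    · rw [Subgroup.mem_center_iff]
      intro l
      apply Subtype.ext
      exact hFLc l l.2 x hxF
    · have h1 := hLCQ (hLFQ ⟨hxL, hxF⟩)
      rw [← Subgroup.map_subtype_commutator] at h1
      obtain ⟨y, hy, hyx⟩ := h1
      have h2 : y = ⟨x, hxL⟩ := Subtype.ext hyx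
      rwa [← h2]
  · -- `B`
    intro B hB hBQ hLB
    have hBL : B ≤ normalizer (L : Set H) := by
      rw [hL]
      exact fun b hb => normalizes_commutator (by rw [hANt]; trivial) (hBQ hb)
    have hLBL : ⁅L, B⁆ ≤ L := CfsgLib.Solv.commutator_le_of_normalizes hBL
    have hLBc : ⁅L, B⁆ ≤ ⁅L, L⁆ := (le_inf hLBL hLB).trans (hLFQ.trans hLCQ)
    -- the layer part
    have hEB : E₀ ≤ centralizer (B : Set H) := by
      rw [hE₀, Cfsg.layer, Subgroup.map_le_iff_le_comap]
      refine sSup_le ?_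
      intro K hK
      rw [← Subgroup.map_le_iff_le_comap]
      set K' := K.map L.subtype with hK'
      have hK'L : K' ≤ L := by
        rintro _ ⟨a, -, rfl⟩
        exact a.2
      have hperf : ⁅K', K'⁆ = K' := by
        rw [hK', ← Subgroup.map_commutator, comp_commutator hK]
      have hc2 : ⁅⁅K', B⁆, K'⁆ = ⊥ := by
        rw [comm_bot_iff]
        intro u hu k hk
        have hu' : u ∈ F := hLB (Subgroup.commutator_mono hK'L le_rfl hu)
        exact (hFLc k (hK'L hk) u hu').symm
      have hc3 := commute_of_perfect_three hperf hc2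
      intro a ha
      refine Subgroup.mem_centralizer_iff.2 ?_
      intro y hy
      exact (comm_bot_iff.1 hc3 a ha y hy).symm
    -- the Fitting part
    have hBT : B ≤ normalizer (T : Set H) := by
      intro b hb
      exact Subgroup.mem_normalizer_fintype (fun n hn => char_map_normalized (Cfsg.fittingSubgroup L) (hBL hb) hn)
    have hcopB : (Nat.card B).Coprime (Nat.card T) := by
      obtain ⟨k, hk⟩ := IsPGroup.iff_card.1 hB
      rw [hk]
      exact Nat.Coprime.pow_left _ hTc.symm
    have hsolvB : Group.IsSolvable B := by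
      have := hB.isNilpotent
      infer_instance
    have hT1 := CfsgLib.Solv.coprime_commutator_sup_centralizer B T hBT hcopB (Or.inl hsolvB)
    have hLL : ⁅L, L⁆ ≤ E₀ ⊔ ⁅T, T⁆ := by
      rw [Subgroup.commutator_le]
      intro a ha b hb
      have hcm : ∀ t ∈ T, ∀ e ∈ E₀, t * e = e * t := fun t ht e he => (hETc e he t ht).symm
      rw [hLsup] at ha hb
      obtain ⟨t₁, ht₁, e₁, he₁, rfl⟩ := mem_sup_of_commute hcm ha
      obtain ⟨t₂, ht₂, e₂, he₂, rfl⟩ := mem_sup_of_commute hcm hb
      have hca : Commute e₁ t₁ := hETc e₁ he₁ t₁ ht₁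
      have hcb : Commute e₁ t₂ := hETc e₁ he₁ t₂ ht₂
      have hda : Commute e₂ t₁ := hETc e₂ he₂ t₁ ht₁
      have hdb : Commute e₂ t₂ := hETc e₂ he₂ t₂ ht₂
      have h5 : Commute (e₁ * e₂ * e₁⁻¹) t₁⁻¹ := ((hca.mul_left hda).mul_left hca.inv_left).inv_right
      have h6 : Commute (e₁ * e₂ * e₁⁻¹ * e₂⁻¹) t₂⁻¹ :=
        (((hcb.mul_left hdb).mul_left hcb.inv_left).mul_left hdb.inv_left).inv_right
      have h1 : ⁅t₁ * e₁, t₂ * e₂⁆ = ⁅t₁, t₂⁆ * ⁅e₁, e₂⁆ := by
        simp only [commutatorElement_def]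
        calc t₁ * e₁ * (t₂ * e₂) * (t₁ * e₁)⁻¹ * (t₂ * e₂)⁻¹
            = t₁ * (e₁ * t₂) * e₂ * e₁⁻¹ * t₁⁻¹ * e₂⁻¹ * t₂⁻¹ := by group
          _ = t₁ * (t₂ * e₁) * e₂ * e₁⁻¹ * t₁⁻¹ * e₂⁻¹ * t₂⁻¹ := by rw [hcb.eq]
          _ = t₁ * t₂ * ((e₁ * e₂ * e₁⁻¹) * t₁⁻¹) * e₂⁻¹ * t₂⁻¹ := by group
          _ = t₁ * t₂ * (t₁⁻¹ * (e₁ * e₂ * e₁⁻¹)) * e₂⁻¹ * t₂⁻¹ := by rw [h5.eq]
          _ = t₁ * t₂ * t₁⁻¹ * ((e₁ * e₂ * e₁⁻¹ * e₂⁻¹) * t₂⁻¹) := by group
          _ = t₁ * t₂ * t₁⁻¹ * (t₂⁻¹ * (e₁ * e₂ * e₁⁻¹ * e₂⁻¹)) := by rw [h6.eq]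
          _ = _ := by group
      rw [h1]
      refine mul_mem (Subgroup.mem_sup_right (Subgroup.commutator_mem_commutator ht₁ ht₂))
        (Subgroup.mem_sup_left ?_)
      rw [commutatorElement_def]
      exact E₀.mul_mem (E₀.mul_mem (E₀.mul_mem he₁ he₂) (E₀.inv_mem he₁)) (E₀.inv_mem he₂)
    have hTT : ⁅T, T⁆ ≤ T := Subgroup.commutator_le_self T
    have hTgen : T ≤ (T ⊓ centralizer (B : Set H)) ⊔ ⁅T, T⁆ := by
      refine hT1.ge.trans (sup_le ?_ le_sup_left)
      intro t₁ ht₁
      have h1 : t₁ ∈ ⁅L, L⁆ := hLBc (Subgroup.commutator_mono hTL le_rfl ht₁)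
      have h2 := hLL h1
      have hcm2 : ∀ e ∈ E₀, ∀ t ∈ ⁅T, T⁆, e * t = t * e := fun e he t ht => hETc e he t (hTT ht)
      obtain ⟨e, he, t₂, ht₂, hq⟩ := mem_sup_of_commute hcm2 h2
      have ht₁T : t₁ ∈ T := CfsgLib.Solv.commutator_le_of_normalizes hBT ht₁
      have het : e ∈ T := by
        have h3 : e = t₁ * t₂⁻¹ := by rw [hq]; group
        rw [h3]
        exact T.mul_mem ht₁T (T.inv_mem (hTT ht₂))
      rw [hq]
      exact mul_mem (Subgroup.mem_sup_left ⟨het, hEB he⟩) (Subgroup.mem_sup_right ht₂)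
    have hnil : Group.IsNilpotent T := by
      have h1 : Group.IsNilpotent (Cfsg.fittingSubgroup H) := CfsgLib.Solv.fitting_nilpotent
      haveI h2 : Group.IsNilpotent (T.subgroupOf (Cfsg.fittingSubgroup H)) := inferInstance
      exact nilpotent_of_mulEquiv (Subgroup.subgroupOfEquivOfLe hTF)
    have hTB : T ≤ centralizer (B : Set H) := (le_of_le_sup_comm hnil inf_le_left hTgen).trans inf_le_right
    rw [comm_bot_iff]
    intro l hl b hb
    have hcm : ∀ t ∈ T, ∀ e ∈ E₀, t * e = e * t := fun t ht e he => (hETc e he t ht).symm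
    rw [hLsup] at hl
    obtain ⟨t, ht, e, he, rfl⟩ := mem_sup_of_commute hcm hl
    have h1 : b * t = t * b := Subgroup.mem_centralizer_iff.1 (hTB ht) b hb
    have h2 : b * e = e * b := Subgroup.mem_centralizer_iff.1 (hEB he) b hb
    calc t * e * b = t * (b * e) := by rw [mul_assoc, h2]
      _ = (t * b) * e := by group
      _ = (b * t) * e := by rw [h1]
      _ = b * (t * e) := by group
  · -- the centralizer of `F L`
    set W := centralizer ((F ⊔ L : Subgroup H) : Set H) with hW
    have key : ∀ Y₁ : Subgroup H, IsPGroup p Y₁ → Y₁ ≤ W → Y₁ = ⊥ := by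
      intro Y₁ hY₁ hY₁W
      have hYF : ∀ y ∈ Y₁, ∀ x ∈ F, x * y = y * x := fun y hy x hx =>
        (Subgroup.mem_centralizer_iff.1 (hY₁W hy) x (Subgroup.mem_sup_left hx))
      have hYL : ∀ y ∈ Y₁, ∀ x ∈ L, x * y = y * x := fun y hy x hx =>
        (Subgroup.mem_centralizer_iff.1 (hY₁W hy) x (Subgroup.mem_sup_right hx))
      have hleF : ∀ x, x ∈ A → x ∈ centralizer (L : Set H) → x ∈ centralizer (Q : Set H) → x ∈ F := by
        intro x hxA hxL hxQ
        rw [hFeq]
        refine ⟨hxA, ?_⟩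
        refine Subgroup.mem_centralizer_iff.2 ?_
        intro u hu
        have hle : L ⊔ Q ≤ centralizer ({x} : Set H) := by
          refine sup_le ?_ ?_
          · intro l hl
            exact Subgroup.mem_centralizer_singleton_iff.2 (Subgroup.mem_centralizer_iff.1 hxL l hl)
          · intro q hq
            exact Subgroup.mem_centralizer_singleton_iff.2 (Subgroup.mem_centralizer_iff.1 hxQ q hq)
        exact Subgroup.mem_centralizer_singleton_iff.1 (hle hu)
      have hE : Cfsg.layer H ≤ centralizer (Y₁ : Set H) := by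
        refine sSup_le ?_
        intro K hK
        have hKA : K ≤ A := (comp_le_layer hK).trans le_sup_left
        have hK₀ := component_subgroupOf hK hKA
        haveI hL₀ : (L.subgroupOf A).Normal := CfsgLib.Solv.normal_subgroupOf_of_le_normalizer hAL
        rcases le_or_commute_of_normal hK₀ hL₀ with h | h
        · intro k hk
          refine Subgroup.mem_centralizer_iff.2 ?_
          intro y hy
          have h1 : (⟨k, hKA hk⟩ : A) ∈ K.subgroupOf A := Subgroup.mem_subgroupOf.2 hk
          have h2 : k ∈ L := Subgroup.mem_subgroupOf.1 (h h1)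
          exact (hYL y hy k h2).symm
        · have hKL : ∀ k ∈ K, ∀ l ∈ L, k * l = l * k := by
            intro k hk l hl
            have h1 := comm_bot_iff.1 h ⟨k, hKA hk⟩ (Subgroup.mem_subgroupOf.2 hk) ⟨l, hLA hl⟩
              (Subgroup.mem_subgroupOf.2 hl)
            exact congrArg Subtype.val h1
          have hc2 : ⁅⁅K, Q⁆, K⁆ = ⊥ := by
            rw [comm_bot_iff]
            intro u hu k hk
            have hu' : u ∈ L := by
              rw [hL]
              exact Subgroup.commutator_mono hKA le_rfl hu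
            exact (hKL k hk u hu').symm
          have hc3 := commute_of_perfect_three (comp_commutator hK) hc2
          intro k hk
          refine Subgroup.mem_centralizer_iff.2 ?_
          intro y hy
          have hkF : k ∈ F := by
            refine hleF k (hKA hk) ?_ ?_
            · exact Subgroup.mem_centralizer_iff.2 (fun l hl => (hKL k hk l hl).symm)
            · exact Subgroup.mem_centralizer_iff.2 (fun q hq => (comm_bot_iff.1 hc3 k hk q hq).symm)
          exact (hYF y hy k hkF).symm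
      -- the Fitting part
      have hR : Cfsg.fittingSubgroup H ≤ centralizer (Y₁ : Set H) := by
        set R := Cfsg.fittingSubgroup H with hRdef
        haveI hRn : R.Normal := inferInstance
        have hRA : R ≤ A := le_sup_right
        have hRc : (Nat.card R).Coprime p := fitting_coprime hO
        have hRt : normalizer (R : Set H) = ⊤ := Subgroup.normalizer_eq_top_iff.2 hRn
        set Z₁ := R ⊓ centralizer (L : Set H) with hZ₁
        have hQZ : Q ≤ normalizer (Z₁ : Set H) := by
          intro q hq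
          refine Subgroup.mem_normalizer_fintype ?_
          rintro x ⟨hxR, hxC⟩
          refine ⟨hRn.conj_mem x hxR q, ?_⟩
          refine Subgroup.mem_centralizer_iff.2 ?_
          intro l hl
          have h1 : q⁻¹ * l * q ∈ L := by
            have := (Subgroup.mem_normalizer_iff.1 (hQL (inv_mem hq)) l).1 hl
            simpa using this
          have h2 := Subgroup.mem_centralizer_iff.1 hxC _ h1
          calc l * (q * x * q⁻¹) = q * ((q⁻¹ * l * q) * x) * q⁻¹ := by group
            _ = q * (x * (q⁻¹ * l * q)) * q⁻¹ := by rw [h2]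
            _ = _ := by group
        have hcopQ : (Nat.card Q).Coprime (Nat.card Z₁) := by
          obtain ⟨k, hk⟩ := IsPGroup.iff_card.1 hQ
          rw [hk]
          exact Nat.Coprime.pow_left _ (Nat.Coprime.coprime_dvd_left (Subgroup.card_dvd_of_le inf_le_left) hRc).symm
        have hsolvQ : Group.IsSolvable Q := by
          have := hQ.isNilpotent
          infer_instance
        have hZ := CfsgLib.Solv.coprime_commutator_sup_centralizer Q Z₁ hQZ hcopQ (Or.inl hsolvQ)
        have hZY : Z₁ ≤ centralizer (Y₁ : Set H) := by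
          refine hZ.ge.trans (sup_le ?_ ?_)
          · intro u hu
            have hu' : u ∈ L := by
              rw [hL]
              exact Subgroup.commutator_mono ((inf_le_left).trans hRA) le_rfl hu
            exact Subgroup.mem_centralizer_iff.2 (fun y hy => (hYL y hy u hu').symm)
          · rintro u ⟨⟨huR, huL⟩, huQ⟩
            have huF := hleF u (hRA huR) huL huQ
            exact Subgroup.mem_centralizer_iff.2 (fun y hy => (hYF y hy u huF).symm)
        have hc1 : ⁅⁅R, Y₁⁆, L⁆ = ⊥ := by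
          apply Subgroup.commutator_commutator_eq_bot_of_rotate
          · rw [comm_bot_iff.2 (fun y hy l hl => (hYL y hy l hl).symm)]
            exact Subgroup.commutator_bot_left _
          · have h1 : ⁅L, R⁆ ≤ L := CfsgLib.Solv.commutator_le_of_normalizes (hRA.trans hAL)
            rw [comm_bot_iff]
            intro u hu y hy
            exact hYL y hy u (h1 hu)
        have hRY : ⁅R, Y₁⁆ ≤ Z₁ := by
          refine le_inf (Subgroup.commutator_le_left R Y₁) ?_
          intro u hu
          refine Subgroup.mem_centralizer_iff.2 ?_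
          intro l hl
          exact (comm_bot_iff.1 hc1 u hu l hl).symm
        have hc2 : ⁅⁅R, Y₁⁆, Y₁⁆ = ⊥ := by
          rw [comm_bot_iff]
          intro u hu y hy
          exact (Subgroup.mem_centralizer_iff.1 (hZY (hRY hu)) y hy).symm
        have hcopY : (Nat.card Y₁).Coprime (Nat.card R) := by
          obtain ⟨k, hk⟩ := IsPGroup.iff_card.1 hY₁
          rw [hk]
          exact Nat.Coprime.pow_left _ hRc.symm
        have hsolvY : Group.IsSolvable Y₁ := by
          have := hY₁.isNilpotent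
          infer_instance
        have hc3 := CfsgLib.Solv.coprime_commutator_commutator Y₁ R (by rw [hRt]; exact le_top) hcopY (Or.inl hsolvY)
        rw [hc2] at hc3
        have hc4 : ⁅R, Y₁⁆ = ⊥ := hc3.symm
        intro u hu
        refine Subgroup.mem_centralizer_iff.2 ?_
        intro y hy
        exact (comm_bot_iff.1 hc4 u hu y hy).symm
      refine bot_of_cent_gfit hO hY₁ ?_
      intro a ha y hy
      have h1 : A ≤ centralizer (Y₁ : Set H) := sup_le hE hR
      exact (Subgroup.mem_centralizer_iff.1 (h1 ha) y hy).symm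
    refine ((Nat.Prime.coprime_iff_not_dvd hp.out).2 ?_).symm
    intro hd
    obtain ⟨w, hw⟩ := exists_prime_orderOf_dvd_card' p hd
    have hY : IsPGroup p (zpowers (w : H)) := by
      rw [IsPGroup.iff_card, Nat.card_zpowers, Subgroup.orderOf_coe, hw]
      exact ⟨1, (pow_one p).symm⟩
    have h1 := key _ hY (by rw [Subgroup.zpowers_le]; exact w.2)
    rw [Subgroup.zpowers_eq_bot] at h1
    have h2 : w = 1 := Subtype.ext h1
    rw [h2, orderOf_one] at hw
    exact hp.out.one_lt.ne hw

end CfsgLib.PAct
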