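import Cfsg.Agent.Lib.FGS.Cyc
import Cfsg.Agent.Lib.SS.UniqueP

/-! # Nilpotent groups whose noncentral elements have cyclic centralizers. -/

set_option autoImplicit false
set_option linter.unusedSectionVars false
set_option linter.style.haveILetI false

namespace CfsgLib.QuatCent

open Subgroup

section Quat

open QuaternionGroup

variable {n : ℕ} [hn : NeZero n]

lemma two_eq_zero_cases {i : ZMod (2 * n)} (h : i + i = 0) : i = 0 ∨ i = (n : ZMod (2 * n)) := by
  have hn0 : n ≠ 0 := NeZero.ne n
  haveI : NeZero (2 * n) := ⟨by omega⟩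
  have h1 : ((i.val + i.val : ℕ) : ZMod (2 * n)) = 0 := by
    push_cast
    rwa [ZMod.natCast_zmod_val]
  rw [ZMod.natCast_eq_zero_iff] at h1
  obtain ⟨c, hc⟩ := h1
  have hv := ZMod.val_lt i
  have h2 : i.val = n * c := by
    have : 2 * i.val = 2 * (n * c) := by rw [← mul_assoc, ← hc]; ring
    omega
  have hc2 : c < 2 := by
    by_contra hcc
    push Not at hcc
    have : n * 2 ≤ n * c := Nat.mul_le_mul_left n hcc
    omega
  have hiv : (i.val : ZMod (2 * n)) = i := ZMod.natCast_zmod_val i
  interval_cases c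
  · left
    rw [← hiv, h2]
    simp
  · right
    rw [← hiv, h2]
    simp

lemma exists_centralizer_eq (q : QuaternionGroup n) (hq : q ∉ center (QuaternionGroup n)) :
    ∃ g : QuaternionGroup n, centralizer ({q} : Set (QuaternionGroup n)) = zpowers g := by
  have hn0 : n ≠ 0 := NeZero.ne n
  haveI : NeZero (2 * n) := ⟨by omega⟩
  rcases q with i | i
  · have hi : i + i ≠ 0 := by
      intro h
      apply hq
      rw [Subgroup.mem_center_iff]
      have hneg : i = -i := eq_neg_of_add_eq_zero_left h
      rintro (j | j)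
      · simp [a_mul_a, add_comm]
      · simp only [a_mul_xa, xa_mul_a, xa.injEq]
        rw [sub_eq_add_neg, ← hneg]
    refine ⟨a 1, ?_⟩
    apply le_antisymm
    · intro y hy
      rw [Subgroup.mem_centralizer_singleton_iff] at hy
      rcases y with j | j
      · rw [mem_zpowers_iff]
        refine ⟨(j.val : ℤ), ?_⟩
        rw [zpow_natCast, a_one_pow, ZMod.natCast_zmod_val]
      · exfalso
        simp only [xa_mul_a, a_mul_xa, xa.injEq] at hy
        apply hi
        have h1 : i = -i := by
          have : j + i = j + -i := by rw [hy, sub_eq_add_neg]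
          exact add_left_cancel this
        exact (eq_neg_iff_add_eq_zero.1 h1)
    · rw [zpowers_le, Subgroup.mem_centralizer_singleton_iff]
      simp [a_mul_a, add_comm]
  · refine ⟨xa i, ?_⟩
    apply le_antisymm
    · intro y hy
      rw [Subgroup.mem_centralizer_singleton_iff] at hy
      rw [mem_zpowers_iff]
      rcases y with j | j
      · simp only [a_mul_xa, xa_mul_a, xa.injEq] at hy
        have h1 : j + j = 0 := by
          have h2 : i + -j = i + j := by rw [← sub_eq_add_neg, hy]
          have h3 : -j = j := add_left_cancel h2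
          exact neg_eq_iff_add_eq_zero.1 h3
        rcases two_eq_zero_cases h1 with rfl | rfl
        · exact ⟨0, by rw [zpow_zero, one_def]⟩
        · exact ⟨2, by rw [zpow_ofNat, xa_sq]⟩
      · simp only [xa_mul_xa, a.injEq] at hy
        have h1 : (i - j) + (i - j) = 0 := by
          have h2 : (n : ZMod (2 * n)) + i - j - ((n : ZMod (2 * n)) + j - i) = 0 := by rw [hy, sub_self]
          calc (i - j) + (i - j) = (n : ZMod (2 * n)) + i - j - ((n : ZMod (2 * n)) + j - i) := by ring
            _ = 0 := h2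
        rcases two_eq_zero_cases h1 with h | h
        · refine ⟨1, ?_⟩
          rw [zpow_one, sub_eq_zero.1 h]
        · refine ⟨3, ?_⟩
          rw [show (3 : ℤ) = ((2 + 1 : ℕ) : ℤ) by norm_num, zpow_natCast, pow_succ, xa_sq, a_mul_xa]
          congr 1
          rw [← h]
          ring
    · rw [zpowers_le, Subgroup.mem_centralizer_singleton_iff]

end Quat

/-- The reverse implication. -/
theorem reverse {G : Type*} [Group G] [Finite G] (k m : ℕ) (hm : Odd m)
    (e : G ≃* QuaternionGroup (2 ^ k) × Multiplicative (ZMod m)) (x : G) (hx : x ∉ center G) :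
    IsCyclic (centralizer ({x} : Set G)) := by
  classical
  haveI : NeZero (2 ^ k) := ⟨by positivity⟩
  have hm0 : m ≠ 0 := by
    rintro rfl
    simp at hm
  haveI : NeZero m := ⟨hm0⟩
  haveI : NeZero (2 * 2 ^ k) := ⟨by positivity⟩
  set q := (e x).1 with hq
  have hqc : q ∉ center (QuaternionGroup (2 ^ k)) := by
    intro h
    apply hx
    rw [Subgroup.mem_center_iff] at h ⊢
    intro y
    apply e.injective
    rw [map_mul, map_mul]
    refine Prod.ext ?_ ?_
    · exact h (e y).1
    · exact mul_comm _ _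
  obtain ⟨g, hg⟩ := exists_centralizer_eq q hqc
  have hf : ∀ w : ↥(zpowers g) × Multiplicative (ZMod m),
      e.symm ((w.1 : QuaternionGroup (2 ^ k)), w.2) ∈ centralizer ({x} : Set G) := by
    rintro ⟨u, v⟩
    rw [Subgroup.mem_centralizer_singleton_iff]
    apply e.injective
    rw [map_mul, map_mul, MulEquiv.apply_symm_apply]
    refine Prod.ext ?_ ?_
    · have h1 : (u : QuaternionGroup (2 ^ k)) ∈ centralizer ({q} : Set (QuaternionGroup (2 ^ k))) := by
        rw [hg]; exact u.2
      rw [Subgroup.mem_centralizer_singleton_iff] at h1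
      exact h1
    · exact mul_comm _ _
  let f0 : ↥(zpowers g) × Multiplicative (ZMod m) →* G :=
    e.symm.toMonoidHom.comp (MonoidHom.prodMap (zpowers g).subtype (MonoidHom.id _))
  let f : ↥(zpowers g) × Multiplicative (ZMod m) →* centralizer ({x} : Set G) :=
    f0.codRestrict _ (fun w => hf w)
  have hsurj : Function.Surjective f := by
    rintro ⟨y, hy⟩
    rw [Subgroup.mem_centralizer_singleton_iff] at hy
    have h1 : (e y).1 ∈ centralizer ({q} : Set (QuaternionGroup (2 ^ k))) := by
      rw [Subgroup.mem_centralizer_singleton_iff]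
      have := congrArg e hy
      rw [map_mul, map_mul] at this
      exact congrArg Prod.fst this
    rw [hg] at h1
    refine ⟨(⟨(e y).1, h1⟩, (e y).2), ?_⟩
    apply Subtype.ext
    show e.symm ((e y).1, (e y).2) = y
    simp
  have hcyc : IsCyclic (↥(zpowers g) × Multiplicative (ZMod m)) := by
    rw [Group.isCyclic_prod_iff]
    refine ⟨inferInstance, ?_, ?_⟩
    · exact inferInstanceAs (IsCyclic (Multiplicative (ZMod m)))
    · have h2 : Nat.card (zpowers g) ∣ 2 ^ (k + 2) := by
        have h3 := Subgroup.card_subgroup_dvd_card (zpowers g)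
        rw [Nat.card_eq_fintype_card (α := QuaternionGroup (2 ^ k)), QuaternionGroup.card] at h3
        rwa [show 4 * 2 ^ k = 2 ^ (k + 2) by rw [pow_add]; ring] at h3
      have h4 : Nat.card (Multiplicative (ZMod m)) = m := by
        rw [Nat.card_congr Multiplicative.toAdd, Nat.card_zmod]
      rw [h4]
      exact Nat.Coprime.coprime_dvd_left h2 (Nat.Coprime.pow_left _ (Nat.coprime_two_left.2 hm))
  exact isCyclic_of_surjective f hsurj

/-- In a cyclic group, an element whose order divides that of `e` lies in `⟨e⟩`. -/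
lemma mem_zpowers_of_order_dvd {C : Type*} [Group C] [Finite C] [IsCyclic C] {e f : C}
    (h : orderOf f ∣ orderOf e) : f ∈ zpowers e := by
  classical
  haveI := Fintype.ofFinite C
  have hd : 0 < orderOf e := orderOf_pos e
  have h1 := IsCyclic.card_pow_eq_one_le (α := C) hd
  set S : Finset C := Finset.univ.filter (fun x : C => x ^ orderOf e = 1) with hS
  set T : Finset C := Finset.univ.filter (fun x : C => x ∈ zpowers e) with hT
  have hTS : T ⊆ S := by
    intro x hx
    simp only [hT, Finset.mem_filter, Finset.mem_univ, true_and] at hx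
    simp only [hS, Finset.mem_filter, Finset.mem_univ, true_and]
    obtain ⟨i, rfl⟩ := mem_zpowers_iff.1 hx
    rw [← zpow_natCast, ← zpow_mul, mul_comm, zpow_mul, zpow_natCast, pow_orderOf_eq_one, one_zpow]
  have hTc : T.card = orderOf e := by
    rw [← Nat.card_zpowers, Nat.card_eq_fintype_card, Fintype.card_subtype]
  have hTS2 : T = S := Finset.eq_of_subset_of_card_le hTS (by rw [hTc]; exact h1)
  have hfS : f ∈ S := by
    simp only [hS, Finset.mem_filter, Finset.mem_univ, true_and]
    exact orderOf_dvd_iff_pow_eq_one.1 h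
  rw [← hTS2] at hfS
  simpa [hT] using hfS

/-- A cyclic subgroup contains at most one subgroup of each order. -/
lemma zpowers_eq_of_cyclic {G : Type*} [Group G] [Finite G] (C : Subgroup G) [hC : IsCyclic C]
    {e f : G} (he : e ∈ C) (hf : f ∈ C) (h : orderOf e = orderOf f) : zpowers e = zpowers f := by
  have key : ∀ {e f : G} (he : e ∈ C) (hf : f ∈ C), orderOf e = orderOf f → f ∈ zpowers e := by
    intro e f he hf h
    have h1 : (⟨f, hf⟩ : C) ∈ zpowers (⟨e, he⟩ : C) := by
      apply mem_zpowers_of_order_dvd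
      rw [Subgroup.orderOf_mk, Subgroup.orderOf_mk, h]
    obtain ⟨i, hi⟩ := mem_zpowers_iff.1 h1
    refine mem_zpowers_iff.2 ⟨i, ?_⟩
    have := congrArg Subtype.val hi
    simpa using this
  apply le_antisymm
  · rw [zpowers_le]; exact key hf he h.symm
  · rw [zpowers_le]; exact key he hf h

/-- The forward implication. -/
theorem forward {G : Type*} [Group G] [Finite G] (hG : Group.IsNilpotent G)
    (hna : ¬ IsMulCommutative G)
    (hC : ∀ x : G, x ∉ center G → IsCyclic (centralizer ({x} : Set G))) :
    ∃ (k m : ℕ), 1 ≤ k ∧ Odd m ∧ Nonempty (G ≃* QuaternionGroup (2 ^ k) × Multiplicative (ZMod m)) := by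
  classical
  -- a nonabelian Sylow subgroup
  obtain ⟨p, hp, P, hPna⟩ : ∃ (p : ℕ) (_ : Fact p.Prime) (P : Sylow p G),
      ¬ ∀ x ∈ (P : Subgroup G), ∀ y ∈ (P : Subgroup G), x * y = y * x := by
    by_contra hcon
    push Not at hcon
    apply hna
    have hq (q : { x // x ∈ (Nat.card G).primeFactors }) : Fact q.1.Prime :=
      ⟨Nat.prime_of_mem_primeFactors q.2⟩
    obtain ⟨ϕ⟩ := ((Group.isNilpotent_of_finite_tfae (G := G)).out 0 4).mp hG
    have hcomm : ∀ g h : G, g * h = h * g := by
      intro g h
      have h1 : ϕ.symm g * ϕ.symm h = ϕ.symm h * ϕ.symm g := by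
        funext q Q
        apply Subtype.ext
        exact hcon q.1 (hq q) Q _ (ϕ.symm g q Q).2 _ (ϕ.symm h q Q).2
      rw [← map_mul, ← map_mul] at h1
      exact ϕ.symm.injective h1
    exact ⟨⟨hcomm⟩⟩
  obtain ⟨x₁, hx₁, y₁, hy₁, hxy⟩ : ∃ x₁ ∈ (P : Subgroup G), ∃ y₁ ∈ (P : Subgroup G), x₁ * y₁ ≠ y₁ * x₁ := by
    by_contra hcon
    push Not at hcon
    exact hPna hcon
  have hnormal : ∀ (p : ℕ) (_ : Fact p.Prime) (P : Sylow p G), (P : Subgroup G).Normal :=
    ((Group.isNilpotent_of_finite_tfae (G := G)).out 0 3).mp hG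
  haveI hPn : (P : Subgroup G).Normal := hnormal p hp P
  have hcopP : (Nat.card (P : Subgroup G)).Coprime (P : Subgroup G).index := P.card_coprime_index
  obtain ⟨K, hK⟩ := Subgroup.exists_right_complement'_of_coprime hcopP
  have hKc : Nat.card K = (P : Subgroup G).index := hK.symm.index_eq_card.symm
  have hKp : (Nat.card K).Coprime p := by
    rw [hKc]
    exact (Nat.Prime.coprime_iff_not_dvd hp.out).2 P.not_dvd_index |>.symm
  haveI : Group.IsNilpotent G := hG
  have hcomm : ∀ u ∈ (P : Subgroup G), ∀ v ∈ K, u * v = v * u := by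
    intro u hu v hv
    apply CfsgLib.FGS.commute_of_coprime_of_nilpotent _ G rfl
    obtain ⟨j, hj⟩ := (IsPGroup.iff_orderOf.1 P.2) ⟨u, hu⟩
    rw [Subgroup.orderOf_mk] at hj
    rw [hj]
    apply Nat.Coprime.pow_left
    have h1 : orderOf v ∣ Nat.card K := by
      have := orderOf_dvd_natCard (⟨v, hv⟩ : K)
      rwa [Subgroup.orderOf_mk] at this
    exact (Nat.Coprime.coprime_dvd_left h1 hKp).symm
  -- noncentrality
  have hnoncent : ∀ x ∈ (P : Subgroup G), (∃ y ∈ (P : Subgroup G), x * y ≠ y * x) → x ∉ center G := by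
    intro x _ ⟨y, _, hxy⟩ hc
    exact hxy ((Subgroup.mem_center_iff.1 hc y).symm)
  have hx₁n : x₁ ∉ center G := hnoncent x₁ hx₁ ⟨y₁, hy₁, hxy⟩
  haveI hcx₁ := hC x₁ hx₁n
  have hKcyc : IsCyclic K := by
    have hle : K ≤ centralizer ({x₁} : Set G) := by
      intro v hv
      rw [Subgroup.mem_centralizer_singleton_iff]
      exact (hcomm x₁ hx₁ v hv).symm
    exact Subgroup.isCyclic_of_le hle
  -- a central element of order `p`
  have hPnontriv : Nontrivial (P : Subgroup G) := by
    refine ⟨⟨⟨x₁, hx₁⟩, 1, fun h => ?_⟩⟩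
    have h1 : x₁ = 1 := congrArg Subtype.val h
    apply hxy
    rw [h1]
    simp
  have hZne : Nontrivial (center (P : Subgroup G)) := P.2.center_nontrivial
  have hZp : IsPGroup p (center (P : Subgroup G)) := P.2.to_subgroup _
  obtain ⟨j, hj⟩ := IsPGroup.iff_card.1 hZp
  have hZdvd : p ∣ Nat.card (center (P : Subgroup G)) := by
    have h1 : Nat.card (center (P : Subgroup G)) ≠ 1 := (Finite.one_lt_card).ne'
    rw [hj] at h1 ⊢
    have hj0 : j ≠ 0 := by
      rintro rfl
      exact h1 (pow_zero p)
    exact dvd_pow_self p hj0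
  obtain ⟨z', hz'⟩ := exists_prime_orderOf_dvd_card' p hZdvd
  set z₀ : G := ((z' : (P : Subgroup G)) : G) with hz₀
  have hz₀P : z₀ ∈ (P : Subgroup G) := (z' : (P : Subgroup G)).2
  have hz₀ord : orderOf z₀ = p := by
    rw [hz₀, Subgroup.orderOf_coe, Subgroup.orderOf_coe, hz']
  have hz₀cent : ∀ y ∈ (P : Subgroup G), y * z₀ = z₀ * y := by
    intro y hy
    have := (Subgroup.mem_center_iff.1 z'.2) ⟨y, hy⟩
    exact congrArg Subtype.val this
  have hunique : ∀ e ∈ (P : Subgroup G), orderOf e = p → zpowers e = zpowers z₀ := by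
    intro e he heo
    by_cases hecent : ∃ y ∈ (P : Subgroup G), e * y ≠ y * e
    · have hen := hnoncent e he hecent
      haveI hce := hC e hen
      apply zpowers_eq_of_cyclic (centralizer ({e} : Set G))
      · rw [Subgroup.mem_centralizer_singleton_iff]
      · rw [Subgroup.mem_centralizer_singleton_iff]
        exact (hz₀cent e he).symm
      · rw [heo, hz₀ord]
    · push Not at hecent
      apply zpowers_eq_of_cyclic (centralizer ({x₁} : Set G))
      · rw [Subgroup.mem_centralizer_singleton_iff]
        exact hecent x₁ hx₁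
      · rw [Subgroup.mem_centralizer_singleton_iff]
        exact (hz₀cent x₁ hx₁).symm
      · rw [heo, hz₀ord]
  have hsub : ∀ H : Subgroup (P : Subgroup G), Nat.card H = p →
      H.map (P : Subgroup G).subtype = zpowers z₀ := by
    intro H hH
    haveI : Fact p.Prime := hp
    have hHnt : Nontrivial H := by
      apply (Finite.one_lt_card_iff_nontrivial).1
      exact lt_of_lt_of_eq hp.out.one_lt hH.symm
    obtain ⟨h, hh⟩ := exists_ne (1 : H)
    have hord : orderOf ((h : (P : Subgroup G)) : G) = p := by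
      rw [Subgroup.orderOf_coe, Subgroup.orderOf_coe]
      have h1 : orderOf h ∣ p := (orderOf_dvd_natCard h).trans (dvd_of_eq hH)
      rcases (Nat.dvd_prime hp.out).1 h1 with h2 | h2
      · exact absurd (orderOf_eq_one_iff.1 h2) hh
      · exact h2
    have hEq : H = zpowers (h : (P : Subgroup G)) := by
      apply (Subgroup.eq_of_le_of_card_ge (zpowers_le.2 h.2) ?_).symm
      rw [hH, Nat.card_zpowers, Subgroup.orderOf_coe]
      rw [Subgroup.orderOf_coe, Subgroup.orderOf_coe] at hord
      rw [hord]
    have h3 := hunique _ (h : (P : Subgroup G)).2 hord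
    rw [hEq, MonoidHom.map_zpowers]
    exact h3
  have huniq : ∀ H L : Subgroup (P : Subgroup G), Nat.card H = p → Nat.card L = p → H = L := by
    intro H L hH hL
    apply Subgroup.map_injective (P : Subgroup G).subtype_injective
    rw [hsub H hH, hsub L hL]
  have hnoncyc : ¬ IsCyclic (P : Subgroup G) := by
    intro hc
    obtain ⟨g, hg⟩ := hc.exists_generator
    apply hxy
    obtain ⟨i, hi⟩ := mem_zpowers_iff.1 (hg ⟨x₁, hx₁⟩)
    obtain ⟨l, hl⟩ := mem_zpowers_iff.1 (hg ⟨y₁, hy₁⟩)
    have h1 : Commute (⟨x₁, hx₁⟩ : (P : Subgroup G)) ⟨y₁, hy₁⟩ := by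
      rw [← hi, ← hl]
      exact (Commute.refl g).zpow_zpow i l
    exact congrArg Subtype.val h1.eq
  rcases CfsgLib.SS.unique_prime_subgroup p P.2 huniq with h | ⟨rfl, n, ⟨eP⟩⟩
  · exact absurd h hnoncyc
  have hn1 : 1 ≤ n := by
    by_contra hn
    have hn0 : n = 0 := by omega
    subst hn0
    haveI h1 : IsCyclic (QuaternionGroup (2 ^ 0)) := QuaternionGroup.quaternionGroup_one_isCyclic
    exact hnoncyc (isCyclic_of_surjective eP.symm eP.symm.surjective)
  refine ⟨n, Nat.card K, hn1, Nat.coprime_two_right.1 hKp, ?_⟩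
  let ψ : ↥(P : Subgroup G) × ↥K →* G := MonoidHom.noncommCoprod (P : Subgroup G).subtype K.subtype
    (fun u v => hcomm u u.2 v v.2)
  have hψ : Function.Bijective ψ := hK
  exact ⟨(MulEquiv.ofBijective ψ hψ).symm.trans
    (MulEquiv.prodCongr eP (zmodCyclicMulEquiv hKcyc).symm)⟩

end CfsgLib.QuatCent
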