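import Cfsg.Agent.Lib.Fusion.Quick
import Cfsg.Agent.Lib.Trans.Frob
import Cfsg.Prelude.Def_TwoFusion

/-! A Frobenius normal complement criterion relative to a strongly closed subgroup. -/

set_option autoImplicit false

namespace CfsgLib.RelFrob

open Subgroup Cfsg

/-- Frattini reduction. -/
theorem frattini_good {X : Type*} [Group X] [Finite X] {p : ℕ} [Fact p.Prime] (T : Sylow p X)
    (Q C : Subgroup X) [hQn : Q.Normal] [hCn : C.Normal] (hQ : IsPGroup p Q)
    (hyp : ∀ y ∈ normalizer ((((T : Subgroup X) ⊓ (Q ⊔ C) : Subgroup X)) : Set X),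
      (orderOf y).Coprime p → y ∈ C) (x : X) (hx : (orderOf x).Coprime p) : x ∈ C := by
  let π := QuotientGroup.mk' C
  have hsurj : Function.Surjective π := QuotientGroup.mk'_surjective C
  haveI : (Q ⊔ C).Normal := Subgroup.sup_normal Q C
  obtain ⟨a, m, hm, hcard⟩ : ∃ a m : ℕ, ¬ p ∣ m ∧ Nat.card X = p ^ a * m := by
    obtain ⟨a, m, hm, h⟩ := Nat.exists_eq_pow_mul_and_not_dvd (Nat.card_pos (α := X)).ne'
      p (Fact.out : p.Prime).ne_one
    exact ⟨a, m, hm, h⟩
  have hmc : m.Coprime p := ((Nat.Prime.coprime_iff_not_dvd Fact.out).2 hm).symm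
  set N₁ := normalizer ((((T : Subgroup X) ⊓ (Q ⊔ C) : Subgroup X)) : Set X) with hN₁
  have hA : IsPGroup p (N₁.map π) := by
    rintro ⟨_, y, hy, rfl⟩
    refine ⟨a, ?_⟩
    apply Subtype.ext
    change π y ^ (p ^ a) = 1
    rw [← map_pow]
    apply (QuotientGroup.eq_one_iff _).2
    apply hyp _ (N₁.pow_mem hy _)
    have h1 : orderOf (y ^ (p ^ a)) ∣ m := by
      apply orderOf_dvd_of_pow_eq_one
      rw [← pow_mul, ← hcard, pow_card_eq_one']
    exact Nat.Coprime.coprime_dvd_left h1 hmc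
  have hB : IsPGroup p ((Q ⊔ C).map π) := by
    have : (Q ⊔ C).map π = Q.map π := by
      rw [Subgroup.map_sup]
      have : C.map π = ⊥ := by
        rw [Subgroup.map_eq_bot_iff, QuotientGroup.ker_mk']
      rw [this, sup_bot_eq]
    rw [this]
    exact hQ.map π
  haveI hBn : ((Q ⊔ C).map π).Normal := Subgroup.Normal.map inferInstance π hsurj
  have hsup : N₁.map π ⊔ (Q ⊔ C).map π = ⊤ := by
    rw [← Subgroup.map_sup]
    have : N₁ ⊔ (Q ⊔ C) = ⊤ := by
      rw [eq_top_iff]
      intro α _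
      obtain ⟨β, hβ, hβα⟩ := CfsgLib.Fusion.frattini_trace T (Q ⊔ C) α
      have : α = β⁻¹ * (β * α) := by group
      rw [this]
      exact Subgroup.mul_mem _ (mem_sup_right (inv_mem hβ)) (mem_sup_left hβα)
    rw [this, Subgroup.map_top_of_surjective _ hsurj]
  have hP : IsPGroup p (N₁.map π ⊔ (Q ⊔ C).map π : Subgroup (X ⧸ C)) :=
    IsPGroup.to_sup_of_normal_right hA hB
  rw [hsup] at hP
  obtain ⟨k, hk⟩ := hP ⟨π x, trivial⟩
  have hk' : π x ^ (p ^ k) = 1 := by
    have := congrArg Subtype.val hk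
    simpa using this
  have h1 : orderOf (π x) ∣ p ^ k := orderOf_dvd_of_pow_eq_one hk'
  have h2 : orderOf (π x) ∣ orderOf x := orderOf_map_dvd π x
  have h3 : (orderOf x).Coprime (p ^ k) := Nat.Coprime.pow_right k hx
  have h4 : orderOf (π x) = 1 := Nat.Coprime.eq_one_of_dvd (Nat.Coprime.coprime_dvd_left h2 h3) h1
  rw [orderOf_eq_one_iff] at h4
  exact (QuotientGroup.eq_one_iff _).1 h4

variable {G : Type*} [Group G] [Finite G] {p : ℕ} [Fact p.Prime]

theorem mem_normalizer_of_subgroupOf {T A : Subgroup G} (hA : A ≤ T) (y : T)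
    (hy : y ∈ normalizer ((A.subgroupOf T : Subgroup T) : Set T)) :
    (y : G) ∈ normalizer (A : Set G) := by
  rw [Subgroup.mem_normalizer_iff] at hy ⊢
  intro z
  constructor
  · intro hz
    have h1 := (hy ⟨z, hA hz⟩).1 (Subgroup.mem_subgroupOf.2 hz)
    exact Subgroup.mem_subgroupOf.1 h1
  · intro hz
    have hzT : z ∈ T := by
      have h1 := hA hz
      have h2 : z = (y : G)⁻¹ * ((y : G) * z * (y : G)⁻¹) * y := by group
      rw [h2]
      exact T.mul_mem (T.mul_mem (T.inv_mem y.2) h1) y.2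
    have h1 := (hy ⟨z, hzT⟩).2 (Subgroup.mem_subgroupOf.2 hz)
    exact Subgroup.mem_subgroupOf.1 h1

theorem frattini_good_in (T Q C S₀ : Subgroup G) (hQT : Q ≤ T) (hTQ : T ≤ normalizer (Q : Set G))
    (hCT : C ≤ T) (hTC : T ≤ normalizer (C : Set G)) (hQp : IsPGroup p Q) (hS₀T : S₀ ≤ T)
    (hS₀p : IsPGroup p S₀) (hidx : ¬ p ∣ S₀.relIndex T)
    (hyp : ∀ y ∈ T, y ∈ normalizer ((S₀ ⊓ (Q ⊔ C) : Subgroup G) : Set G) →
      (orderOf y).Coprime p → y ∈ C) (x : G) (hxT : x ∈ T) (hx : (orderOf x).Coprime p) : x ∈ C := by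
  have h1 : IsPGroup p (S₀.subgroupOf T) :=
    hS₀p.of_equiv (Subgroup.subgroupOfEquivOfLe hS₀T).symm
  let T' : Sylow p T := h1.toSylow hidx
  have hT' : (T' : Subgroup T) = S₀.subgroupOf T := rfl
  haveI hQn : (Q.subgroupOf T).Normal := (normal_subgroupOf_iff_le_normalizer hQT).2 hTQ
  haveI hCn : (C.subgroupOf T).Normal := (normal_subgroupOf_iff_le_normalizer hCT).2 hTC
  have hQ' : IsPGroup p (Q.subgroupOf T) :=
    hQp.of_equiv (Subgroup.subgroupOfEquivOfLe hQT).symm
  have key := frattini_good T' (Q.subgroupOf T) (C.subgroupOf T) hQ' (by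
    intro y hy hcop
    have e : (T' : Subgroup T) ⊓ (Q.subgroupOf T ⊔ C.subgroupOf T) =
        (S₀ ⊓ (Q ⊔ C)).subgroupOf T := by
      rw [hT', ← subgroupOf_sup hQT hCT]
      ext z
      simp [Subgroup.mem_inf, Subgroup.mem_subgroupOf]
    rw [e] at hy
    have h2 := mem_normalizer_of_subgroupOf (inf_le_left.trans hS₀T) y hy
    have h3 : (orderOf (y : G)).Coprime p := by rwa [Subgroup.orderOf_coe]
    exact Subgroup.mem_subgroupOf.2 (hyp y y.2 h2 h3)) ⟨x, hxT⟩ (by
      rwa [Subgroup.orderOf_mk])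
  exact Subgroup.mem_subgroupOf.1 key

/-- Action from a normal complement. -/
theorem centralizes_of_npc {U W : Subgroup G} (hU : HasNormalPComplement p (normalizer (U : Set G)))
    (hWp : IsPGroup p W) (hWU : W ≤ normalizer (U : Set G)) {y : G}
    (hyU : y ∈ normalizer (U : Set G)) (hyW : y ∈ normalizer (W : Set G))
    (hy : (orderOf y).Coprime p) : y ∈ centralizer (W : Set G) := by
  obtain ⟨K, hKn, hKc, k, hKi⟩ := CfsgLib.Trans.hasNormalPComplement_iff.1 hU
  haveI := hKn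
  have hyK : (⟨y, hyU⟩ : normalizer (U : Set G)) ∈ K := by
    apply CfsgLib.Trans.mem_of_coprime_index
    rw [hKi, Subgroup.orderOf_mk]
    exact Nat.Coprime.pow_right k hy
  rw [mem_centralizer_iff]
  intro w hw
  set w' : normalizer (U : Set G) := ⟨w, hWU hw⟩
  set y' : normalizer (U : Set G) := ⟨y, hyU⟩
  have h1 : y' * w' * y'⁻¹ * w'⁻¹ ∈ K := by
    have e : y' * w' * y'⁻¹ * w'⁻¹ = y' * (w' * y'⁻¹ * w'⁻¹) := by group
    rw [e]
    exact K.mul_mem hyK (hKn.conj_mem _ (K.inv_mem hyK) w')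
  set c := y' * w' * y'⁻¹ * w'⁻¹ with hc
  have hcW : (c : G) ∈ W := by
    have : (c : G) = y * w * y⁻¹ * w⁻¹ := rfl
    rw [this]
    exact W.mul_mem (((Subgroup.mem_normalizer_iff.1 hyW) w).1 hw) (W.inv_mem hw)
  obtain ⟨j, hj⟩ := hWp ⟨c, hcW⟩
  have hj' : c ^ (p ^ j) = 1 := by
    apply Subtype.ext
    have := congrArg Subtype.val hj
    simpa using this
  have hK1 : orderOf (⟨c, h1⟩ : K) ∣ Nat.card K := orderOf_dvd_natCard _
  have hK2 : orderOf (⟨c, h1⟩ : K) ∣ p ^ j := by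
    apply orderOf_dvd_of_pow_eq_one
    apply Subtype.ext
    simpa using hj'
  have hK3 : orderOf (⟨c, h1⟩ : K) = 1 :=
    Nat.Coprime.eq_one_of_dvd (Nat.Coprime.coprime_dvd_left hK1 (Nat.Coprime.pow_right j hKc)) hK2
  rw [orderOf_eq_one_iff] at hK3
  have h4 : c = 1 := congrArg Subtype.val hK3
  have h5 : y * w * y⁻¹ * w⁻¹ = 1 := congrArg Subtype.val h4
  rw [mul_inv_eq_one, mul_inv_eq_iff_eq_mul] at h5
  exact h5.symm

/-- conjugation of a subgroup -/
def conjS (g : G) (Q : Subgroup G) : Subgroup G := Q.map (MulAut.conj g).toMonoidHom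

theorem mem_conjS {g y : G} {Q : Subgroup G} : y ∈ conjS g Q ↔ g⁻¹ * y * g ∈ Q := by
  constructor
  · rintro ⟨q, hq, rfl⟩
    have : g⁻¹ * ((MulAut.conj g).toMonoidHom q) * g = q := by
      simp [MulAut.conj_apply]; group
    rwa [this]
  · intro h
    refine ⟨_, h, ?_⟩
    simp [MulAut.conj_apply]; group

theorem conjS_mono {g : G} {A B : Subgroup G} (h : A ≤ B) : conjS g A ≤ conjS g B :=
  Subgroup.map_mono h

theorem conj_mem_normalizer {g x : G} {Q : Subgroup G} (hx : x ∈ normalizer (Q : Set G)) :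
    g * x * g⁻¹ ∈ normalizer ((conjS g Q : Subgroup G) : Set G) := by
  rw [Subgroup.mem_normalizer_iff] at hx ⊢
  intro z
  rw [mem_conjS, mem_conjS]
  have := hx (g⁻¹ * z * g)
  have e : g⁻¹ * (g * x * g⁻¹ * z * (g * x * g⁻¹)⁻¹) * g = x * (g⁻¹ * z * g) * x⁻¹ := by group
  rw [e]
  exact this

theorem mem_centralizer_of_conj {g x : G} {Q : Subgroup G}
    (h : g * x * g⁻¹ ∈ centralizer ((conjS g Q : Subgroup G) : Set G)) :
    x ∈ centralizer (Q : Set G) := by
  rw [mem_centralizer_iff] at h ⊢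
  intro q hq
  have h1 : g * q * g⁻¹ ∈ conjS g Q := by
    rw [mem_conjS]
    have : g⁻¹ * (g * q * g⁻¹) * g = q := by group
    rwa [this]
  have h2 := h _ h1
  have h3 : g * (q * x) * g⁻¹ = g * (x * q) * g⁻¹ := by
    calc g * (q * x) * g⁻¹ = g * q * g⁻¹ * (g * x * g⁻¹) := by group
      _ = g * x * g⁻¹ * (g * q * g⁻¹) := h2
      _ = _ := by group
  have h4 := mul_left_cancel (mul_right_cancel h3)
  exact h4

theorem orderOf_conj' (g x : G) : orderOf (g * x * g⁻¹) = orderOf x := by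
  have : g * x * g⁻¹ = MulAut.conj g x := rfl
  rw [this, MulEquiv.orderOf_eq]

theorem card_conjS (g : G) (Q : Subgroup G) : Nat.card (conjS g Q) = Nat.card Q :=
  Subgroup.card_map_of_injective (MulAut.conj g).injective

theorem isPGroup_conjS (g : G) {Q : Subgroup G} (h : IsPGroup p Q) : IsPGroup p (conjS g Q) :=
  h.map _

/-- fully normalized conjugates -/
theorem exists_fully_normalized (S : Sylow p G) {Q : Subgroup G} (hQ : IsPGroup p Q) :
    ∃ g : G, conjS g Q ≤ S ∧
      ¬ p ∣ ((S : Subgroup G) ⊓ normalizer ((conjS g Q : Subgroup G) : Set G)).relIndex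
        (normalizer ((conjS g Q : Subgroup G) : Set G)) := by
  set T := normalizer (Q : Set G) with hT
  let P₀ : Sylow p T := default
  set P₁ := (P₀ : Subgroup T).map T.subtype with hP₁
  have hP₁p : IsPGroup p P₁ := P₀.isPGroup'.map _
  obtain ⟨P₂, hP₂⟩ := hP₁p.exists_le_sylow
  obtain ⟨g, hg⟩ := MulAction.exists_smul_eq G P₂ S
  have hgT : ((g • P₂ : Sylow p G) : Subgroup G) = (S : Subgroup G) := congrArg _ hg
  have hgP : ((g • P₂ : Sylow p G) : Subgroup G) = conjS g (P₂ : Subgroup G) := rfl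
  have hQT : Q ≤ T := Subgroup.le_normalizer
  have hQP₁ : Q ≤ P₁ := by
    haveI hQn : (Q.subgroupOf T).Normal := (normal_subgroupOf_iff_le_normalizer hQT).2 le_rfl
    have hQ' : IsPGroup p (Q.subgroupOf T) :=
      hQ.of_equiv (Subgroup.subgroupOfEquivOfLe hQT).symm
    have h1 : IsPGroup p ((P₀ : Subgroup T) ⊔ Q.subgroupOf T : Subgroup T) :=
      IsPGroup.to_sup_of_normal_right P₀.isPGroup' hQ'
    have h2 := P₀.3 h1 le_sup_left
    have h3 : Q.subgroupOf T ≤ (P₀ : Subgroup T) := by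
      rw [← h2]; exact le_sup_right
    intro q hq
    exact ⟨⟨q, hQT hq⟩, h3 (Subgroup.mem_subgroupOf.2 hq), rfl⟩
  refine ⟨g, ?_, ?_⟩
  · rw [← hgT, hgP]
    exact conjS_mono (hQP₁.trans hP₂)
  · have hN : normalizer ((conjS g Q : Subgroup G) : Set G) = conjS g T := by
      exact (Subgroup.map_equiv_normalizer_eq Q (MulAut.conj g)).symm
    rw [hN]
    have h1 : conjS g P₁ ≤ (S : Subgroup G) ⊓ conjS g T := by
      refine le_inf ?_ (conjS_mono (Subgroup.map_subtype_le _))
      rw [← hgT, hgP]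
      exact conjS_mono hP₂
    have h2 : (conjS g P₁).relIndex (conjS g T) = P₁.relIndex T :=
      Subgroup.relIndex_map_map_of_injective _ _ (MulAut.conj g).injective
    have h3 : P₁.relIndex T = (P₀ : Subgroup T).index := by
      rw [hP₁, Subgroup.relIndex, Subgroup.subgroupOf,
        Subgroup.comap_map_eq_self_of_injective T.subtype_injective]
    have h4 : ((S : Subgroup G) ⊓ conjS g T).relIndex (conjS g T) ∣ (conjS g P₁).relIndex (conjS g T) :=
      Subgroup.relIndex_dvd_of_le_left _ h1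
    intro hdvd
    apply P₀.not_dvd_index
    rw [← h3, ← h2]
    exact hdvd.trans h4

omit [Finite G] [Fact p.Prime] in
theorem mem_sup_of_le_normalizer {Q D : Subgroup G} (h : Q ≤ normalizer (D : Set G)) {w : G}
    (hw : w ∈ Q ⊔ D) : ∃ q ∈ Q, ∃ d ∈ D, w = q * d := by
  let W : Subgroup G :=
    { carrier := {w | ∃ q ∈ Q, ∃ d ∈ D, w = q * d}
      one_mem' := ⟨1, Q.one_mem, 1, D.one_mem, by simp⟩
      mul_mem' := by
        rintro _ _ ⟨q₁, h₁, d₁, e₁, rfl⟩ ⟨q₂, h₂, d₂, e₂, rfl⟩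
        refine ⟨q₁ * q₂, Q.mul_mem h₁ h₂, q₂⁻¹ * d₁ * q₂ * d₂, D.mul_mem ?_ e₂, by group⟩
        have := ((Subgroup.mem_normalizer_iff.1 (h (Q.inv_mem h₂))) d₁).1 e₁
        simpa using this
      inv_mem' := by
        rintro _ ⟨q, hq, d, hd, rfl⟩
        refine ⟨q⁻¹, Q.inv_mem hq, q * d⁻¹ * q⁻¹, ?_, by group⟩
        exact ((Subgroup.mem_normalizer_iff.1 (h hq)) d⁻¹).1 (D.inv_mem hd) }
  have hle : Q ⊔ D ≤ W := by
    refine sup_le (fun q hq => ⟨q, hq, 1, D.one_mem, by simp⟩) (fun d hd => ⟨1, Q.one_mem, d, hd, by simp⟩)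
  exact hle hw

section main

variable (S : Sylow p G) (D : Subgroup G) (hD : IsStronglyClosed D (S : Subgroup G))
  (hyp : ∀ U : Subgroup G, U ≤ D → D ⊓ centralizer (U : Set G) ≤ U →
    HasNormalPComplement p (normalizer (U : Set G)))

include hD in
theorem conj_mem_of_S {s a : G} (hs : s ∈ (S : Subgroup G)) (ha : a ∈ D) : s * a * s⁻¹ ∈ D := by
  apply hD.2 a ha s
  exact (S : Subgroup G).mul_mem ((S : Subgroup G).mul_mem hs (hD.1 ha)) ((S : Subgroup G).inv_mem hs)

include hD hyp in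
/-- normalizers of fully normalized subgroups of `D` -/
theorem good_D_fn {R : Subgroup G} (hRD : R ≤ D)
    (hfn : ¬ p ∣ ((S : Subgroup G) ⊓ normalizer (R : Set G)).relIndex (normalizer (R : Set G)))
    {x : G} (hxT : x ∈ normalizer (R : Set G)) (hx : (orderOf x).Coprime p) :
    x ∈ centralizer (R : Set G) := by
  set T := normalizer (R : Set G) with hT
  have hRp : IsPGroup p R := S.isPGroup'.to_le (hRD.trans hD.1)
  have hRT : R ≤ T := Subgroup.le_normalizer
  set C := T ⊓ centralizer (R : Set G) with hC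
  have hCT : C ≤ T := inf_le_left
  have hTC : T ≤ normalizer (C : Set G) := by
    intro t ht
    rw [Subgroup.mem_normalizer_iff]
    have key : ∀ t ∈ T, ∀ c ∈ C, t * c * t⁻¹ ∈ C := by
      intro t ht c hc
      obtain ⟨hc1, hc2⟩ := Subgroup.mem_inf.1 hc
      refine Subgroup.mem_inf.2 ⟨T.mul_mem (T.mul_mem ht hc1) (T.inv_mem ht), ?_⟩
      rw [mem_centralizer_iff] at hc2 ⊢
      intro r hr
      have h1 : t⁻¹ * r * t ∈ R := by
        have := ((Subgroup.mem_normalizer_iff.1 (T.inv_mem ht)) r).1 hr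
        simpa using this
      have h2 := hc2 _ h1
      calc r * (t * c * t⁻¹) = t * ((t⁻¹ * r * t) * c) * t⁻¹ := by group
        _ = t * (c * (t⁻¹ * r * t)) * t⁻¹ := by rw [h2]
        _ = _ := by group
    intro z
    constructor
    · exact key t ht z
    · intro hz
      have := key t⁻¹ (T.inv_mem ht) _ hz
      have e : t⁻¹ * (t * z * t⁻¹) * t⁻¹⁻¹ = z := by group
      rwa [e] at this
  have hS₀T : (S : Subgroup G) ⊓ T ≤ T := inf_le_right
  have hS₀p : IsPGroup p ((S : Subgroup G) ⊓ T : Subgroup G) := S.isPGroup'.to_le inf_le_left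
  have key := frattini_good_in T R C ((S : Subgroup G) ⊓ T) hRT le_rfl hCT hTC hRp hS₀T hS₀p hfn ?_ x hxT hx
  · exact (Subgroup.mem_inf.1 key).2
  intro y hyT hyN hy
  refine Subgroup.mem_inf.2 ⟨hyT, ?_⟩
  set S₁ := ((S : Subgroup G) ⊓ T) ⊓ (R ⊔ C) with hS₁
  set U := S₁ ⊓ D with hU
  have hRU : R ≤ U := by
    refine le_inf (le_inf (le_inf (hRD.trans hD.1) hRT) le_sup_left) hRD
  have hcent : D ⊓ centralizer (U : Set G) ≤ U := by
    intro d hd
    obtain ⟨hd1, hd2⟩ := Subgroup.mem_inf.1 hd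
    have hd3 : d ∈ centralizer (R : Set G) := Subgroup.centralizer_le (fun a ha => hRU ha) hd2
    have hdT : d ∈ T := by
      rw [hT, Subgroup.mem_normalizer_iff]
      intro r
      constructor
      · intro hr
        have := (mem_centralizer_iff.1 hd3) r hr
        have e : d * r * d⁻¹ = r := by rw [← this]; group
        rwa [e]
      · intro hr
        have hr' : r ∈ R := by
          have h1 := (mem_centralizer_iff.1 hd3) _ hr
          have e2 : d * r = d * (d * r * d⁻¹) := by rw [← h1]; group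
          have e3 : r = d * r * d⁻¹ := mul_left_cancel e2
          rwa [e3]
        exact hr'
    refine Subgroup.mem_inf.2 ⟨Subgroup.mem_inf.2 ⟨Subgroup.mem_inf.2 ⟨hD.1 hd1, hdT⟩, ?_⟩, hd1⟩
    exact Subgroup.mem_sup_right (Subgroup.mem_inf.2 ⟨hdT, hd3⟩)
  have hnpc := hyp U inf_le_right hcent
  have hyU : y ∈ normalizer (U : Set G) := by
    rw [Subgroup.mem_normalizer_iff]
    have key : ∀ y ∈ normalizer (S₁ : Set G), ∀ a ∈ U, y * a * y⁻¹ ∈ U := by
      intro y hy a ha
      obtain ⟨ha1, ha2⟩ := Subgroup.mem_inf.1 ha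
      have h1 := ((Subgroup.mem_normalizer_iff.1 hy) a).1 ha1
      refine Subgroup.mem_inf.2 ⟨h1, hD.2 a ha2 y ?_⟩
      exact (Subgroup.mem_inf.1 (Subgroup.mem_inf.1 h1).1).1
    intro z
    constructor
    · exact key y hyN z
    · intro hz
      have := key y⁻¹ (Subgroup.inv_mem _ hyN) _ hz
      have e : y⁻¹ * (y * z * y⁻¹) * y⁻¹⁻¹ = z := by group
      rwa [e] at this
  have hRN : R ≤ normalizer (U : Set G) := hRU.trans Subgroup.le_normalizer
  exact centralizes_of_npc hnpc hRp hRN hyU hyT hy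

include hD hyp in
/-- normalizers of all subgroups of `D` -/
theorem good_D {R : Subgroup G} (hRD : R ≤ D) {x : G} (hxT : x ∈ normalizer (R : Set G))
    (hx : (orderOf x).Coprime p) : x ∈ centralizer (R : Set G) := by
  have hRp : IsPGroup p R := S.isPGroup'.to_le (hRD.trans hD.1)
  obtain ⟨g, hg1, hg2⟩ := exists_fully_normalized S hRp
  have hRD' : conjS g R ≤ D := by
    intro a ha
    rw [mem_conjS] at ha
    have := hD.2 _ (hRD ha) g (by
      have e : g * (g⁻¹ * a * g) * g⁻¹ = a := by group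
      rw [e]; exact hg1 (by rw [mem_conjS]; exact ha))
    have e : g * (g⁻¹ * a * g) * g⁻¹ = a := by group
    rwa [e] at this
  apply mem_centralizer_of_conj (g := g)
  exact good_D_fn S D hD hyp hRD' hg2 (conj_mem_normalizer hxT) (by rwa [orderOf_conj'])

include hD hyp in
/-- one step of the descending induction -/
theorem good_step {Q : Subgroup G} (hQS : Q ≤ S)
    (hfn : ¬ p ∣ ((S : Subgroup G) ⊓ normalizer (Q : Set G)).relIndex (normalizer (Q : Set G)))
    (IH : ∀ Q' : Subgroup G, IsPGroup p Q' → Nat.card Q < Nat.card Q' → ∀ y ∈ normalizer (Q' : Set G),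
      (orderOf y).Coprime p → y ∈ centralizer (Q' : Set G))
    {x : G} (hxT : x ∈ normalizer (Q : Set G)) (hx : (orderOf x).Coprime p) :
    x ∈ centralizer (Q : Set G) := by
  set T := normalizer (Q : Set G) with hT
  have hQp : IsPGroup p Q := S.isPGroup'.to_le hQS
  have hQT : Q ≤ T := Subgroup.le_normalizer
  set R := Q ⊓ D with hR
  have hRD : R ≤ D := inf_le_right
  -- `R` is normal in `T`
  have hRn : ∀ t ∈ T, ∀ r ∈ R, t * r * t⁻¹ ∈ R := by
    intro t ht r hr
    obtain ⟨h1, h2⟩ := Subgroup.mem_inf.1 hr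
    have h3 := ((Subgroup.mem_normalizer_iff.1 ht) r).1 h1
    exact Subgroup.mem_inf.2 ⟨h3, hD.2 r h2 t (hQS h3)⟩
  have hTR : T ≤ normalizer (R : Set G) := by
    intro t ht
    rw [Subgroup.mem_normalizer_iff]
    intro z
    constructor
    · exact hRn t ht z
    · intro hz
      have := hRn t⁻¹ (T.inv_mem ht) _ hz
      have e : t⁻¹ * (t * z * t⁻¹) * t⁻¹⁻¹ = z := by group
      rwa [e] at this
  have hxR : x ∈ centralizer (R : Set G) := good_D S D hD hyp hRD (hTR hxT) hx
  by_cases hDQ : D ≤ Q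
  · -- `R = D`
    have hRe : R = D := inf_eq_right.2 hDQ
    have hnpc := hyp D le_rfl (by
      intro d hd
      exact (Subgroup.mem_inf.1 hd).1)
    have hQN : Q ≤ normalizer (D : Set G) := by
      intro q hq
      rw [← hRe]
      exact hTR (hQT hq)
    have hxD : x ∈ normalizer (D : Set G) := by
      rw [← hRe]
      exact hTR hxT
    exact centralizes_of_npc hnpc hQp hQN hxD hxT hx
  -- the subgroup acting trivially on `Q / R`
  let C : Subgroup G :=
    { carrier := {t | t ∈ T ∧ ∀ q ∈ Q, t * q * t⁻¹ * q⁻¹ ∈ R}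
      one_mem' := ⟨T.one_mem, by intro q _; simp⟩
      mul_mem' := by
        rintro a b ⟨ha, ha'⟩ ⟨hb, hb'⟩
        refine ⟨T.mul_mem ha hb, ?_⟩
        intro q hq
        have e : a * b * q * (a * b)⁻¹ * q⁻¹ = a * (b * q * b⁻¹ * q⁻¹) * a⁻¹ * (a * q * a⁻¹ * q⁻¹) := by
          group
        rw [e]
        exact R.mul_mem (hRn a ha _ (hb' q hq)) (ha' q hq)
      inv_mem' := by
        rintro a ⟨ha, ha'⟩
        refine ⟨T.inv_mem ha, ?_⟩
        intro q hq
        have e : a⁻¹ * q * a⁻¹⁻¹ * q⁻¹ = a⁻¹ * (a * q * a⁻¹ * q⁻¹)⁻¹ * a⁻¹⁻¹ := by group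
        rw [e]
        exact hRn a⁻¹ (T.inv_mem ha) _ (R.inv_mem (ha' q hq)) }
  have hCmem : ∀ t, t ∈ C ↔ t ∈ T ∧ ∀ q ∈ Q, t * q * t⁻¹ * q⁻¹ ∈ R := fun t => Iff.rfl
  have hCT : C ≤ T := fun t ht => ht.1
  have hTC : T ≤ normalizer (C : Set G) := by
    intro t ht
    rw [Subgroup.mem_normalizer_iff]
    have key : ∀ t ∈ T, ∀ c ∈ C, t * c * t⁻¹ ∈ C := by
      intro t ht c hc
      refine ⟨T.mul_mem (T.mul_mem ht hc.1) (T.inv_mem ht), ?_⟩
      intro q hq
      have h1 : t⁻¹ * q * t ∈ Q := by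
        have := ((Subgroup.mem_normalizer_iff.1 (T.inv_mem ht)) q).1 hq
        simpa using this
      have e : t * c * t⁻¹ * q * (t * c * t⁻¹)⁻¹ * q⁻¹ =
          t * (c * (t⁻¹ * q * t) * c⁻¹ * (t⁻¹ * q * t)⁻¹) * t⁻¹ := by group
      rw [e]
      exact hRn t ht _ (hc.2 _ h1)
    intro z
    constructor
    · exact key t ht z
    · intro hz
      have := key t⁻¹ (T.inv_mem ht) _ hz
      have e : t⁻¹ * (t * z * t⁻¹) * t⁻¹⁻¹ = z := by group
      rwa [e] at this
  have hS₀T : (S : Subgroup G) ⊓ T ≤ T := inf_le_right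
  have hS₀p : IsPGroup p ((S : Subgroup G) ⊓ T : Subgroup G) := S.isPGroup'.to_le inf_le_left
  have hQS₁ : Q ≤ ((S : Subgroup G) ⊓ T) ⊓ (Q ⊔ C) := le_inf (le_inf hQS hQT) le_sup_left
  have hS₁p : IsPGroup p (((S : Subgroup G) ⊓ T) ⊓ (Q ⊔ C) : Subgroup G) := hS₀p.to_le inf_le_left
  -- `Q` is strictly smaller
  have hlt : Nat.card Q < Nat.card (((S : Subgroup G) ⊓ T) ⊓ (Q ⊔ C) : Subgroup G) := by
    have hSD : (S : Subgroup G) ≤ normalizer (D : Set G) := by
      intro s hs
      rw [Subgroup.mem_normalizer_iff]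
      intro z
      constructor
      · intro hz
        exact conj_mem_of_S S D hD hs hz
      · intro hz
        have := conj_mem_of_S S D hD ((S : Subgroup G).inv_mem hs) hz
        have e : s⁻¹ * (s * z * s⁻¹) * s⁻¹⁻¹ = z := by group
        rwa [e] at this
    have hQND : Q ≤ normalizer (D : Set G) := hQS.trans hSD
    have hW : IsPGroup p ((Q ⊔ D : Subgroup G) : Subgroup G) :=
      IsPGroup.to_le S.isPGroup' (sup_le hQS hD.1)
    have hQlt : Q.subgroupOf (Q ⊔ D) < ⊤ := by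
      apply lt_top_iff_ne_top.2
      intro h
      apply hDQ
      have h2 : Q ⊔ D ≤ Q := by
        intro z hz
        have : (⟨z, hz⟩ : ↥(Q ⊔ D)) ∈ Q.subgroupOf (Q ⊔ D) := by rw [h]; trivial
        exact Subgroup.mem_subgroupOf.1 this
      exact le_sup_right.trans h2
    haveI : Group.IsNilpotent ((Q ⊔ D : Subgroup G) : Subgroup G) := hW.isNilpotent
    have hnc := normalizerCondition_of_isNilpotent _ hQlt
    obtain ⟨w, hw, hwQ⟩ := SetLike.exists_of_lt hnc
    obtain ⟨q, hq, d, hd, hqd⟩ := mem_sup_of_le_normalizer hQND w.2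
    have hwN : (w : G) ∈ normalizer (Q : Set G) := mem_normalizer_of_subgroupOf le_sup_left w hw
    have hdw : d = q⁻¹ * (w : G) := by rw [hqd]; group
    have hdT : d ∈ T := by
      rw [hdw]
      exact T.mul_mem (T.inv_mem (hQT hq)) hwN
    have hdQ : d ∉ Q := by
      intro hdQ
      apply hwQ
      apply Subgroup.mem_subgroupOf.2
      rw [hqd]
      exact Q.mul_mem hq hdQ
    have hdC : d ∈ C := by
      refine ⟨hdT, ?_⟩
      intro q' hq'
      refine Subgroup.mem_inf.2 ⟨?_, ?_⟩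
      · exact Q.mul_mem (((Subgroup.mem_normalizer_iff.1 hdT) q').1 hq') (Q.inv_mem hq')
      · have e : d * q' * d⁻¹ * q'⁻¹ = d * (q' * d⁻¹ * q'⁻¹) := by group
        rw [e]
        exact D.mul_mem hd (conj_mem_of_S S D hD (hQS hq') (D.inv_mem hd))
    have hdS₁ : d ∈ ((S : Subgroup G) ⊓ T) ⊓ (Q ⊔ C) :=
      Subgroup.mem_inf.2 ⟨Subgroup.mem_inf.2 ⟨hD.1 hd, hdT⟩, Subgroup.mem_sup_right hdC⟩
    by_contra hcon
    have := Subgroup.eq_of_le_of_card_ge hQS₁ (not_lt.1 hcon)
    rw [← this] at hdS₁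
    exact hdQ hdS₁
  have key := frattini_good_in T Q C ((S : Subgroup G) ⊓ T) hQT le_rfl hCT hTC hQp hS₀T hS₀p hfn ?_ x hxT hx
  · -- conclude by a coprime action argument
    rw [mem_centralizer_iff]
    intro q hq
    have hr := key.2 q hq
    set r := x * q * x⁻¹ * q⁻¹ with hrdef
    have hxr : x * r = r * x := by
      have := (mem_centralizer_iff.1 hxR) r hr
      exact this.symm
    have hpow : ∀ n : ℕ, x ^ n * q * (x ^ n)⁻¹ = r ^ n * q := by
      intro n
      induction n with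
      | zero => simp
      | succ n ih =>
        have e1 : x * q * x⁻¹ = r * q := by rw [hrdef]; group
        have h2 : Commute x (r ^ n) := (show Commute x r from hxr).pow_right n
        calc x ^ (n + 1) * q * (x ^ (n + 1))⁻¹ = x * (x ^ n * q * (x ^ n)⁻¹) * x⁻¹ := by
              rw [pow_succ']; group
          _ = x * (r ^ n * q) * x⁻¹ := by rw [ih]
          _ = (r ^ n) * (x * q * x⁻¹) := by
              have := h2.eq
              calc x * (r ^ n * q) * x⁻¹ = (x * r ^ n) * q * x⁻¹ := by group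
                _ = (r ^ n * x) * q * x⁻¹ := by rw [this]
                _ = _ := by group
          _ = r ^ n * (r * q) := by rw [e1]
          _ = r ^ (n + 1) * q := by rw [pow_succ]; group
    have h1 := hpow (orderOf x)
    rw [pow_orderOf_eq_one] at h1
    have h2 : r ^ orderOf x = 1 := by
      have : q = r ^ orderOf x * q := by simpa using h1
      exact (mul_eq_right.1 this.symm)
    have hrp : IsPGroup p R := S.isPGroup'.to_le (hRD.trans hD.1)
    obtain ⟨j, hj⟩ := hrp ⟨r, hr⟩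
    have hj' : r ^ (p ^ j) = 1 := by
      have := congrArg Subtype.val hj
      simpa using this
    have h3 : orderOf r ∣ orderOf x := orderOf_dvd_of_pow_eq_one h2
    have h4 : orderOf r ∣ p ^ j := orderOf_dvd_of_pow_eq_one hj'
    have h5 : orderOf r = 1 :=
      Nat.Coprime.eq_one_of_dvd (Nat.Coprime.coprime_dvd_left h3 (Nat.Coprime.pow_right j hx)) h4
    rw [orderOf_eq_one_iff] at h5
    have h6 : x * q * x⁻¹ * q⁻¹ = 1 := h5
    rw [mul_inv_eq_one, mul_inv_eq_iff_eq_mul] at h6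
    exact h6.symm
  intro y hyT hyN hy
  have h1 := IH _ hS₁p hlt y hyN hy
  refine ⟨hyT, ?_⟩
  intro q hq
  have h2 := (mem_centralizer_iff.1 h1) q (hQS₁ hq)
  have h3 : y * q * y⁻¹ * q⁻¹ = 1 := by
    rw [← h2]; group
  rw [h3]
  exact R.one_mem

include hD hyp in
theorem good_all (n : ℕ) (Q : Subgroup G) (hQ : IsPGroup p Q) (hn : Nat.card G - Nat.card Q ≤ n)
    {x : G} (hxT : x ∈ normalizer (Q : Set G)) (hx : (orderOf x).Coprime p) :
    x ∈ centralizer (Q : Set G) := by
  induction n generalizing Q x with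
  | zero =>
    obtain ⟨g, hg1, hg2⟩ := exists_fully_normalized S hQ
    apply mem_centralizer_of_conj (g := g)
    refine good_step S D hD hyp hg1 hg2 ?_ (conj_mem_normalizer hxT) (by rwa [orderOf_conj'])
    intro Q' hQ' hlt y hyN hy
    rw [card_conjS] at hlt
    have := Subgroup.card_le_card_group Q'
    omega
  | succ n ih =>
    obtain ⟨g, hg1, hg2⟩ := exists_fully_normalized S hQ
    apply mem_centralizer_of_conj (g := g)
    refine good_step S D hD hyp hg1 hg2 ?_ (conj_mem_normalizer hxT) (by rwa [orderOf_conj'])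
    intro Q' hQ' hlt y hyN hy
    rw [card_conjS] at hlt
    exact ih Q' hQ' (by have := Subgroup.card_le_card_group Q'; omega) hyN hy

end main

/-- The main theorem. -/
theorem main (S : Sylow p G) (D : Subgroup G) (hD : IsStronglyClosed D (S : Subgroup G)) :
    HasNormalPComplement p G ↔ ∀ U : Subgroup G, U ≤ D → D ⊓ centralizer (U : Set G) ≤ U →
      HasNormalPComplement p (normalizer (U : Set G)) := by
  constructor
  · intro h U _ _
    exact CfsgLib.Trans.hasNormalPComplement_subgroup h _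
  · intro hyp
    obtain ⟨N, hn, hN⟩ := (CfsgLib.Trans.frobenius_criterion S).2 (by
      intro Q hQ g hg hcop
      exact good_all S D hD hyp _ Q (S.isPGroup'.to_le hQ) le_rfl hg hcop)
    exact ⟨S, N, hn, hN⟩

end CfsgLib.RelFrob
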