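import Cfsg.Agent.Lib.H3.MetaAut2
import Cfsg.Agent.Lib.OOL.Sec23
import Cfsg.Agent.Lib.Solv.Fit

/-!
# Solvable groups with `O(G)=1`, a Sylow `2`-subgroup with a cyclic subgroup of index two, of order
at least eight, with a normal centre: a normal copy of `SL(2,3)`.
-/

set_option linter.unusedSectionVars false
set_option linter.style.haveILetI false
set_option linter.unusedSimpArgs false
set_option linter.unusedVariables false

namespace CfsgLib.SLNormal

open Subgroup Cfsg QuaternionGroup

universe u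

lemma card_pairs : Nat.card {p : QuaternionGroup 2 × QuaternionGroup 2 //
    p.1 ^ 2 ≠ 1 ∧ p.2 ^ 2 ≠ 1 ∧ p.1 * p.2 ≠ p.2 * p.1} = 24 := by
  rw [Nat.card_eq_fintype_card]
  decide

/-- The automorphism group of `Q₈` has at most `24` elements. -/
lemma card_mulAut_q8 : Nat.card (MulAut (QuaternionGroup 2)) ≤ 24 := by
  classical
  have hsq : ∀ (α : MulAut (QuaternionGroup 2)) (y : QuaternionGroup 2), y ^ 2 ≠ 1 → (α y) ^ 2 ≠ 1 := by
    intro α y hy h
    apply hy
    apply α.injective
    rw [map_pow, h, map_one]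
  have h1 : (a 1 : QuaternionGroup 2) ^ 2 ≠ 1 := by decide
  have h2 : (xa 0 : QuaternionGroup 2) ^ 2 ≠ 1 := by decide
  have h3 : (a 1 : QuaternionGroup 2) * xa 0 ≠ xa 0 * a 1 := by decide
  have hcomm : ∀ α : MulAut (QuaternionGroup 2), α (a 1) * α (xa 0) ≠ α (xa 0) * α (a 1) := by
    intro α h
    apply h3
    apply α.injective
    rw [map_mul, map_mul, h]
  let f : MulAut (QuaternionGroup 2) → {p : QuaternionGroup 2 × QuaternionGroup 2 //
      p.1 ^ 2 ≠ 1 ∧ p.2 ^ 2 ≠ 1 ∧ p.1 * p.2 ≠ p.2 * p.1} :=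
    fun α => ⟨(α (a 1), α (xa 0)), hsq α _ h1, hsq α _ h2, hcomm α⟩
  have hf : Function.Injective f := by
    intro α β h
    have e0 := congrArg (fun p => (p.1 : QuaternionGroup 2 × QuaternionGroup 2)) h
    have e1 : α (a 1) = β (a 1) := congrArg Prod.fst e0
    have e2 : α (xa 0) = β (xa 0) := congrArg Prod.snd e0
    have hgen : ∀ y : QuaternionGroup 2, y = a 0 ∨ y = a 1 ∨ y = a 1 * a 1 ∨ y = a 1 * a 1 * a 1 ∨
        y = xa 0 ∨ y = xa 0 * a 1 ∨ y = xa 0 * (a 1 * a 1) ∨ y = xa 0 * (a 1 * a 1 * a 1) := by decide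
    ext y
    rcases hgen y with rfl | rfl | rfl | rfl | rfl | rfl | rfl | rfl <;>
      simp only [map_mul, e1, e2, QuaternionGroup.a_zero, map_one]
  have h4 := Nat.card_le_card_of_injective f hf
  rwa [card_pairs] at h4

variable {G : Type u} [Group G] [Finite G]

theorem card_center_q8 : Nat.card (center (QuaternionGroup 2)) = 2 := by
  classical
  have : Fintype.card (center (QuaternionGroup 2)) = 2 := by decide
  rw [Nat.card_eq_fintype_card, this]

lemma q8_unique_invol : ∀ x y : QuaternionGroup 2, x ^ 2 = 1 → y ^ 2 = 1 → x ≠ 1 → y ≠ 1 → x = y := by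
  decide

/-- The main theorem in terms of a cyclic subgroup of index two in the Sylow subgroup. -/
theorem main (hsol : Group.IsSolvable G) (hO : Cfsg.oddCore G = ⊥) (T : Subgroup G)
    (hTp : IsPGroup 2 T) (hTidx : ¬ 2 ∣ T.index) (A : Subgroup G) (hAT : A ≤ T)
    (hAc : IsCyclic A) (hAidx : A.relIndex T = 2) (h8 : 8 ≤ Nat.card T) (hne : T ≠ ⊤)
    (hZ : (T ⊓ centralizer (T : Set G)).Normal) :
    ∃ U : Subgroup G, U.Normal ∧ Nonempty (U ≃* Matrix.SpecialLinearGroup (Fin 2) (ZMod 3)) := by
  classical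
  haveI : Fact (Nat.Prime 2) := ⟨Nat.prime_two⟩
  set Q := pCore 2 G with hQdef
  have hQp : IsPGroup 2 Q := CfsgLib.Solv.pCore_isPGroup 2
  haveI hQn : Q.Normal := CfsgLib.Solv.pCore_normal' 2
  have hc : centralizer (Q : Set G) ≤ Q := CfsgLib.Solv.centralizer_pCore_le 2 hO
  -- Q is inside T
  let T' : Sylow 2 G := hTp.toSylow hTidx
  have hT'T : (T' : Subgroup G) = T := rfl
  have hQT : Q ≤ T := by
    rw [← hT'T]
    exact hQp.le_sylow_of_normal T'
  -- an odd prime
  have hidx1 : T.index ≠ 1 := fun h => hne (Subgroup.index_eq_one.mp h)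
  obtain ⟨r, hr, hrdvd⟩ := Nat.exists_prime_and_dvd hidx1
  have hr2 : r ≠ 2 := fun h => hTidx (h ▸ hrdvd)
  haveI : Fact r.Prime := ⟨hr⟩
  have hrG : r ∣ Nat.card G := hrdvd.trans T.index_dvd_card
  obtain ⟨g, hg⟩ := exists_prime_orderOf_dvd_card' r hrG
  have hgodd : Odd r := hr.odd_of_ne_two hr2
  -- odd order elements are not in Q
  have h2el : ∀ x ∈ Q, Odd (orderOf x) → x = 1 := by
    intro x hx hodd
    obtain ⟨k, hk⟩ := hQp ⟨x, hx⟩
    have h1 : x ^ 2 ^ k = 1 := congrArg Subtype.val hk
    have h2 : orderOf x ∣ 2 ^ k := orderOf_dvd_of_pow_eq_one h1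
    have h3 : Nat.Coprime (orderOf x) (2 ^ k) := Nat.Coprime.pow_right k (Nat.coprime_two_right.mpr hodd)
    exact orderOf_eq_one_iff.mp (Nat.Coprime.eq_one_of_dvd h3 h2)
  have hgQ : g ∉ Q := fun h => by
    have h1 := h2el g h (by rw [hg]; exact hgodd)
    rw [h1, orderOf_one] at hg
    exact hr.one_lt.ne hg
  have hgC : g ∉ centralizer (Q : Set G) := fun h => hgQ (hc h)
  -- the conjugation automorphism
  let σ : MulAut Q := MulAut.conjNormal g
  have hσv : ∀ q : Q, ((σ q : Q) : G) = g * q * g⁻¹ := fun q => by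
    simp [σ, MulAut.conjNormal_apply]
  have hσr : σ ^ r = 1 := by
    show (MulAut.conjNormal g : MulAut Q) ^ r = 1
    rw [← map_pow, ← hg, pow_orderOf_eq_one, map_one]
  have hσ1 : σ ≠ 1 := by
    intro h
    apply hgC
    rw [mem_centralizer_iff]
    intro q hq
    have h1 : σ ⟨q, hq⟩ = ⟨q, hq⟩ := by rw [h]; rfl
    have h3 : g * q * g⁻¹ = q := by
      rw [← hσv ⟨q, hq⟩, h1]
    calc q * g = g * q * g⁻¹ * g := by rw [h3]
      _ = g * q := by group
  have hnot : ¬ IsPGroup 2 (MulAut Q) := by
    intro h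
    obtain ⟨k, hk⟩ := h σ
    have h1 := orderOf_dvd_of_pow_eq_one hk
    have h2 := orderOf_dvd_of_pow_eq_one hσr
    have h3 : Nat.Coprime (2 ^ k) r := Nat.Coprime.pow_left k (Nat.coprime_two_left.mpr hgodd)
    exact hσ1 (orderOf_eq_one_iff.mp (Nat.eq_one_of_dvd_coprimes h3 h1 h2))
  -- the cyclic subgroup of Q of index at most two
  set N : Subgroup Q := A.subgroupOf Q with hNdef
  have hNc : IsCyclic N := by
    let f : N →* A :=
      { toFun := fun x => ⟨((x : Q) : G), x.2⟩, map_one' := rfl, map_mul' := fun _ _ => rfl }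
    apply isCyclic_of_injective f
    intro x y h
    exact Subtype.ext (Subtype.ext (congrArg (fun z : A => (z : G)) h))
  have hNidx : N.index ≤ 2 := by
    have h1 : A.relIndex Q ≤ A.relIndex T := relIndex_le_of_le_right hQT (by rw [hAidx]; norm_num)
    rw [hAidx] at h1
    exact h1
  have hNidx0 : N.index ≠ 0 := index_ne_zero_of_finite
  have hmeta : Cfsg.IsMetacyclic Q := by
    have hcases : N.index = 1 ∨ N.index = 2 := by omega
    rcases hcases with h1 | h1
    · have hN : N = ⊤ := Subgroup.index_eq_one.mp h1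
      have hn : N.Normal := by rw [hN]; infer_instance
      refine ⟨N, hn, hNc, ?_⟩
      have : Subsingleton (Q ⧸ N) := by
        rw [hN]
        exact QuotientGroup.subsingleton_quotient_top
      exact isCyclic_of_subsingleton
    · have hn : N.Normal := Subgroup.normal_of_index_eq_two h1
      refine ⟨N, hn, hNc, ?_⟩
      haveI : Fact (Nat.Prime (Nat.card (Q ⧸ N))) := ⟨by
        have : Nat.card (Q ⧸ N) = N.index := rfl
        rw [this, h1]
        exact Nat.prime_two⟩
      exact isCyclic_of_prime_card rfl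
  -- the Klein four case is impossible
  have hV4 : Nat.card Q = 4 → (∀ x : Q, x ^ 2 = 1) → False := by
    intro hcard hexp
    set Z₀ : Subgroup G := T ⊓ centralizer (T : Set G) with hZ₀
    have hZ₀p : IsPGroup 2 Z₀ := hTp.to_le inf_le_left
    have hZQ : Z₀ ≤ Q := by
      haveI := hZ
      exact CfsgLib.Solv.le_pCore' Z₀ hZ₀p
    -- Z₀ is nontrivial
    have hZne : Nat.card Z₀ ≠ 1 := by
      intro h1
      haveI : Nontrivial T := by
        apply Finite.one_lt_card_iff_nontrivial.mp
        omega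
      have hcent : Nontrivial (center T) := IsPGroup.center_nontrivial hTp
      obtain ⟨z, hz1⟩ := exists_ne (1 : center T)
      have hz2 : ((z : T) : G) ∈ Z₀ := by
        refine Subgroup.mem_inf.mpr ⟨(z : T).2, ?_⟩
        rw [mem_centralizer_iff]
        intro t ht
        have := Subgroup.mem_center_iff.mp z.2 ⟨t, ht⟩
        exact congrArg Subtype.val this
      have hsub : Subsingleton Z₀ := (Nat.card_eq_one_iff_unique.mp h1).1
      have h3 : (⟨_, hz2⟩ : Z₀) = 1 := Subsingleton.elim _ _
      apply hz1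
      apply Subtype.ext
      apply Subtype.ext
      exact congrArg (fun w : Z₀ => (w : G)) h3
    have hZne4 : Nat.card Z₀ ≠ 4 := by
      intro h4
      have hle : Q ≤ Z₀ := by
        have h5 : Z₀ = Q := Subgroup.eq_of_le_of_card_ge hZQ (by rw [h4, hcard])
        rw [h5]
      have hTQ : T ≤ Q := by
        refine le_trans ?_ hc
        intro t ht
        rw [mem_centralizer_iff]
        intro q hq
        have h6 := (Subgroup.mem_inf.mp (hle hq)).2
        rw [mem_centralizer_iff] at h6
        exact (h6 t ht).symm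
      have := Subgroup.card_le_of_le hTQ
      omega
    have hZdvd : Nat.card Z₀ ∣ 4 := by
      rw [← hcard]
      exact Subgroup.card_dvd_of_le hZQ
    have hZ2 : Nat.card Z₀ = 2 := by
      have h5 : Nat.card Z₀ ≤ 4 := Nat.le_of_dvd (by norm_num) hZdvd
      interval_cases h6 : Nat.card Z₀ <;> simp_all
    -- g centralizes Z₀
    have hgZ : ∀ z ∈ Z₀, g * z * g⁻¹ = z := by
      intro z hz
      obtain ⟨y, -, hy⟩ := (Nat.card_eq_two_iff' (1 : Z₀)).mp hZ2
      have hconj : g * z * g⁻¹ ∈ Z₀ := hZ.conj_mem z hz g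
      by_cases hz1 : z = 1
      · rw [hz1]; group
      have h7 : (⟨z, hz⟩ : Z₀) = y := hy _ (fun h => hz1 (congrArg Subtype.val h))
      have h8 : (⟨_, hconj⟩ : Z₀) = y := hy _ (fun h => hz1 (by
        have h9 : g * z * g⁻¹ = 1 := congrArg Subtype.val h
        have h10 : z = g⁻¹ * (g * z * g⁻¹) * g := by group
        rw [h10, h9]
        group))
      exact congrArg Subtype.val (h8.trans h7.symm)
    -- the index of Z₀ in Q is two
    set Z₁ : Subgroup Q := Z₀.subgroupOf Q with hZ₁
    have hZ₁card : Nat.card Z₁ = 2 := by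
      rw [← hZ2]
      exact Nat.card_congr (Subgroup.subgroupOfEquivOfLe hZQ).toEquiv
    have hZ₁idx : Z₁.index = 2 := by
      have := Z₁.card_mul_index
      rw [hZ₁card, hcard] at this
      omega
    have hcmem : ∀ q : Q, (q : G)⁻¹ * (g * q * g⁻¹) ∈ Z₀ := by
      intro q
      have h1 : q⁻¹ * σ q ∈ Z₁ := by
        rw [Subgroup.mul_mem_iff_of_index_two hZ₁idx, inv_mem_iff]
        show ((q : G) ∈ Z₀) ↔ (((σ q : Q) : G) ∈ Z₀)
        rw [hσv]
        constructor
        · intro h
          exact hZ.conj_mem _ h g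
        · intro h
          have h2 := hZ.conj_mem _ h g⁻¹
          have h3 : g⁻¹ * (g * (q : G) * g⁻¹) * g⁻¹⁻¹ = q := by group
          rwa [h3] at h2
      have h2 : ((q⁻¹ * σ q : Q) : G) ∈ Z₀ := h1
      rw [Subgroup.coe_mul, hσv, Subgroup.coe_inv] at h2
      exact h2
    apply hgC
    rw [mem_centralizer_iff]
    intro q hq
    set c := q⁻¹ * (g * q * g⁻¹) with hcdef
    have hcZ : c ∈ Z₀ := hcmem ⟨q, hq⟩
    have hc2 : c ^ 2 = 1 := by
      have h1 : (⟨c, hcZ⟩ : Z₀) ^ Nat.card Z₀ = 1 := pow_card_eq_one'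
      rw [hZ2] at h1
      exact congrArg Subtype.val h1
    have hgq : g * q * g⁻¹ = q * c := by
      rw [hcdef]
      group
    have hk : ∀ k : ℕ, g ^ k * q * (g ^ k)⁻¹ = q * c ^ k := by
      intro k
      induction k with
      | zero => simp
      | succ k ih =>
        have h1 : g ^ (k + 1) * q * (g ^ (k + 1))⁻¹ = g * (g ^ k * q * (g ^ k)⁻¹) * g⁻¹ := by
          rw [pow_succ']
          group
        rw [h1, ih]
        have h2 : g * (q * c ^ k) * g⁻¹ = (g * q * g⁻¹) * (g * c ^ k * g⁻¹) := by group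
        rw [h2, hgq, hgZ _ (pow_mem hcZ k), pow_succ']
        group
    have h1 := hk r
    rw [← hg, pow_orderOf_eq_one] at h1
    simp only [one_mul, inv_one, mul_one] at h1
    have h2 : c ^ orderOf g = 1 := by
      have h3 : q * c ^ orderOf g = q * 1 := by rw [← h1, mul_one]
      exact mul_left_cancel h3
    have hcone : c = 1 := by
      rw [hg] at h2
      obtain ⟨m, hm⟩ := hgodd
      rw [hm, pow_succ, pow_mul, hc2, one_pow, one_mul] at h2
      exact h2
    rw [hcone, mul_one] at hgq
    calc q * g = g * q * g⁻¹ * g := by rw [hgq]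
      _ = g * q := by group
  obtain ⟨⟨e⟩⟩ | ⟨n, ⟨e⟩⟩ := CfsgLib.MetaAut.main hQp hmeta hnot
  swap
  · -- the homocyclic case
    exfalso
    have hcardZ : Nat.card (Multiplicative (ZMod (2 ^ n))) = 2 ^ n := by
      rw [Nat.card_congr Multiplicative.toAdd, Nat.card_zmod]
    have hcardQ : Nat.card Q = 2 ^ n * 2 ^ n := by
      rw [Nat.card_congr e.toEquiv, Nat.card_prod, hcardZ]
    have hexp : ∀ x : Q, x ^ (2 ^ n) = 1 := by
      intro x
      apply e.injective
      rw [map_pow, map_one]
      apply Prod.ext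
      · show ((e x).1) ^ (2 ^ n) = 1
        have h1 := pow_card_eq_one' (x := (e x).1)
        rwa [hcardZ] at h1
      · show ((e x).2) ^ (2 ^ n) = 1
        have h1 := pow_card_eq_one' (x := (e x).2)
        rwa [hcardZ] at h1
    have hNcard : Nat.card N ≤ 2 ^ n := by
      obtain ⟨c, hcc⟩ := hNc.exists_ofOrder_eq_natCard
      rw [← hcc]
      have h1 : c ^ (2 ^ n) = 1 := by
        apply Subtype.ext
        exact hexp c
      exact Nat.le_of_dvd (by positivity) (orderOf_dvd_of_pow_eq_one h1)
    have hmul := N.card_mul_index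
    rw [hcardQ] at hmul
    have hpos : 0 < 2 ^ n := by positivity
    have hle : 2 ^ n * 2 ^ n ≤ 2 ^ n * 2 := by
      rw [← hmul]
      exact Nat.mul_le_mul hNcard hNidx
    have hle2 : 2 ^ n ≤ 2 := Nat.le_of_mul_le_mul_left hle hpos
    have hn1 : n ≤ 1 := by
      by_contra hcon
      have : 2 ^ 2 ≤ 2 ^ n := Nat.pow_le_pow_right (by norm_num) (by omega)
      omega
    interval_cases n
    · -- trivial `Q`
      apply hσ1
      have hsub : Subsingleton Q := by
        apply (Nat.card_eq_one_iff_unique.mp ?_).1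
        rw [hcardQ]
        norm_num
      ext q
      rw [Subsingleton.elim q 1]
      simp
    · exact hV4 (by rw [hcardQ]; norm_num) (by simpa using hexp)
  -- the quaternion case
  have huniq : ∀ x y : Q, x ^ 2 = 1 → y ^ 2 = 1 → x ≠ 1 → y ≠ 1 → x = y := by
    intro x y hx hy hx1 hy1
    apply e.injective
    apply q8_unique_invol
    · rw [← map_pow, hx, map_one]
    · rw [← map_pow, hy, map_one]
    · intro h
      apply hx1
      apply e.injective
      rw [h, map_one]
    · intro h
      apply hy1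
      apply e.injective
      rw [h, map_one]
  obtain ⟨h3r, -⟩ := CfsgLib.OOL.aut_odd_of_unique_invol hQp huniq σ r hgodd hσr hσ1
  have hr3 : r = 3 := ((Nat.prime_dvd_prime_iff_eq Nat.prime_three hr).mp h3r).symm
  subst hr3
  have hcardQ : Nat.card Q = 8 := by
    rw [Nat.card_congr e.toEquiv, Nat.card_eq_fintype_card, QuaternionGroup.card]
  -- the order of G is at most 48
  let φ : G →* MulAut Q := MulAut.conjNormal
  have hker : Nat.card φ.ker ≤ 2 := by
    have hmem : ∀ x : φ.ker, (x : G) ∈ Q := by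
      intro x
      apply hc
      rw [mem_centralizer_iff]
      intro q hq
      have h1 : φ x = 1 := x.2
      have h2 : (φ x) ⟨q, hq⟩ = ⟨q, hq⟩ := by rw [h1]; rfl
      have h3 : (x : G) * q * (x : G)⁻¹ = q := by
        have := congrArg Subtype.val h2
        simpa [φ, MulAut.conjNormal_apply] using this
      calc q * (x : G) = (x : G) * q * (x : G)⁻¹ * x := by rw [h3]
        _ = x * q := by group
    have hcent : ∀ x : φ.ker, e ⟨x, hmem x⟩ ∈ center (QuaternionGroup 2) := by
      intro x
      rw [Subgroup.mem_center_iff]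
      intro w
      obtain ⟨q, rfl⟩ := e.surjective w
      rw [← map_mul, ← map_mul]
      congr 1
      apply Subtype.ext
      have h1 : φ x = 1 := x.2
      have h2 : (φ x) q = q := by rw [h1]; rfl
      have h3 : (x : G) * q * (x : G)⁻¹ = q := by
        have := congrArg Subtype.val h2
        simpa [φ, MulAut.conjNormal_apply] using this
      show (q : G) * x = x * q
      calc (q : G) * (x : G) = (x : G) * q * (x : G)⁻¹ * x := by rw [h3]
        _ = x * q := by group
    let f : φ.ker → center (QuaternionGroup 2) := fun x => ⟨_, hcent x⟩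
    have hf : Function.Injective f := by
      intro x y hxy
      have h1 : e ⟨x, hmem x⟩ = e ⟨y, hmem y⟩ := congrArg Subtype.val hxy
      have h2 := e.injective h1
      exact Subtype.ext (congrArg (fun z : Q => (z : G)) h2)
    have h3 := Nat.card_le_card_of_injective f hf
    rwa [card_center_q8] at h3
  have hrange : Nat.card φ.range ≤ 24 := by
    refine le_trans ?_ card_mulAut_q8
    rw [← Nat.card_congr (MulAut.congr e).toEquiv]
    exact Subgroup.card_le_card_group _
  have hGcard : Nat.card G ≤ 48 := by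
    have h1 := φ.ker.card_mul_index
    rw [Subgroup.index_ker] at h1
    rw [← h1]
    exact Nat.mul_le_mul hker hrange
  set H := G ⧸ Q with hHdef
  have hHcard : Nat.card G = Nat.card H * 8 := by
    rw [Subgroup.card_eq_card_quotient_mul_card_subgroup Q, hcardQ]
  have hH6 : Nat.card H ≤ 6 := by omega
  have hH3 : 3 ∣ Nat.card H := by
    rw [hHcard] at hrG
    exact (Nat.Coprime.dvd_of_dvd_mul_right (by norm_num) hrG)
  let π : G →* H := QuotientGroup.mk' Q
  have hπs : Function.Surjective π := QuotientGroup.mk'_surjective Q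
  have hπg : π g ≠ 1 := fun h => hgQ ((QuotientGroup.eq_one_iff g).mp h)
  have hord : orderOf (π g) = 3 := by
    have h1 : (π g) ^ 3 = 1 := by
      rw [← map_pow, ← hg, pow_orderOf_eq_one, map_one]
    exact orderOf_eq_prime h1 hπg
  set P : Subgroup H := zpowers (π g) with hP
  have hPcard : Nat.card P = 3 := by
    rw [hP, Nat.card_zpowers, hord]
  have hPmul := P.card_mul_index
  rw [hPcard] at hPmul
  have hPidx : P.index = 1 ∨ P.index = 2 := by
    have hp0 : P.index ≠ 0 := index_ne_zero_of_finite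
    omega
  have hPn : P.Normal := by
    rcases hPidx with h | h
    · rw [Subgroup.index_eq_one.mp h]
      infer_instance
    · exact Subgroup.normal_of_index_eq_two h
  set U : Subgroup G := P.comap π with hU
  have hUn : U.Normal := hPn.comap π
  have hUidx : U.index = P.index := Subgroup.index_comap_of_surjective P hπs
  have hUcard : Nat.card U = 24 := by
    have h1 := U.card_mul_index
    rw [hUidx, hHcard, ← hPmul] at h1
    have hp0 : P.index ≠ 0 := index_ne_zero_of_finite
    have h2 : Nat.card U * P.index = 24 * P.index := by rw [h1]; ring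
    exact Nat.eq_of_mul_eq_mul_right (Nat.pos_of_ne_zero hp0) h2
  have hQU : Q ≤ U := by
    intro q hq
    show π q ∈ P
    rw [show π q = 1 from (QuotientGroup.eq_one_iff q).mpr hq]
    exact one_mem _
  have hgU : g ∈ U := by
    show π g ∈ P
    exact mem_zpowers _
  have hgN : g ∈ normalizer (Q : Set G) := by
    rw [Subgroup.normalizer_eq_top_iff.mpr hQn]
    exact mem_top _
  have ht3 : g ^ 3 = 1 := by
    rw [← hg, pow_orderOf_eq_one]
  have hne' : ¬ ∀ q ∈ Q, g * q = q * g := by
    intro hall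
    apply hgC
    rw [mem_centralizer_iff]
    intro q hq
    exact (hall q hq).symm
  obtain ⟨K, hK, ⟨eK⟩⟩ := CfsgLib.OOL.sl23_exact Q e g hgN ht3 hne'
  have hKU : K ≤ U := hK.trans (sup_le hQU (zpowers_le.mpr hgU))
  have hKcard : Nat.card K = 24 := by
    rw [Nat.card_congr eK.toEquiv]
    exact CfsgLib.H9.SL23.card_G
  have hKeq : K = U := Subgroup.eq_of_le_of_card_ge hKU (by rw [hKcard, hUcard])
  exact ⟨U, hUn, ⟨hKeq ▸ eK⟩⟩

/-- The main theorem in terms of an element generating a subgroup of index two in the Sylow subgroup. -/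
theorem main' (hsol : Group.IsSolvable G) (hO : Cfsg.oddCore G = ⊥) (T : Subgroup G)
    (hTp : IsPGroup 2 T) (hTidx : ¬ 2 ∣ T.index) (c : G) (hcT : c ∈ T)
    (hcard : 2 * orderOf c = Nat.card T) (h8 : 8 ≤ Nat.card T) (hne : T ≠ ⊤)
    (hZ : (T ⊓ centralizer (T : Set G)).Normal) :
    ∃ U : Subgroup G, U.Normal ∧ Nonempty (U ≃* Matrix.SpecialLinearGroup (Fin 2) (ZMod 3)) := by
  have hAT : zpowers c ≤ T := zpowers_le.mpr hcT
  refine main hsol hO T hTp hTidx (zpowers c) hAT inferInstance ?_ h8 hne hZ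
  have h1 := ((zpowers c).subgroupOf T).card_mul_index
  have h2 : Nat.card ((zpowers c).subgroupOf T) = orderOf c := by
    rw [Nat.card_congr (Subgroup.subgroupOfEquivOfLe hAT).toEquiv, Nat.card_zpowers]
  rw [h2, ← hcard] at h1
  have h3 : 0 < orderOf c := by
    have : 0 < Nat.card T := Nat.card_pos
    rw [← hcard] at this
    omega
  have h4 : orderOf c * ((zpowers c).subgroupOf T).index = orderOf c * 2 := by
    rw [h1]; ring
  exact Nat.eq_of_mul_eq_mul_left h3 h4

end CfsgLib.SLNormal
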