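import Cfsg.Agent.Lib.H3.Taussky
import Cfsg.Agent.Lib.Solv.PGroup

/-! # 2-groups with an involution having a small centralizer. -/

set_option autoImplicit false
set_option linter.unusedSectionVars false

namespace CfsgLib.Taussky

open Subgroup
open scoped commutatorElement

universe u

/-- Every coatom contains the commutator subgroup; so the commutator subgroup of a non-cyclic
`p`-group has index at least `p ^ 2`. -/
lemma index_commutator_eq_four {S : Type u} [Group S] [Finite S] (h2 : IsPGroup 2 S)
    (hb : commutator S ≠ ⊥) (hle : (commutator S).index ≤ 4) : (commutator S).index = 4 := by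
  haveI : Fact (Nat.Prime 2) := ⟨Nat.prime_two⟩
  obtain ⟨k, hk⟩ := IsPGroup.iff_card.1 h2
  have hdvd : (commutator S).index ∣ 2 ^ k := by
    rw [← hk]; exact Subgroup.index_dvd_card _
  obtain ⟨j, -, hj⟩ := (Nat.dvd_prime_pow Nat.prime_two).1 hdvd
  have hj2 : j ≤ 2 := by
    by_contra hlt
    have : 2 ^ 3 ≤ 2 ^ j := Nat.pow_le_pow_right (by norm_num) (by omega)
    rw [← hj] at this
    omega
  have hne : j ≠ 0 ∧ j ≠ 1 := by
    have hcoat : ∀ M : Subgroup S, IsCoatom M → commutator S ≤ M :=
      fun M hM => (CfsgLib.Solv.pgroup_commutator_pow_le_frattini h2).1.trans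
        (frattini_le_coatom hM)
    have hnt : Nontrivial S := by
      by_contra hcon
      rw [not_nontrivial_iff_subsingleton] at hcon
      exact hb (Subsingleton.elim _ _)
    constructor
    · rintro rfl
      rw [pow_zero, Subgroup.index_eq_one] at hj
      obtain h | ⟨M, hM, -⟩ := eq_top_or_exists_le_coatom (⊥ : Subgroup S)
      · exact bot_ne_top h
      · have := hcoat M hM
        rw [hj] at this
        exact hM.1 (top_le_iff.1 this)
    · rintro rfl
      rw [pow_one] at hj
      -- `S'` is the unique maximal subgroup
      obtain ⟨y, hy⟩ : ∃ y, y ∉ commutator S := by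
        by_contra hcon
        push Not at hcon
        have : commutator S = ⊤ := eq_top_iff.2 (fun g _ => hcon g)
        rw [this, Subgroup.index_top] at hj
        omega
      have htop : zpowers y = ⊤ := by
        rcases eq_top_or_exists_le_coatom (zpowers y) with h | ⟨M, hM, hle⟩
        · exact h
        · exfalso
          have h3 := hcoat M hM
          have h4 := (CfsgLib.Solv.coatom_of_pgroup h2 hM).2
          have h5 : M.index = 2 := h4
          have h6 : M = commutator S := by
            apply le_antisymm _ h3
            have h7 := Subgroup.relIndex_mul_index h3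
            rw [hj, h5] at h7
            have h8 : (commutator S).relIndex M = 1 := by omega
            exact Subgroup.relIndex_eq_one.1 h8
          rw [h6] at hle
          exact hy (hle (mem_zpowers y))
      haveI hcyc : IsCyclic S := ⟨⟨y, fun g => by
        have : g ∈ zpowers y := by rw [htop]; trivial
        exact this⟩⟩
      letI := IsCyclic.commGroup (α := S)
      exact hb (commutator_bot_of_comm mul_comm)
  have : j = 2 := by omega
  subst this
  rw [hj]
  norm_num

/-- The class of an element lies in its coset of the commutator subgroup, so the index of the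
centralizer is bounded by the order of `S'`. -/
lemma index_centralizer_le_card_commutator {S : Type u} [Group S] [Finite S] (x : S) :
    (centralizer ({x} : Set S)).index ≤ Nat.card (commutator S) := by
  classical
  set C := centralizer ({x} : Set S) with hC
  let f : S ⧸ C → commutator S := fun q => ⟨⁅q.out, x⁆, commutator_mem_commutator
    (Subgroup.mem_top _) (Subgroup.mem_top _) |> fun h => by rwa [commutator_def]⟩
  have hf : Function.Injective f := by
    intro q₁ q₂ h
    have h1 : ⁅q₁.out, x⁆ = ⁅q₂.out, x⁆ := congrArg Subtype.val h
    have h2 : q₁.out * x * q₁.out⁻¹ = q₂.out * x * q₂.out⁻¹ := by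
      simp only [commutatorElement_def] at h1
      exact mul_right_cancel h1
    have h3 : q₁.out⁻¹ * q₂.out ∈ C := by
      apply Subgroup.mem_centralizer_singleton_iff.2
      calc q₁.out⁻¹ * q₂.out * x = q₁.out⁻¹ * (q₂.out * x * q₂.out⁻¹) * q₂.out := by group
        _ = q₁.out⁻¹ * (q₁.out * x * q₁.out⁻¹) * q₂.out := by rw [h2]
        _ = x * (q₁.out⁻¹ * q₂.out) := by group
    have h4 := (QuotientGroup.eq (s := C)).2 h3
    rwa [QuotientGroup.out_eq', QuotientGroup.out_eq'] at h4
  exact Nat.card_le_card_of_injective f hf

lemma quat_involution_central {n : ℕ} [NeZero n] (y : QuaternionGroup n) (hy : orderOf y = 2)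
    (g : QuaternionGroup n) : g * y = y * g := by
  cases y with
  | a i =>
    have h1 : (QuaternionGroup.a i : QuaternionGroup n) ^ 2 = 1 := by
      rw [← hy]; exact pow_orderOf_eq_one _
    rw [pow_two, QuaternionGroup.a_mul_a, QuaternionGroup.one_def] at h1
    have h2 : i + i = 0 := QuaternionGroup.a.inj h1
    cases g with
    | a j => rw [QuaternionGroup.a_mul_a, QuaternionGroup.a_mul_a, add_comm]
    | xa j =>
      rw [QuaternionGroup.xa_mul_a, QuaternionGroup.a_mul_xa]
      congr 1
      linear_combination h2
  | xa i =>
    rw [QuaternionGroup.orderOf_xa] at hy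
    omega

theorem involution_cent_four {S : Type u} [Group S] [Finite S] (hS : IsPGroup 2 S)
    (x : S) (hx : orderOf x = 2) (hC : Nat.card ↥(centralizer ({x} : Set S)) = 4) :
    (∃ n : ℕ, Nonempty (S ≃* DihedralGroup n)) ∨ Cfsg.IsQuasiDihedral S ∨ Nat.card S = 4 := by
  by_cases hb : commutator S = ⊥
  · right; right
    have h1 : centralizer ({x} : Set S) = ⊤ := by
      rw [eq_top_iff]
      intro g _
      rw [Subgroup.mem_centralizer_singleton_iff]
      have h2 : ⁅g, x⁆ ∈ commutator S := by
        rw [commutator_def]
        exact commutator_mem_commutator (Subgroup.mem_top _) (Subgroup.mem_top _)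
      rw [hb, Subgroup.mem_bot, commutatorElement_eq_one_iff_mul_comm] at h2
      exact h2
    rw [h1, Subgroup.card_top] at hC
    exact hC
  have hle : (commutator S).index ≤ 4 := by
    have h1 := index_centralizer_le_card_commutator x
    have h2 := Subgroup.card_mul_index (centralizer ({x} : Set S))
    have h3 := Subgroup.card_mul_index (commutator S)
    rw [hC] at h2
    by_contra hlt
    have h4 : Nat.card (commutator S) * 4 < Nat.card (commutator S) * (commutator S).index :=
      Nat.mul_lt_mul_of_pos_left (by omega) Nat.card_pos
    nlinarith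
  have h4 := index_commutator_eq_four hS hb hle
  rcases main hS h4 with h | ⟨n, hn⟩ | ⟨k, hk, a, b, ha, hb2, hab⟩ | ⟨k, ⟨e⟩⟩
  · exact Or.inr (Or.inr h)
  · exact Or.inl ⟨_, hn⟩
  · refine Or.inr (Or.inl ⟨k + 3, by omega, hk, a, b, ha, hb2, ?_⟩)
    exact hab
  · exfalso
    -- the involutions of a quaternion group are central
    have hx' : orderOf (e x) = 2 := by
      rw [MulEquiv.orderOf_eq, hx]
    have h1 : centralizer ({x} : Set S) = ⊤ := by
      rw [eq_top_iff]
      intro g _
      rw [Subgroup.mem_centralizer_singleton_iff]
      apply e.injective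
      rw [map_mul, map_mul]
      exact quat_involution_central _ hx' _
    rw [h1, Subgroup.card_top] at hC
    have h2 := Nat.card_congr e.toEquiv
    rw [Nat.card_eq_fintype_card (α := QuaternionGroup (2 ^ (k + 1))), QuaternionGroup.card, hC,
      pow_succ] at h2
    have : 0 < 2 ^ k := by positivity
    omega

end CfsgLib.Taussky
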