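import Cfsg.Agent.Lib.H3.MaxClassB
import Cfsg.Agent.Lib.H3.Taussky2
import Cfsg.Agent.Lib.OOL.MaxCl
import Cfsg.Agent.Lib.H3.Comp2
import Cfsg.Prelude.Def_CaseTheorems

/-! # 2-groups of sectional rank at most two containing `D₈` or `Q₈`. -/

set_option autoImplicit false
set_option linter.unusedSectionVars false
set_option linter.style.haveILetI false

namespace CfsgLib.SecRankTwo

open Subgroup

universe u

variable {S : Type u} [Group S] [Finite S]

lemma dih_sq_central : ∀ x y : DihedralGroup 4, x * x * y = y * (x * x) := by decide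
lemma quat_sq_central : ∀ x y : QuaternionGroup 2, x * x * y = y * (x * x) := by decide
lemma dih_noncomm : ∃ x y : DihedralGroup 4, x * y ≠ y * x := by decide
lemma quat_noncomm : ∃ x y : QuaternionGroup 2, x * y ≠ y * x := by decide

/-- The facts on `H`. -/
lemma facts {H : Subgroup S}
    (he : Nonempty (↥H ≃* DihedralGroup 4) ∨ Nonempty (↥H ≃* QuaternionGroup 2)) :
    Nat.card H = 2 ^ 3 ∧ ¬ IsMulCommutative H ∧
      ∀ h ∈ H, ∀ g ∈ H, h * h * g = g * (h * h) := by
  rcases he with ⟨⟨e⟩⟩ | ⟨⟨e⟩⟩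
  · refine ⟨?_, ?_, ?_⟩
    · rw [Nat.card_congr e.toEquiv, DihedralGroup.nat_card]
      norm_num
    · intro hc
      obtain ⟨x, y, hxy⟩ := dih_noncomm
      apply hxy
      have := hc.is_comm.comm (e.symm x) (e.symm y)
      have h2 := congrArg e this
      simpa using h2
    · intro h hh g hg
      have h1 := dih_sq_central (e ⟨h, hh⟩) (e ⟨g, hg⟩)
      simp only [← map_mul] at h1
      exact congrArg Subtype.val (e.injective h1)
  · refine ⟨?_, ?_, ?_⟩
    · rw [Nat.card_congr e.toEquiv, Nat.card_eq_fintype_card, QuaternionGroup.card]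
      norm_num
    · intro hc
      obtain ⟨x, y, hxy⟩ := quat_noncomm
      apply hxy
      have := hc.is_comm.comm (e.symm x) (e.symm y)
      have h2 := congrArg e this
      simpa using h2
    · intro h hh g hg
      have h1 := quat_sq_central (e ⟨h, hh⟩) (e ⟨g, hg⟩)
      simp only [← map_mul] at h1
      exact congrArg Subtype.val (e.injective h1)

/-- `H` is self-centralizing when the sectional rank is at most two. -/
lemma centralizer_le (h2 : IsPGroup 2 S) (hr : Cfsg.SectionalPRankLE 2 2 S) (H : Subgroup S)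
    (hcard : Nat.card H = 2 ^ 3) (hna : ¬ IsMulCommutative H)
    (hsq : ∀ h ∈ H, ∀ g ∈ H, h * h * g = g * (h * h)) : centralizer (H : Set S) ≤ H := by
  classical
  haveI : Fact (Nat.Prime 2) := ⟨Nat.prime_two⟩
  intro x hx
  by_contra hxH
  -- an element with square in `H`
  obtain ⟨k0, hk0⟩ : ∃ k : ℕ, x ^ 2 ^ k = 1 := by
    obtain ⟨k, hk⟩ := (IsPGroup.iff_orderOf.1 h2) x
    exact ⟨k, by rw [← hk, pow_orderOf_eq_one]⟩
  have hex : ∃ k : ℕ, x ^ 2 ^ k ∈ H := ⟨k0, by rw [hk0]; exact H.one_mem⟩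
  have hk := Nat.find_spec hex
  have hk1 : Nat.find hex ≠ 0 := by
    intro h0
    rw [h0] at hk
    simp at hk
    exact hxH hk
  obtain ⟨j, hj⟩ : ∃ j, Nat.find hex = j + 1 := ⟨Nat.find hex - 1, by omega⟩
  have hjn : x ^ 2 ^ j ∉ H := Nat.find_min hex (by omega)
  set y := x ^ 2 ^ j with hy
  have hyy : y * y ∈ H := by
    rw [hj, pow_succ, pow_mul] at hk
    rw [← pow_two]
    exact hk
  have hyC : y ∈ centralizer (H : Set S) := pow_mem hx _
  have hyc : ∀ h ∈ H, h * y = y * h := fun h hh => Subgroup.mem_centralizer_iff.1 hyC h hh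
  set Z := H ⊓ centralizer (H : Set S) with hZ
  set K := H ⊔ zpowers y with hK
  have hHK : H ≤ K := le_sup_left
  have hyK : y ∈ K := mem_sup_right (mem_zpowers y)
  have hcomm : ∀ h ∈ H, ∀ t ∈ zpowers y, h * t = t * h := by
    intro h hh t ht
    obtain ⟨i, rfl⟩ := mem_zpowers_iff.1 ht
    exact ((show Commute h y from hyc h hh).zpow_right i).eq
  have hZK : Z ≤ K := inf_le_left.trans hHK
  -- elements of `K` commute with `Z`
  have hKZ : ∀ k ∈ K, ∀ z ∈ Z, k * z = z * k := by
    intro k hk z hz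
    obtain ⟨h, hh, t, ht, rfl⟩ := CfsgLib.Comp.mem_sup_of_commute hcomm hk
    have hz1 : z ∈ H := hz.1
    have hz2 : z ∈ centralizer (H : Set S) := hz.2
    have h1 : h * z = z * h := Subgroup.mem_centralizer_iff.1 hz2 h hh
    have h3 : t * z = z * t := (hcomm z hz1 t ht).symm
    calc h * t * z = h * (t * z) := by group
      _ = h * (z * t) := by rw [h3]
      _ = (h * z) * t := by group
      _ = (z * h) * t := by rw [h1]
      _ = z * (h * t) := by group
  let N : Subgroup K := Z.subgroupOf K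
  haveI hNn : N.Normal := by
    refine ⟨fun n hn g => ?_⟩
    have hn' : (n : S) ∈ Z := hn
    have h1 : (g : S) * n * (g : S)⁻¹ = n := by
      rw [hKZ g g.2 n hn']
      group
    show ((g * n * g⁻¹ : K) : S) ∈ Z
    push_cast
    rw [h1]
    exact hn'
  -- squares lie in `Z`
  have hsqK : ∀ k ∈ K, k * k ∈ Z := by
    intro k hk
    obtain ⟨h, hh, t, ht, rfl⟩ := CfsgLib.Comp.mem_sup_of_commute hcomm hk
    have h1 : h * t * (h * t) = (h * h) * (t * t) := by
      have := hcomm h hh t ht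
      calc h * t * (h * t) = h * (t * h) * t := by group
        _ = h * (h * t) * t := by rw [this]
        _ = _ := by group
    rw [h1]
    have h3 : h * h ∈ Z := by
      refine ⟨H.mul_mem hh hh, ?_⟩
      change h * h ∈ centralizer (H : Set S)
      rw [Subgroup.mem_centralizer_iff]
      intro g hg
      exact (hsq h hh g hg).symm
    have h4 : t * t ∈ Z := by
      obtain ⟨i, rfl⟩ := mem_zpowers_iff.1 ht
      have h5 : y ^ i * y ^ i = (y * y) ^ i := ((Commute.refl y).mul_zpow i).symm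
      rw [h5]
      apply zpow_mem
      refine ⟨hyy, mul_mem hyC hyC⟩
    exact Z.mul_mem h3 h4
  have hexp : ∀ q : K ⧸ N, q * q = 1 := by
    intro q
    obtain ⟨k, rfl⟩ := QuotientGroup.mk_surjective q
    rw [← QuotientGroup.mk_mul, QuotientGroup.eq_one_iff]
    exact hsqK k k.2
  have hcq : ∀ a b : K ⧸ N, a * b = b * a := by
    intro a b
    have h1 := hexp (a * b)
    have h3 := hexp a
    have h4 := hexp b
    calc a * b = a * b * (b * a * (b * a)) := by rw [hexp, mul_one]
      _ = a * (b * b) * a * (b * a) := by group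
      _ = (a * a) * (b * a) := by rw [h4]; group
      _ = b * a := by rw [h3, one_mul]
  have hrank := hr K N (⊤ : Subgroup (K ⧸ N)) ⟨⟨fun a b => Subtype.ext (hcq a b)⟩⟩ (fun a _ => by
    rw [pow_two]; exact hexp a)
  rw [Subgroup.card_top] at hrank
  -- cardinalities
  have hKp : IsPGroup 2 K := h2.to_subgroup K
  have hlt : H < K := lt_of_le_of_ne hHK (by
    intro h3
    exact hjn (h3 ▸ hyK))
  have h16 : 2 * Nat.card H ∣ Nat.card K := CfsgLib.PLocal.p_mul_card_dvd_of_lt hKp hlt
  have hKcard : 16 ≤ Nat.card K := by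
    rw [hcard] at h16
    exact Nat.le_of_dvd Nat.card_pos h16
  have hZc : Nat.card Z = 2 := by
    have h3 : Z.subgroupOf H = center H := by
      ext z
      rw [Subgroup.mem_subgroupOf, Subgroup.mem_center_iff]
      constructor
      · intro hz g
        apply Subtype.ext
        exact Subgroup.mem_centralizer_iff.1 hz.2 g g.2
      · intro hz
        refine ⟨z.2, ?_⟩
        change (z : S) ∈ centralizer (H : Set S)
        rw [Subgroup.mem_centralizer_iff]
        intro g hg
        exact congrArg Subtype.val (hz ⟨g, hg⟩)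
    have h4 := CfsgLib.MaxClassB.card_center_of_cube (p := 2) hcard hna
    rw [← h3] at h4
    rwa [Nat.card_congr (Subgroup.subgroupOfEquivOfLe (inf_le_left : Z ≤ H)).toEquiv] at h4
  have hNc : Nat.card N = 2 := by
    rw [← hZc]
    exact Nat.card_congr (Subgroup.subgroupOfEquivOfLe hZK).toEquiv
  have h5 := Subgroup.card_eq_card_quotient_mul_card_subgroup N
  rw [hNc] at h5
  omega

theorem main (h2 : IsPGroup 2 S) (hr : Cfsg.SectionalPRankLE 2 2 S)
    (hsub : ∃ H : Subgroup S, Nonempty (↥H ≃* DihedralGroup 4) ∨ Nonempty (↥H ≃* QuaternionGroup 2)) :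
    ((∃ k : ℕ, Nonempty (S ≃* DihedralGroup (2 ^ (k + 2)))) ∨
      (∃ k : ℕ, Nat.card S = 2 ^ (k + 4) ∧ ∃ a b : S, orderOf a = 2 ^ (k + 3) ∧ orderOf b = 2 ∧ b * a * b⁻¹ = a ^ (2 ^ (k + 2) - 1)) ∨
      (∃ k : ℕ, Nonempty (S ≃* QuaternionGroup (2 ^ (k + 1))))) := by
  haveI : Fact (Nat.Prime 2) := ⟨Nat.prime_two⟩
  obtain ⟨H, he⟩ := hsub
  obtain ⟨hc, hna, hsq⟩ := facts he
  have hcen := centralizer_le h2 hr H hc hna hsq
  obtain ⟨n, hn⟩ := IsPGroup.iff_card.1 h2
  have hcl := CfsgLib.MaxClassB.main (p := 2) n S hn H hc hna hcen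
  have h8 : Nat.card H ∣ Nat.card S := Subgroup.card_subgroup_dvd_card H
  rw [hc, hn] at h8
  have hn3 : 3 ≤ n := (Nat.pow_dvd_pow_iff_le_right (by norm_num)).1 h8
  have h4 : (commutator S).index = 2 ^ 2 := CfsgLib.OOL.index_of_max_class n hn hcl hn3
  rcases CfsgLib.Taussky.main h2 (by rw [h4]; norm_num) with h | h
  · exfalso
    rw [hn] at h
    have : 2 ^ 3 ≤ 2 ^ n := Nat.pow_le_pow_right (by norm_num) hn3
    omega
  · exact h

end CfsgLib.SecRankTwo
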