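import Mathlib
import Cfsg.Prelude.Def_SubgroupEmbedding
import Cfsg.Prelude.Def_Transfer
import Cfsg.Agent.Lib.H3.BaerSuzuki
import Cfsg.Agent.Lib.FGS.Basic

/-! # Sidki pairs of order at most four -/

namespace CfsgLib.Sidki

open Subgroup

variable {G : Type*} [Group G]

lemma odd_sq_eq_one {x : G} (hx : Odd (orderOf x)) (h : x * x = 1) : x = 1 := by
  have h2 : orderOf x ∣ 2 := orderOf_dvd_of_pow_eq_one (by rw [pow_two]; exact h)
  have hcop : Nat.Coprime (orderOf x) 2 := hx.coprime_two_right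
  have : orderOf x = 1 := Nat.Coprime.eq_one_of_dvd hcop h2
  exact orderOf_eq_one_iff.1 this

/-- Square root in an element of odd order. -/
lemma exists_sqrt {x : G} (hx : Odd (orderOf x)) : ∃ y : G, y * y = x ∧ y ∈ zpowers x := by
  obtain ⟨m, hm⟩ := hx
  refine ⟨x ^ (m + 1), ?_, ⟨((m + 1 : ℕ) : ℤ), zpow_natCast x (m + 1)⟩⟩
  rw [← pow_add]
  have : m + 1 + (m + 1) = orderOf x + 1 := by omega
  rw [this, pow_add, pow_orderOf_eq_one, one_mul, pow_one]

lemma commute_of_commute_sq {x h : G} (hx : Odd (orderOf x)) (hc : Commute (x * x) h) :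
    Commute x h := by
  obtain ⟨y, hy, hyz⟩ := exists_sqrt (x := x * x)
    (by
      rw [← pow_two]
      have hcop : Nat.Coprime (orderOf x) 2 := hx.coprime_two_right
      rw [(hcop.orderOf_pow)]
      exact hx)
  have hx1 : x ∈ zpowers (x * x) := by
    obtain ⟨m, hm⟩ := hx
    refine ⟨((m + 1 : ℕ) : ℤ), ?_⟩
    simp only [zpow_natCast]
    rw [← pow_two, ← pow_mul]
    have : 2 * (m + 1) = orderOf x + 1 := by omega
    rw [this, pow_add, pow_orderOf_eq_one, one_mul, pow_one]
  obtain ⟨n, hn⟩ := hx1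
  rw [← hn]
  exact hc.zpow_left n

/-- The key lemma: two elements of different types contradict the Sidki property. -/
lemma key {V : Subgroup G} (hS : Cfsg.IsSidkiPair V) {a b h k : G}
    (ha : a ∈ V) (hb : b ∈ V)
    (ha2 : a * a = 1) (hb2 : b * b = 1) (hab : a * b = b * a)
    (hV4 : ∀ v ∈ V, v = 1 ∨ v = a ∨ v = b ∨ v = a * b)
    (hodd : Odd (orderOf h)) (hkodd : Odd (orderOf k)) (hne : h ≠ 1) (hkne : k ≠ 1)
    (hah : a * h * a⁻¹ = h⁻¹) (hbh : b * h = h * b)
    (hak : a * k = k * a) (hbk : b * k * b⁻¹ = k⁻¹) : False := by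
  have hai : a⁻¹ = a := inv_eq_of_mul_eq_one_left ha2
  have hbi : b⁻¹ = b := inv_eq_of_mul_eq_one_left hb2
  obtain ⟨k', hk', hk'z⟩ := exists_sqrt hkodd
  obtain ⟨n, hn⟩ := hk'z
  have hak' : Commute a k' := by
    rw [← hn]
    exact Commute.zpow_right (show Commute a k from hak) n
  have hbk' : b * k' * b = k'⁻¹ := by
    have h1 : b * k' * b⁻¹ = k'⁻¹ := by
      rw [← hn, ← conj_zpow, hbk, inv_zpow]
    rwa [hbi] at h1
  -- the conjugate of `h`
  set h' : G := k' * h * k'⁻¹ with hh'
  have hh'odd : Odd (orderOf h') := by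
    rw [hh']
    rw [show k' * h * k'⁻¹ = (MulAut.conj k') h from rfl, MulEquiv.orderOf_eq]
    exact hodd
  have hh'ne : h' ≠ 1 := by
    intro e
    apply hne
    rw [hh'] at e
    have : h = k'⁻¹ * (k' * h * k'⁻¹) * k' := by group
    rw [this, e]; group
  have hah' : a * h' * a⁻¹ = h'⁻¹ := by
    rw [hh']
    have e1 : a * (k' * h * k'⁻¹) * a⁻¹ = k' * (a * h * a⁻¹) * k'⁻¹ := by
      have : a * k' = k' * a := hak'
      have e2 : a * k'⁻¹ = k'⁻¹ * a := by
        have := (hak'.inv_right : Commute a k'⁻¹)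
        exact this
      calc a * (k' * h * k'⁻¹) * a⁻¹ = (a * k') * h * k'⁻¹ * a⁻¹ := by group
        _ = k' * a * h * k'⁻¹ * a⁻¹ := by rw [this]
        _ = k' * (a * h * a⁻¹) * (a * k'⁻¹) * a⁻¹ := by group
        _ = k' * (a * h * a⁻¹) * (k'⁻¹ * a) * a⁻¹ := by rw [e2]
        _ = k' * (a * h * a⁻¹) * k'⁻¹ := by group
    rw [e1, hah]
    group
  obtain ⟨w, hw, hw1, hwc⟩ := hS h' a ha hh'odd hah'
  rcases hV4 w hw with rfl | rfl | rfl | rfl
  · exact hw1 rfl
  · -- `a` commutes with `h'`: impossible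
    apply hh'ne
    apply odd_sq_eq_one hh'odd
    have : w * h' * w⁻¹ = h' := by rw [hwc]; group
    rw [this] at hah'
    calc h' * h' = h' * h'⁻¹ := by
            conv_lhs => rw [hah']
            rw [← hah']
      _ = 1 := by group
  · -- `b` commutes with `h'`, so `k` commutes with `h`
    have hyc : (k'⁻¹ * w * k') * h = h * (k'⁻¹ * w * k') := by
      have := hwc
      rw [hh'] at this
      have e : k'⁻¹ * (w * (k' * h * k'⁻¹)) * k' = k'⁻¹ * ((k' * h * k'⁻¹) * w) * k' := by rw [this]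
      calc (k'⁻¹ * w * k') * h = k'⁻¹ * (w * (k' * h * k'⁻¹)) * k' := by group
        _ = k'⁻¹ * ((k' * h * k'⁻¹) * w) * k' := e
        _ = h * (k'⁻¹ * w * k') := by group
    have hky : w * (k'⁻¹ * w * k') = k := by
      have : w * k'⁻¹ * w = k' := by
        have e : w * k' * w = k'⁻¹ := hbk'
        have : w * k'⁻¹ * w = (w * k' * w)⁻¹ := by
          simp only [mul_inv_rev, hbi, mul_assoc]
        rw [this, e, inv_inv]
      calc w * (k'⁻¹ * w * k') = (w * k'⁻¹ * w) * k' := by group
        _ = k' * k' := by rw [this]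
        _ = k := hk'
    have hkh : Commute k h := by
      rw [← hky]
      exact Commute.mul_left hbh hyc
    -- the product `x = h k`
    have hxodd : Odd (orderOf (h * k)) := by
      have hd := (hkh.symm).orderOf_mul_dvd_lcm
      have hlcm : Nat.lcm (orderOf h) (orderOf k) ∣ orderOf h * orderOf k := Nat.lcm_dvd_mul _ _
      exact Odd.of_dvd_nat (hodd.mul hkodd) (hd.trans hlcm)
    have hcx : (a * w) * (h * k) * (a * w)⁻¹ = (h * k)⁻¹ := by
      have e1 : (a * w) * h * (a * w)⁻¹ = h⁻¹ := by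
        calc (a * w) * h * (a * w)⁻¹ = a * (w * h) * w⁻¹ * a⁻¹ := by group
          _ = a * (h * w) * w⁻¹ * a⁻¹ := by rw [hbh]
          _ = a * h * a⁻¹ := by group
          _ = h⁻¹ := hah
      have e2 : (a * w) * k * (a * w)⁻¹ = k⁻¹ := by
        rw [hab]
        calc (w * a) * k * (w * a)⁻¹ = w * (a * k) * a⁻¹ * w⁻¹ := by group
          _ = w * (k * a) * a⁻¹ * w⁻¹ := by rw [hak]
          _ = w * k * w⁻¹ := by group
          _ = k⁻¹ := hbk
      calc (a * w) * (h * k) * (a * w)⁻¹
          = ((a * w) * h * (a * w)⁻¹) * ((a * w) * k * (a * w)⁻¹) := by group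
        _ = h⁻¹ * k⁻¹ := by rw [e1, e2]
        _ = (k * h)⁻¹ := by group
        _ = (h * k)⁻¹ := by rw [show k * h = h * k from hkh]
    obtain ⟨w2, hw2, hw21, hw2c⟩ := hS (h * k) (a * w) (V.mul_mem ha hb) hxodd hcx
    rcases hV4 w2 hw2 with rfl | rfl | rfl | rfl
    · exact hw21 rfl
    · -- `a` commutes with `hk`
      apply hne
      apply odd_sq_eq_one hodd
      have e : w2 * (h * k) * w2⁻¹ = h⁻¹ * k := by
        calc w2 * (h * k) * w2⁻¹ = (w2 * h * w2⁻¹) * (w2 * k * w2⁻¹) := by group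
          _ = h⁻¹ * (w2 * k * w2⁻¹) := by rw [hah]
          _ = h⁻¹ * (k * w2 * w2⁻¹) := by rw [hak]
          _ = h⁻¹ * k := by group
      have e' : w2 * (h * k) * w2⁻¹ = h * k := by rw [hw2c]; group
      rw [e] at e'
      have : h⁻¹ = h := mul_right_cancel e'
      calc h * h = h⁻¹ * h := by rw [this]
        _ = 1 := by group
    · -- `b` commutes with `hk`
      apply hkne
      apply odd_sq_eq_one hkodd
      have e : w2 * (h * k) * w2⁻¹ = h * k⁻¹ := by
        calc w2 * (h * k) * w2⁻¹ = (w2 * h * w2⁻¹) * (w2 * k * w2⁻¹) := by group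
          _ = (w2 * h * w2⁻¹) * k⁻¹ := by rw [hbk]
          _ = (h * w2 * w2⁻¹) * k⁻¹ := by rw [hbh]
          _ = h * k⁻¹ := by group
      have e' : w2 * (h * k) * w2⁻¹ = h * k := by rw [hw2c]; group
      rw [e] at e'
      have : k⁻¹ = k := mul_left_cancel e'
      calc k * k = k⁻¹ * k := by rw [this]
        _ = 1 := by group
    · -- `ab` commutes with `hk`
      have e' : (a * w) * (h * k) * (a * w)⁻¹ = h * k := by rw [hw2c]; group
      rw [hcx] at e'
      have hx1 : h * k = 1 := by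
        apply odd_sq_eq_one hxodd
        calc (h * k) * (h * k) = (h * k)⁻¹ * (h * k) := by rw [e']
          _ = 1 := by group
      have hkh' : k = h⁻¹ := eq_inv_of_mul_eq_one_right hx1
      apply hne
      apply odd_sq_eq_one hodd
      have hah2 : a * h = h * a := by
        have : a * h⁻¹ = h⁻¹ * a := by rw [← hkh']; exact hak
        have h3 := (show Commute a h⁻¹ from this).inv_right
        rw [inv_inv] at h3
        exact h3
      have e : a * h * a⁻¹ = h := by rw [hah2]; group
      rw [hah] at e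
      calc h * h = h⁻¹ * h := by rw [e]
        _ = 1 := by group
  · -- `ab` commutes with `h'`: `b` inverts `h'`
    have hbh' : b * h' * b = h'⁻¹ := by
      have e : (a * b) * h' * (a * b)⁻¹ = h' := by rw [hwc]; group
      calc b * h' * b = a⁻¹ * ((a * b) * h' * (a * b)⁻¹) * a := by
            simp only [mul_inv_rev, hai, hbi]
            calc b * h' * b = (a * a) * b * h' * b * (a * a) := by rw [ha2]; group
              _ = _ := by group
        _ = a⁻¹ * h' * a := by rw [e]
        _ = a * h' * a⁻¹ := by rw [hai]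
        _ = h'⁻¹ := hah'
    -- so `y` inverts `h`, and `k` inverts `h`
    have hyh : (k'⁻¹ * b * k') * h * (k'⁻¹ * b * k')⁻¹ = h⁻¹ := by
      have e0 : k'⁻¹ * (b * h' * b) * k' = k'⁻¹ * h'⁻¹ * k' := by rw [hbh']
      calc (k'⁻¹ * b * k') * h * (k'⁻¹ * b * k')⁻¹
          = k'⁻¹ * (b * (k' * h * k'⁻¹) * b⁻¹) * k' := by group
        _ = k'⁻¹ * (b * h' * b) * k' := by rw [hbi]
        _ = k'⁻¹ * h'⁻¹ * k' := e0
        _ = h⁻¹ := by rw [hh']; group
    have hky : b * (k'⁻¹ * b * k') = k := by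
      have : b * k'⁻¹ * b = k' := by
        have : b * k'⁻¹ * b = (b * k' * b)⁻¹ := by
          simp only [mul_inv_rev, hbi, mul_assoc]
        rw [this, hbk', inv_inv]
      calc b * (k'⁻¹ * b * k') = (b * k'⁻¹ * b) * k' := by group
        _ = k' * k' := by rw [this]
        _ = k := hk'
    have hkh : k * h * k⁻¹ = h⁻¹ := by
      rw [← hky]
      calc (b * (k'⁻¹ * b * k')) * h * (b * (k'⁻¹ * b * k'))⁻¹
          = b * ((k'⁻¹ * b * k') * h * (k'⁻¹ * b * k')⁻¹) * b⁻¹ := by group
        _ = b * h⁻¹ * b⁻¹ := by rw [hyh]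
        _ = h⁻¹ := by
          have := (show Commute b h from hbh).inv_right
          rw [this.eq]; group
    have hk2 : Commute (k * k) h := by
      have h3 : k * h⁻¹ * k⁻¹ = h := by
        have : k * h⁻¹ * k⁻¹ = (k * h * k⁻¹)⁻¹ := by group
        rw [this, hkh, inv_inv]
      show (k * k) * h = h * (k * k)
      calc (k * k) * h = k * (k * h * k⁻¹) * k := by group
        _ = k * h⁻¹ * k := by rw [hkh]
        _ = (k * h⁻¹ * k⁻¹) * (k * k) := by group
        _ = h * (k * k) := by rw [h3]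
    have hkc := commute_of_commute_sq hkodd hk2
    apply hne
    apply odd_sq_eq_one hodd
    have e : k * h * k⁻¹ = h := by rw [hkc.eq]; group
    rw [hkh] at e
    calc h * h = h⁻¹ * h := by rw [e]
      _ = 1 := by group

/-- Baer–Suzuki for an involution: an involution outside `O₂` inverts a nontrivial element of odd
order. -/
lemma exists_inverted [Finite G] {v : G} (hv : v * v = 1) (hvO : v ∉ Cfsg.pCore 2 G) :
    ∃ h : G, Odd (orderOf h) ∧ h ≠ 1 ∧ v * h * v⁻¹ = h⁻¹ := by
  classical
  haveI : Fact (Nat.Prime 2) := ⟨Nat.prime_two⟩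
  have hvi : v⁻¹ = v := inv_eq_of_mul_eq_one_left hv
  by_contra hcon
  push Not at hcon
  apply hvO
  have hall : ∀ g : G, IsPGroup 2 ↥(zpowers v ⊔ (zpowers v).map (MulAut.conj g).toMonoidHom) := by
    intro g
    set y := g * v * g⁻¹ with hy
    have hy2 : y * y = 1 := by
      rw [hy]
      calc g * v * g⁻¹ * (g * v * g⁻¹) = g * (v * v) * g⁻¹ := by group
        _ = 1 := by rw [hv]; group
    have hyi : y⁻¹ = y := inv_eq_of_mul_eq_one_left hy2
    set x := v * y with hx
    have hvx : v * x * v⁻¹ = x⁻¹ := by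
      rw [hx, mul_inv_rev, hyi, hvi]
      calc v * (v * y) * v = (v * v) * y * v := by group
        _ = y * v := by rw [hv]; group
    -- `x` has `2`-power order
    have hxp : ∃ s, orderOf x = 2 ^ s := by
      have hfin : 0 < orderOf x := orderOf_pos x
      obtain ⟨s, m, hm, hn⟩ := Nat.exists_eq_two_pow_mul_odd hfin.ne'
      refine ⟨s, ?_⟩
      by_cases hm1 : m = 1
      · rw [hn, hm1, mul_one]
      exfalso
      have hord : orderOf (x ^ (2 ^ s)) = m := by
        rw [orderOf_pow_of_dvd (pow_ne_zero _ (by norm_num)) ⟨m, hn⟩, hn]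
        exact Nat.mul_div_cancel_left m (pow_pos (by norm_num) s)
      apply hcon (x ^ (2 ^ s)) (by rw [hord]; exact hm)
      · intro e
        rw [e, orderOf_one] at hord
        exact hm1 hord.symm
      · rw [← conj_pow, hvx, inv_pow]
    obtain ⟨s, hs⟩ := hxp
    have hz : IsPGroup 2 (zpowers x) := by
      apply IsPGroup.of_card (n := s)
      rw [Nat.card_zpowers, hs]
    have hle : zpowers v ⊔ (zpowers v).map (MulAut.conj g).toMonoidHom ≤ zpowers x ⊔ zpowers v := by
      refine sup_le le_sup_right ?_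
      rw [MonoidHom.map_zpowers]
      rw [zpowers_le]
      show y ∈ _
      have : y = v⁻¹ * x := by rw [hx]; group
      rw [this]
      exact mul_mem (inv_mem (mem_sup_right (mem_zpowers v))) (mem_sup_left (mem_zpowers x))
    apply IsPGroup.to_le _ hle
    -- `zpowers x` is normalized by `v`
    have hn : zpowers v ≤ normalizer (zpowers x : Set G) := by
      rw [zpowers_le, mem_normalizer_iff]
      intro n
      constructor
      · rintro ⟨m, rfl⟩
        refine ⟨-m, ?_⟩
        show x ^ (-m) = v * x ^ m * v⁻¹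
        rw [← conj_zpow, hvx]; simp
      · rintro ⟨m, hm⟩
        refine ⟨-m, ?_⟩
        have hm' : v * n * v⁻¹ = x ^ m := hm.symm
        have : n = v * (x ^ m) * v⁻¹ := by
          rw [← hm', hvi]
          calc n = (v * v) * n * (v * v) := by rw [hv]; group
            _ = v * (v * n * v) * v := by group
        show x ^ (-m) = n
        rw [this, ← conj_zpow, hvx]; simp
    have hvp : IsPGroup 2 (zpowers v) := by
      apply IsPGroup.of_card (n := 1)
      rw [Nat.card_zpowers, pow_one]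
      have : orderOf v ∣ 2 := orderOf_dvd_of_pow_eq_one (by rw [pow_two]; exact hv)
      rcases (Nat.dvd_prime Nat.prime_two).1 this with h1 | h2
      · exfalso
        have hv1 : v = 1 := orderOf_eq_one_iff.1 h1
        apply hvO
        rw [hv1]; exact one_mem _
      · exact h2
    have := IsPGroup.to_sup_of_normal_left' (p := 2) hz hvp hn
    exact this
  obtain ⟨N, hNn, hNp, hle⟩ := CfsgLib.BS.baer_suzuki (zpowers v) hall
  have : N ≤ Cfsg.pCore 2 G := by
    haveI := hNn
    exact CfsgLib.FGS.le_pCore N hNp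
  exact this (hle (mem_zpowers v))

/-- A group of order at most `4` with two distinct nontrivial involutions
consists of `1, a, b, ab`. -/
lemma mem_four [Finite G] {V : Subgroup G} (h4 : Nat.card V ≤ 4) {a b : G} (ha : a ∈ V) (hb : b ∈ V)
    (ha1 : a ≠ 1) (hb1 : b ≠ 1) (hab : a ≠ b) (hbb : b * b = 1) :
    ∀ v ∈ V, v = 1 ∨ v = a ∨ v = b ∨ v = a * b := by
  classical
  intro v hv
  by_contra hcon
  push Not at hcon
  obtain ⟨h1, h2, h3, h4'⟩ := hcon
  have hab1 : a * b ≠ 1 := by
    intro e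
    apply hab
    have hbi : b⁻¹ = b := inv_eq_of_mul_eq_one_left hbb
    have : a = b⁻¹ := eq_inv_of_mul_eq_one_left e
    rw [this, hbi]
  have hab2 : a ≠ a * b := by
    intro e
    apply hb1
    have : a * 1 = a * b := by rw [mul_one]; exact e
    exact (mul_left_cancel this).symm
  have hab3 : b ≠ a * b := by
    intro e
    apply ha1
    have : 1 * b = a * b := by rw [one_mul]; exact e
    exact (mul_right_cancel this).symm
  have hS : ((({1, a, b, a * b, v} : Finset G) : Set G)) ⊆ (V : Set G) := by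
    intro x hx
    simp only [Finset.coe_insert, Finset.coe_singleton, Set.mem_insert_iff,
      Set.mem_singleton_iff] at hx
    rcases hx with rfl | rfl | rfl | rfl | rfl
    · exact V.one_mem
    · exact ha
    · exact hb
    · exact V.mul_mem ha hb
    · exact hv
  have hc := Set.ncard_le_ncard hS (Set.toFinite _)
  rw [Set.ncard_coe_finset] at hc
  have hcard5 : ({1, a, b, a * b, v} : Finset G).card = 5 := by
    rw [Finset.card_insert_of_notMem, Finset.card_insert_of_notMem, Finset.card_insert_of_notMem,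
      Finset.card_insert_of_notMem, Finset.card_singleton]
    · simp only [Finset.mem_singleton]; exact fun e => h4' e.symm
    · simp only [Finset.mem_insert, Finset.mem_singleton]
      rintro (e | e)
      · exact hab3 e
      · exact h3 e.symm
    · simp only [Finset.mem_insert, Finset.mem_singleton]
      rintro (e | e | e)
      · exact hab e
      · exact hab2 e
      · exact h2 e.symm
    · simp only [Finset.mem_insert, Finset.mem_singleton]
      rintro (e | e | e | e)
      · exact ha1 e.symm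
      · exact hb1 e.symm
      · exact hab1 e.symm
      · exact h1 e.symm
  rw [hcard5] at hc
  have : (V : Set G).ncard = Nat.card V := Nat.card_coe_set_eq (V : Set G) |>.symm
  omega

theorem main [Finite G] (V : Subgroup G) (hV : Cfsg.IsElementaryAbelian 2 V) (hV1 : V ≠ ⊥)
    (hS : Cfsg.IsSidkiPair V) (h4 : Nat.card V ≤ 4) : V ⊓ Cfsg.pCore 2 G ≠ ⊥ := by
  classical
  intro hbot
  have hinv : ∀ v ∈ V, v * v = 1 := by
    intro v hv
    have := hV.2 v hv
    rwa [pow_two] at this
  have hcomm : ∀ u ∈ V, ∀ v ∈ V, u * v = v * u := by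
    intro u hu v hv
    have := hV.1.is_comm.comm (⟨u, hu⟩ : V) ⟨v, hv⟩
    exact congrArg Subtype.val this
  have hnot : ∀ v ∈ V, v ≠ 1 → v ∉ Cfsg.pCore 2 G := by
    intro v hv hv1 hvc
    have : v ∈ V ⊓ Cfsg.pCore 2 G := ⟨hv, hvc⟩
    rw [hbot] at this
    exact hv1 (Subgroup.mem_bot.1 this)
  -- element of `V`, and its inverted odd element
  have hstep : ∀ v ∈ V, v ≠ 1 → ∃ h w : G, Odd (orderOf h) ∧ h ≠ 1 ∧ v * h * v⁻¹ = h⁻¹ ∧ w ∈ V ∧
      w ≠ 1 ∧ w ≠ v ∧ w * h = h * w := by
    intro v hv hv1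
    obtain ⟨h, hodd, hne, hinvh⟩ := exists_inverted (hinv v hv) (hnot v hv hv1)
    obtain ⟨w, hw, hw1, hwc⟩ := hS h v hv hodd hinvh
    refine ⟨h, w, hodd, hne, hinvh, hw, hw1, ?_, hwc⟩
    rintro rfl
    apply hne
    apply odd_sq_eq_one hodd
    have e : w * h * w⁻¹ = h := by rw [hwc]; group
    rw [e] at hinvh
    calc h * h = h⁻¹ * h := by rw [← hinvh]
      _ = 1 := by group
  obtain ⟨a, ha, ha1⟩ := (Subgroup.ne_bot_iff_exists_ne_one (H := V)).1 hV1 |>.imp (fun x hx => hx) |> fun ⟨x, hx⟩ =>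
    (⟨x.1, x.2, fun e => hx (Subtype.ext e)⟩ : ∃ a : G, a ∈ V ∧ a ≠ 1)
  obtain ⟨h, b, hodd, hne, hah, hb, hb1, hba, hbh⟩ := hstep a ha ha1
  obtain ⟨k, w, hkodd, hkne, hbk, hw, hw1, hwb, hwk⟩ := hstep b hb hb1
  have hV4 := mem_four h4 ha hb ha1 hb1 (Ne.symm hba) (hinv b hb)
  rcases hV4 w hw with rfl | rfl | rfl | rfl
  · exact hw1 rfl
  · -- `k` commutes with `a`
    exact key hS ha hb (hinv _ ha) (hinv _ hb) (hcomm _ ha _ hb) hV4 hodd hkodd hne hkne hah hbh
      hwk hbk
  · exact hwb rfl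
  · -- `k` commutes with `a b`; use the pair `(a b, b)`
    have hc : a * b ∈ V := V.mul_mem ha hb
    have hbinv : b⁻¹ = b := inv_eq_of_mul_eq_one_left (hinv b hb)
    have hainv : a⁻¹ = a := inv_eq_of_mul_eq_one_left (hinv a ha)
    have hch : (a * b) * h * (a * b)⁻¹ = h⁻¹ := by
      calc (a * b) * h * (a * b)⁻¹ = a * (b * h) * b⁻¹ * a⁻¹ := by group
        _ = a * (h * b) * b⁻¹ * a⁻¹ := by rw [hbh]
        _ = a * h * a⁻¹ := by group
        _ = h⁻¹ := hah
    have hcab : (a * b) * b = b * (a * b) := by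
      rw [mul_assoc, hinv b hb, mul_one, hcomm a ha b hb, ← mul_assoc, hinv b hb, one_mul]
    have hV4' : ∀ v ∈ V, v = 1 ∨ v = a * b ∨ v = b ∨ v = (a * b) * b := by
      intro v hv
      have e : (a * b) * b = a := by rw [mul_assoc, hinv b hb, mul_one]
      rw [e]
      rcases hV4 v hv with rfl | rfl | rfl | rfl
      · exact Or.inl rfl
      · exact Or.inr (Or.inr (Or.inr rfl))
      · exact Or.inr (Or.inr (Or.inl rfl))
      · exact Or.inr (Or.inl rfl)
    have hcc : (a * b) * (a * b) = 1 := hinv _ hc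
    exact key hS hc hb hcc (hinv _ hb) hcab hV4' hodd hkodd hne hkne hch hbh hwk hbk

end CfsgLib.Sidki
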