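import Cfsg.Prelude.Def_Involutions
import Cfsg.Agent.Lib.H3.BaerSuzuki
import Cfsg.Agent.Lib.Invol.Isolated

/-! Strongly embedded subgroups: basic criteria. -/

namespace CfsgLib.SE

open Subgroup CfsgLib.Invol

variable {G : Type*} [Group G]

lemma mem_map_conj {H : Subgroup G} {g x : G} :
    x ∈ H.map (MulAut.conj g).toMonoidHom ↔ g⁻¹ * x * g ∈ H := by
  constructor
  · rintro ⟨y, hy, rfl⟩
    have : g⁻¹ * ((MulAut.conj g).toMonoidHom y) * g = y := by
      simp only [MulEquiv.coe_toMonoidHom, MulAut.conj_apply]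
      group
    rw [this]
    exact hy
  · intro h
    refine ⟨_, h, ?_⟩
    simp only [MulEquiv.coe_toMonoidHom, MulAut.conj_apply]
    group

lemma mem_inf_map {A H : Subgroup G} {g x : G} :
    x ∈ A ⊓ H.map (MulAut.conj g).toMonoidHom ↔ x ∈ A ∧ g⁻¹ * x * g ∈ H := by
  rw [mem_inf, mem_map_conj]

lemma exists_involution_of_not_odd [Finite G] {K : Subgroup G} (h : ¬ Odd (Nat.card K)) :
    ∃ t ∈ K, orderOf t = 2 := by
  have hp2 := Fact.mk Nat.prime_two
  have h2 : 2 ∣ Nat.card K := by
    rw [← even_iff_two_dvd]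
    exact Nat.not_odd_iff_even.1 h
  obtain ⟨x, hx⟩ := exists_prime_orderOf_dvd_card' 2 h2
  exact ⟨x.1, x.2, by rw [← hx]; exact Subgroup.orderOf_coe x⟩

lemma not_odd_of_mem [Finite G] {K : Subgroup G} {t : G} (htK : t ∈ K) (ht : orderOf t = 2) :
    ¬ Odd (Nat.card K) := by
  intro h
  have h1 : orderOf (⟨t, htK⟩ : K) ∣ Nat.card K := orderOf_dvd_natCard _
  rw [Subgroup.orderOf_mk, ht] at h1
  have : Even (Nat.card K) := even_iff_two_dvd.2 h1
  exact (Nat.not_even_iff_odd.2 h) this

/-- S0223. -/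
theorem stronglyEmbedded_iff [Finite G] (H : Subgroup G) (hH : H ≠ ⊤) (heven : Even (Nat.card H)) :
    Cfsg.IsStronglyEmbedded H ↔ ((∀ t ∈ H, orderOf t = 2 → Subgroup.centralizer ({t} : Set G) ≤ H) ∧
      (∀ t ∈ H, ∀ s ∈ H, orderOf t = 2 → orderOf s = 2 → IsConj t s → ∃ h ∈ H, h * t * h⁻¹ = s)) := by
  constructor
  · rintro ⟨_, _, hodd⟩
    refine ⟨?_, ?_⟩
    · intro t ht ho c hc
      by_contra hcH
      apply not_odd_of_mem (K := H ⊓ H.map (MulAut.conj c).toMonoidHom) (mem_inf_map.2 ⟨ht, ?_⟩) ho (hodd c hcH)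
      have hc' : c * t = t * c := Subgroup.mem_centralizer_singleton_iff.1 hc
      have : c⁻¹ * t * c = t := by
        calc c⁻¹ * t * c = c⁻¹ * (t * c) := by group
          _ = c⁻¹ * (c * t) := by rw [hc']
          _ = t := by group
      rw [this]
      exact ht
    · intro t ht s hs hot hos hc
      obtain ⟨g, hg⟩ := isConj_iff.1 hc
      by_cases hgH : g ∈ H
      · exact ⟨g, hgH, hg⟩
      · exfalso
        apply not_odd_of_mem (K := H ⊓ H.map (MulAut.conj g).toMonoidHom) (mem_inf_map.2 ⟨hs, ?_⟩) hos (hodd g hgH)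
        rw [← hg]
        have : g⁻¹ * (g * t * g⁻¹) * g = t := by group
        rw [this]
        exact ht
  · rintro ⟨h1, h2⟩
    refine ⟨hH, heven, ?_⟩
    intro g hg
    by_contra hno
    obtain ⟨t, ht', ho⟩ := exists_involution_of_not_odd hno
    obtain ⟨htH, htg⟩ := mem_inf_map.1 ht'
    have huo : orderOf (g⁻¹ * t * g) = 2 := by
      have := (MulAut.conj g⁻¹).orderOf_eq t
      rw [MulAut.conj_apply, inv_inv] at this
      rw [this, ho]
    obtain ⟨h, hh, hht⟩ := h2 _ htg t htH huo ho (isConj_iff.2 ⟨g, by group⟩)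
    have hc : h * g⁻¹ ∈ Subgroup.centralizer ({t} : Set G) := by
      rw [Subgroup.mem_centralizer_singleton_iff]
      calc h * g⁻¹ * t = (h * (g⁻¹ * t * g) * h⁻¹) * (h * g⁻¹) := by group
        _ = t * (h * g⁻¹) := by rw [hht]
    have h3 : h * g⁻¹ ∈ H := h1 t htH ho hc
    apply hg
    have : g = (h * g⁻¹)⁻¹ * h := by group
    rw [this]
    exact mul_mem (inv_mem h3) hh

/-- S0224. -/
theorem stronglyEmbedded_iff_fixed [Finite G] (H : Subgroup G) (hH : H ≠ ⊤)
    (heven : Even (Nat.card H)) :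
    Cfsg.IsStronglyEmbedded H ↔ ∀ t ∈ H, orderOf t = 2 → Nat.card {c : G ⧸ H // t • c = c} = 1 := by
  have hfix : ∀ (t g : G), (t • (QuotientGroup.mk g : G ⧸ H) = QuotientGroup.mk g) ↔ g⁻¹ * t * g ∈ H := by
    intro t g
    rw [MulAction.Quotient.smul_mk, QuotientGroup.eq]
    have : (t • g)⁻¹ * g = (g⁻¹ * t * g)⁻¹ := by
      simp only [smul_eq_mul]
      group
    rw [this, inv_mem_iff]
  constructor
  · rintro ⟨_, _, hodd⟩ t ht ho
    rw [Nat.card_eq_one_iff_unique]
    refine ⟨⟨?_⟩, ⟨⟨QuotientGroup.mk 1, ?_⟩⟩⟩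
    · rintro ⟨a, ha⟩ ⟨b, hb⟩
      have key : ∀ c : G ⧸ H, t • c = c → c = QuotientGroup.mk 1 := by
        intro c hc
        induction c using QuotientGroup.induction_on with
        | H g =>
          have hg := (hfix t g).1 hc
          by_cases hgH : g ∈ H
          · rw [QuotientGroup.eq]
            simpa using hgH
          · exfalso
            apply not_odd_of_mem (K := H ⊓ H.map (MulAut.conj g).toMonoidHom) (mem_inf_map.2 ⟨ht, hg⟩) ho (hodd g hgH)
      apply Subtype.ext
      exact (key a ha).trans (key b hb).symm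
    · rw [hfix]
      simpa using ht
  · intro h
    refine ⟨hH, heven, ?_⟩
    intro g hg
    by_contra hno
    obtain ⟨t, ht', ho⟩ := exists_involution_of_not_odd hno
    obtain ⟨htH, htg⟩ := mem_inf_map.1 ht'
    have h1 := h t htH ho
    rw [Nat.card_eq_one_iff_unique] at h1
    have h2 := h1.1
    have e : (⟨QuotientGroup.mk 1, (hfix t 1).2 (by simpa using htH)⟩ : {c : G ⧸ H // t • c = c}) =
        ⟨QuotientGroup.mk g, (hfix t g).2 htg⟩ := Subsingleton.elim _ _
    have e2 : (QuotientGroup.mk 1 : G ⧸ H) = QuotientGroup.mk g := congrArg Subtype.val e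
    rw [QuotientGroup.eq] at e2
    apply hg
    simpa using e2

/-- S0214. -/
theorem stronglyEmbedded_iff_normalizers [Finite G] (H : Subgroup G) (hH : H ≠ ⊤)
    (P : Sylow 2 ↥H) (hP : (P : Subgroup ↥H) ≠ ⊥) :
    Cfsg.IsStronglyEmbedded H ↔ (∀ X : Subgroup ↥H, X ≤ (P : Subgroup ↥H) → X ≠ ⊥ →
      Subgroup.normalizer ((X.map H.subtype : Subgroup G) : Set G) ≤ H) := by
  have hp2 := Fact.mk Nat.prime_two
  set P' : Subgroup G := (P : Subgroup H).map H.subtype with hP'def
  have hP'p : IsPGroup 2 P' := P.isPGroup'.map _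
  have hP'H : P' ≤ H := by
    rintro _ ⟨x, _, rfl⟩
    exact x.2
  have hP'ne : P' ≠ ⊥ := by
    intro h
    apply hP
    rw [eq_bot_iff]
    intro x hx
    have : (x : G) ∈ P' := ⟨x, hx, rfl⟩
    rw [h, mem_bot] at this
    rw [mem_bot]
    exact Subtype.ext this
  -- a nontrivial 2-group has even order
  have even_of : ∀ {X : Subgroup G}, IsPGroup 2 X → X ≠ ⊥ → ¬ Odd (Nat.card X) := by
    intro X hX hne hodd
    obtain ⟨k, hk⟩ := IsPGroup.iff_card.1 hX
    have hk0 : k ≠ 0 := by
      rintro rfl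
      rw [pow_zero] at hk
      exact hne (Subgroup.card_eq_one.1 hk)
    rw [hk] at hodd
    exact (Nat.not_even_iff_odd.2 hodd) ((Nat.even_pow.2 ⟨even_two, hk0⟩))
  constructor
  · rintro ⟨_, _, hodd⟩ X hXP hXne g hg
    by_contra hgH
    have hXp : IsPGroup 2 (X.map H.subtype) := (P.isPGroup'.to_le hXP).map _
    have hXne' : X.map H.subtype ≠ ⊥ := by
      intro h
      apply hXne
      rw [eq_bot_iff]
      intro x hx
      have : (x : G) ∈ X.map H.subtype := ⟨x, hx, rfl⟩
      rw [h, mem_bot] at this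
      rw [mem_bot]
      exact Subtype.ext this
    have hle : X.map H.subtype ≤ H ⊓ H.map (MulAut.conj g).toMonoidHom := by
      intro x hx
      refine mem_inf_map.2 ⟨?_, ?_⟩
      · obtain ⟨y, _, rfl⟩ := hx
        exact y.2
      · have h1 := (mem_normalizer_iff''.1 hg x).1 hx
        obtain ⟨y, _, hy⟩ := h1
        rw [← hy]
        exact y.2
    apply even_of hXp hXne'
    have hdvd : Nat.card (X.map H.subtype) ∣ Nat.card ↥(H ⊓ H.map (MulAut.conj g).toMonoidHom) :=
      Subgroup.card_dvd_of_le hle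
    exact Odd.of_dvd_nat (hodd g hgH) hdvd
  · intro hN
    have hNN : ∀ {D : Subgroup G}, D ≤ P' → D ≠ ⊥ → normalizer (D : Set G) ≤ H := by
      intro D hD hne
      have hDH : D ≤ H := hD.trans hP'H
      have hmap : (D.subgroupOf H).map H.subtype = D := by
        rw [Subgroup.map_subgroupOf_eq_of_le hDH]
      have := hN (D.subgroupOf H) (by
        intro x hx
        have : (x : G) ∈ P' := hD hx
        obtain ⟨y, hy, hyx⟩ := this
        have : y = x := Subtype.ext hyx
        rwa [← this]) (by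
        intro h
        apply hne
        rw [← hmap, h, Subgroup.map_bot])
      rwa [hmap] at this
    have hevenH : Even (Nat.card H) := by
      have h1 : Nat.card P' ∣ Nat.card H := Subgroup.card_dvd_of_le hP'H
      by_contra hodd
      have h2 := Nat.not_even_iff_odd.1 hodd
      exact even_of hP'p hP'ne (Odd.of_dvd_nat h2 h1)
    refine ⟨hH, hevenH, ?_⟩
    -- conjugates of `2`-subgroups of `H` into `P'`
    have hconjP : ∀ {A : Subgroup G}, IsPGroup 2 A → A ≤ H → ∃ h ∈ H, ∀ a ∈ A, h * a * h⁻¹ ∈ P' := by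
      intro A hA hAH
      have hA' : IsPGroup 2 (A.subgroupOf H) := hA.comap_of_injective H.subtype Subtype.val_injective
      obtain ⟨Q, hQ⟩ := hA'.exists_le_sylow
      obtain ⟨h, hh⟩ := MulAction.exists_smul_eq H Q P
      refine ⟨h.1, h.2, ?_⟩
      intro a ha
      have h1 : (⟨a, hAH ha⟩ : H) ∈ Q := hQ ha
      have h2 := conj_mem_of_smul hh h1
      exact ⟨_, h2, rfl⟩
    -- bad elements
    by_contra hno
    push Not at hno
    obtain ⟨g₀, hg₀H, hg₀odd⟩ := hno
    let Bad : Set G := {g | g ∉ H ∧ P' ⊓ P'.map (MulAut.conj g).toMonoidHom ≠ ⊥}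
    have hBad : Bad.Nonempty := by
      obtain ⟨t, ht', ho⟩ := exists_involution_of_not_odd hg₀odd
      obtain ⟨htH, htg⟩ := mem_inf_map.1 ht'
      have hpt : IsPGroup 2 (zpowers t) := by
        apply IsPGroup.of_card (n := 1)
        rw [Nat.card_zpowers, ho]; rfl
      have hu : orderOf (g₀⁻¹ * t * g₀) = 2 := by
        have := (MulAut.conj g₀⁻¹).orderOf_eq t
        rw [MulAut.conj_apply, inv_inv] at this
        rw [this, ho]
      have hpu : IsPGroup 2 (zpowers (g₀⁻¹ * t * g₀)) := by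
        apply IsPGroup.of_card (n := 1)
        rw [Nat.card_zpowers, hu]; rfl
      obtain ⟨h₁, hh₁, hh₁'⟩ := hconjP hpt ((zpowers_le).2 htH)
      obtain ⟨h₂, hh₂, hh₂'⟩ := hconjP hpu ((zpowers_le).2 htg)
      refine ⟨h₁ * g₀ * h₂⁻¹, ?_, ?_⟩
      · intro hmem
        apply hg₀H
        have : g₀ = h₁⁻¹ * (h₁ * g₀ * h₂⁻¹) * h₂ := by group
        rw [this]
        exact mul_mem (mul_mem (inv_mem hh₁) hmem) hh₂
      · intro hbot
        have h3 := hh₁' t (mem_zpowers t)
        have h4 := hh₂' _ (mem_zpowers _)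
        have hmem : h₁ * t * h₁⁻¹ ∈ P' ⊓ P'.map (MulAut.conj (h₁ * g₀ * h₂⁻¹)).toMonoidHom := by
          refine mem_inf_map.2 ⟨h3, ?_⟩
          have : (h₁ * g₀ * h₂⁻¹)⁻¹ * (h₁ * t * h₁⁻¹) * (h₁ * g₀ * h₂⁻¹) =
              h₂ * (g₀⁻¹ * t * g₀) * h₂⁻¹ := by group
          rw [this]
          exact h4
        rw [hbot, mem_bot] at hmem
        have : t = 1 := by
          have h5 : t = h₁⁻¹ * (h₁ * t * h₁⁻¹) * h₁ := by group
          rw [h5, hmem]
          group
        exact ne_one_of_order_two ho this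
    obtain ⟨g, ⟨hgH, hgne⟩, hbest⟩ := Set.exists_max_image Bad
      (fun g => Nat.card ↥(P' ⊓ P'.map (MulAut.conj g).toMonoidHom)) (Set.toFinite _) hBad
    set Pg : Subgroup G := P'.map (MulAut.conj g).toMonoidHom with hPg
    have hPgp : IsPGroup 2 Pg := hP'p.map _
    set D : Subgroup G := P' ⊓ Pg with hD
    have hDP : D ≤ P' := inf_le_left
    have hDPg : D ≤ Pg := inf_le_right
    have hNH : normalizer (D : Set G) ≤ H := hNN hDP hgne
    by_cases hDeq : D = Pg
    · -- `Pg ≤ P'`
      have hle : Pg ≤ P' := by rw [← hDeq]; exact hDP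
      have hcard : Nat.card Pg = Nat.card P' := by
        have := Nat.card_congr ((MulAut.conj g).subgroupMap P').toEquiv
        exact this.symm
      have heq : Pg = P' := Subgroup.eq_of_le_of_card_ge hle (le_of_eq hcard.symm)
      have hgN : g ∈ normalizer (P' : Set G) := by
        rw [mem_normalizer_iff]
        intro x
        constructor
        · intro hx
          have : g * x * g⁻¹ ∈ Pg := ⟨x, hx, rfl⟩
          rwa [heq] at this
        · intro hx
          rw [← heq] at hx
          rw [hPg, mem_map_conj] at hx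
          have e : g⁻¹ * (g * x * g⁻¹) * g = x := by group
          rwa [e] at hx
      exact hgH ((hNN le_rfl hP'ne) hgN)
    · -- a larger intersection
      obtain ⟨y, hyPg, hyD, hyN⟩ := CfsgLib.BS.exists_mem_normalizer_not_mem hPgp hDPg hDeq
      set A : Subgroup G := Pg ⊓ normalizer (D : Set G) with hA
      have hAp : IsPGroup 2 A := hPgp.to_le inf_le_left
      have hAH : A ≤ H := inf_le_right.trans hNH
      have hDA : D ≤ A := le_inf hDPg le_normalizer
      have hDltA : D < A := lt_of_le_of_ne hDA (by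
        intro h
        apply hyD
        rw [h]
        exact ⟨hyPg, hyN⟩)
      obtain ⟨h, hh, hhA⟩ := hconjP hAp hAH
      have hg' : h * g ∉ H := by
        intro hmem
        apply hgH
        have : g = h⁻¹ * (h * g) := by group
        rw [this]
        exact mul_mem (inv_mem hh) hmem
      set A' : Subgroup G := A.map (MulAut.conj h).toMonoidHom with hA'
      have hA'le : A' ≤ P' ⊓ P'.map (MulAut.conj (h * g)).toMonoidHom := by
        rintro _ ⟨a, ha, rfl⟩
        refine mem_inf_map.2 ⟨hhA a ha, ?_⟩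
        obtain ⟨b, hb, hba⟩ := ha.1
        have : (h * g)⁻¹ * ((MulAut.conj h).toMonoidHom a) * (h * g) = b := by
          rw [← hba]
          simp only [MulEquiv.coe_toMonoidHom, MulAut.conj_apply]
          group
        rw [this]
        exact hb
      have hcardA' : Nat.card A' = Nat.card A := by
        have := Nat.card_congr ((MulAut.conj h).subgroupMap A).toEquiv
        exact this.symm
      have hlt : Nat.card D < Nat.card A := by
        apply lt_of_le_of_ne (Subgroup.card_le_of_le hDA)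
        intro he
        exact hDltA.ne (Subgroup.eq_of_le_of_card_ge hDA he.ge)
      have hle2 : Nat.card A' ≤ Nat.card ↥(P' ⊓ P'.map (MulAut.conj (h * g)).toMonoidHom) :=
        Nat.le_of_dvd Nat.card_pos (Subgroup.card_dvd_of_le hA'le)
      have hnebot : P' ⊓ P'.map (MulAut.conj (h * g)).toMonoidHom ≠ ⊥ := by
        intro hbot
        rw [hbot, Subgroup.card_bot] at hle2
        have : 0 < Nat.card D := Nat.card_pos
        omega
      have := hbest (h * g) ⟨hg', hnebot⟩
      omega

end CfsgLib.SE
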