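import Cfsg.Agent.Lib.H3.CycMax
import Cfsg.Agent.Lib.Solv.Nilp
import Cfsg.Agent.Lib.Fusion.Dihedral

/-! # Taussky's theorem: 2-groups with commutator quotient of order 4. -/

set_option autoImplicit false
set_option linter.unusedSectionVars false
set_option linter.style.haveILetI false

namespace CfsgLib.Taussky

open Subgroup
open scoped commutatorElement

universe u

lemma comm_of_closure {Q : Type*} [Group Q] (T : Set Q) (hT : closure T = ⊤)
    (h : ∀ s ∈ T, ∀ t ∈ T, s * t = t * s) (a b : Q) : a * b = b * a := by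
  have h1 : closure T ≤ centralizer T := by
    rw [closure_le]
    intro s hs
    rw [SetLike.mem_coe, mem_centralizer_iff]
    intro t ht
    exact h t ht s hs
  have ha : a ∈ centralizer T := h1 (by rw [hT]; trivial)
  have h2 : closure T ≤ centralizer {a} := by
    rw [closure_le]
    intro t ht
    rw [SetLike.mem_coe, mem_centralizer_singleton_iff]
    exact (mem_centralizer_iff.1 ha) t ht
  have hb := h2 (show b ∈ closure T by rw [hT]; trivial)
  rw [mem_centralizer_singleton_iff] at hb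
  exact hb.symm

/-- Commutators for an abelian subgroup of index two. -/
lemma commutator_le_of_index_two {S : Type*} [Group S] (A W : Subgroup S) [hW : W.Normal] (hA : A.index = 2)
    (hAc : ∀ c ∈ A, ∀ d ∈ A, c * d = d * c) {x : S} (hx : x ∉ A)
    (hxc : ∀ c ∈ A, x * c * x⁻¹ * c⁻¹ ∈ W) : commutator S ≤ W := by
  let π := QuotientGroup.mk' W
  have hπs : Function.Surjective π := QuotientGroup.mk'_surjective W
  have hk : ∀ g, π g = 1 ↔ g ∈ W := fun g => QuotientGroup.eq_one_iff g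
  let T : Set (S ⧸ W) := π '' (A : Set S) ∪ {π x}
  have hT : closure T = ⊤ := by
    rw [eq_top_iff]
    intro q _
    obtain ⟨g, rfl⟩ := hπs q
    by_cases hg : g ∈ A
    · exact subset_closure (Or.inl ⟨g, hg, rfl⟩)
    · have h1 : g * x⁻¹ ∈ A := by
        rw [Subgroup.mul_mem_iff_of_index_two hA, Subgroup.inv_mem_iff]
        exact iff_of_false hg hx
      have h2 : g = (g * x⁻¹) * x := by group
      rw [h2, map_mul]
      exact mul_mem (subset_closure (Or.inl ⟨_, h1, rfl⟩)) (subset_closure (Or.inr rfl))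
  have hpair : ∀ s ∈ T, ∀ t ∈ T, s * t = t * s := by
    have hcx : ∀ c ∈ A, π c * π x = π x * π c := by
      intro c hc
      have h1 : π (x * c * x⁻¹ * c⁻¹) = 1 := (hk _).2 (hxc c hc)
      simp only [map_mul, map_inv] at h1
      have h2 := mul_inv_eq_one.1 h1
      exact (mul_inv_eq_iff_eq_mul.1 h2).symm
    rintro s (⟨c, hc, rfl⟩ | rfl) t (⟨d, hd, rfl⟩ | rfl)
    · rw [← map_mul, ← map_mul, hAc c hc d hd]
    · exact hcx c hc
    · exact (hcx d hd).symm
    · rfl
  rw [commutator_def, Subgroup.commutator_le]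
  intro a _ b _
  rw [← hk, map_commutatorElement, commutatorElement_eq_one_iff_mul_comm]
  exact comm_of_closure T hT hpair _ _

lemma comm_of_sq {S : Type*} [Group S] (h : ∀ g : S, g ^ 2 = 1) (a b : S) : a * b = b * a := by
  have h1 := h (a * b)
  have h2 := h a
  have h3 := h b
  rw [pow_two] at h1 h2 h3
  have h4 : a⁻¹ = a := inv_eq_of_mul_eq_one_left h2
  have h5 : b⁻¹ = b := inv_eq_of_mul_eq_one_left h3
  have h6 : (a * b)⁻¹ = a * b := inv_eq_of_mul_eq_one_left h1
  rw [mul_inv_rev, h4, h5] at h6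
  exact h6.symm

lemma commutator_bot_of_comm {S : Type*} [Group S] (h : ∀ a b : S, a * b = b * a) : commutator S = ⊥ := by
  rw [eq_bot_iff, commutator_def, Subgroup.commutator_le]
  intro a _ b _
  rw [Subgroup.mem_bot, commutatorElement_eq_one_iff_mul_comm]
  exact h a b

/-- The key existence statement. -/
theorem exists_index_two : ∀ (n : ℕ) (S : Type u) [Group S] [Finite S], Nat.card S = n → IsPGroup 2 S →
    (commutator S).index = 4 → ∃ a : S, (zpowers a).index = 2 := by
  intro n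
  induction n using Nat.strong_induction_on with
  | _ n ih =>
  intro S _ _ hn h2 h4
  haveI : Fact (Nat.Prime 2) := ⟨Nat.prime_two⟩
  by_cases hb : commutator S = ⊥
  · rw [hb, Subgroup.index_bot] at h4
    obtain ⟨a, ha⟩ := exists_prime_orderOf_dvd_card' 2 (by rw [h4]; norm_num : 2 ∣ Nat.card S)
    refine ⟨a, ?_⟩
    have h1 := Subgroup.card_mul_index (zpowers a)
    rw [Nat.card_zpowers, ha, h4] at h1
    omega
  have hS'card : 2 ≤ Nat.card (commutator S) := by
    have := (Subgroup.one_lt_card_iff_ne_bot (commutator S)).2 hb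
    omega
  have hcardS : Nat.card S = Nat.card (commutator S) * 4 := by
    have := Subgroup.card_mul_index (commutator S)
    rw [h4] at this
    exact this.symm
  obtain ⟨k, hk⟩ := IsPGroup.iff_card.1 h2
  by_cases h8 : Nat.card S = 8
  · -- order eight
    obtain ⟨g, hg⟩ : ∃ g : S, g ^ 2 ≠ 1 := by
      by_contra hcon
      push Not at hcon
      exact hb (commutator_bot_of_comm (comm_of_sq hcon))
    have h1 : orderOf g ∣ 2 ^ 3 := by
      have := orderOf_dvd_natCard g
      rwa [h8] at this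
    obtain ⟨j, hj3, hj⟩ := (Nat.dvd_prime_pow Nat.prime_two).1 h1
    have hj2 : 2 ≤ j := by
      by_contra hlt
      apply hg
      apply orderOf_dvd_iff_pow_eq_one.1
      rw [hj]
      exact (pow_dvd_pow 2 (by omega : j ≤ 1)).trans (by norm_num)
    have hj' : j = 2 ∨ j = 3 := by omega
    rcases hj' with rfl | rfl
    · refine ⟨g, ?_⟩
      have h5 := Subgroup.card_mul_index (zpowers g)
      rw [Nat.card_zpowers, hj, h8] at h5
      omega
    · exfalso
      have hcyc : IsCyclic S := isCyclic_of_orderOf_eq_card g (by rw [hj, h8]; norm_num)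
      letI := IsCyclic.commGroup (α := S)
      exact hb (commutator_bot_of_comm mul_comm)
  -- the induction step
  have h16 : 16 ≤ Nat.card S := by
    have h5 : 3 ≤ k := by
      by_contra hlt
      have h6 : Nat.card S < 8 := by
        rw [hk]
        calc 2 ^ k < 2 ^ 3 := Nat.pow_lt_pow_right (by norm_num) (by omega)
          _ = 8 := by norm_num
      omega
    have h7 : k ≠ 3 := by
      rintro rfl
      apply h8
      rw [hk]; norm_num
    rw [hk]
    calc 16 = 2 ^ 4 := by norm_num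
      _ ≤ 2 ^ k := Nat.pow_le_pow_right (by norm_num) (by omega)
  haveI : Group.IsNilpotent S := h2.isNilpotent
  have hY := CfsgLib.Solv.normal_inf_center_ne_bot (commutator S) hb
  have hYp : IsPGroup 2 ↥(commutator S ⊓ center S) := h2.to_subgroup _
  obtain ⟨i, hi⟩ := IsPGroup.iff_card.1 hYp
  have hi0 : i ≠ 0 := by
    rintro rfl
    exact hY (Subgroup.eq_bot_of_card_eq _ (by simpa using hi))
  obtain ⟨z', hz'⟩ := exists_prime_orderOf_dvd_card' 2 (by rw [hi]; exact dvd_pow_self 2 hi0 :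
    2 ∣ Nat.card ↥(commutator S ⊓ center S))
  obtain ⟨z, hzo, hzS', hzc⟩ : ∃ z : S, orderOf z = 2 ∧ z ∈ commutator S ∧ ∀ g : S, g * z = z * g :=
    ⟨z', (Subgroup.orderOf_coe z').trans hz', z'.2.1, fun g => Subgroup.mem_center_iff.1 z'.2.2 g⟩
  have hz2 : z ^ 2 = 1 := by rw [← hzo]; exact pow_orderOf_eq_one z
  set Z := zpowers z with hZ
  haveI hZn : Z.Normal := ⟨fun y hy g => by
    obtain ⟨t, rfl⟩ := mem_zpowers_iff.1 hy
    have : g * z ^ t * g⁻¹ = z ^ t := by
      have hc : Commute g (z ^ t) := Commute.zpow_right (hzc g) t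
      rw [hc.eq]; group
    rw [this]
    exact zpow_mem (mem_zpowers z) t⟩
  have hZle : Z ≤ commutator S := by rwa [hZ, zpowers_le]
  let π := QuotientGroup.mk' Z
  have hπs : Function.Surjective π := QuotientGroup.mk'_surjective Z
  have hπk : ∀ g, π g = 1 ↔ g ∈ Z := fun g => QuotientGroup.eq_one_iff g
  have hcardq : Nat.card S = Nat.card (S ⧸ Z) * 2 := by
    have := Subgroup.card_eq_card_quotient_mul_card_subgroup Z
    rw [hZ, Nat.card_zpowers, hzo] at this
    rw [hZ]
    exact this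
  have hπz : π z = 1 := (hπk z).2 (mem_zpowers z)
  have hcomq : commutator (S ⧸ Z) = (commutator S).map π := by
    rw [commutator_def, commutator_def, Subgroup.map_commutator, ← MonoidHom.range_eq_map,
      MonoidHom.range_eq_top.2 hπs]
  have hidx : (commutator (S ⧸ Z)).index = 4 := by
    rw [hcomq, Subgroup.index_map, QuotientGroup.ker_mk', sup_eq_left.2 hZle, h4,
      MonoidHom.range_eq_top.2 hπs, Subgroup.index_top, mul_one]
  obtain ⟨b, hb'⟩ := ih (Nat.card (S ⧸ Z)) (by rw [← hn]; omega) (S ⧸ Z) rfl (h2.to_quotient Z) hidx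
  obtain ⟨a, rfl⟩ := hπs b
  set N := orderOf (π a) with hN
  have hNcard : N * 2 = Nat.card (S ⧸ Z) := by
    have := Subgroup.card_mul_index (zpowers (π a))
    rwa [Nat.card_zpowers, hb'] at this
  set A := (zpowers (π a)).comap π with hA
  have hAi : A.index = 2 := by
    rw [hA, Subgroup.index_comap_of_surjective _ hπs, hb']
  have haA : a ∈ A := mem_zpowers (π a)
  have hzA : z ∈ A := by
    rw [hA, Subgroup.mem_comap, hπz]; exact one_mem _
  have hAmem : ∀ c ∈ A, ∃ i j : ℕ, c = a ^ i * z ^ j := by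
    intro c hc
    have h1 : π c ∈ zpowers (π a) := hc
    rw [← mem_powers_iff_mem_zpowers] at h1
    obtain ⟨i, hi⟩ := h1
    have h3 : (a ^ i)⁻¹ * c ∈ Z := by
      rw [← hπk, map_mul, map_inv, map_pow]
      simp only at hi
      rw [← hi]; simp
    rw [hZ, ← mem_powers_iff_mem_zpowers] at h3
    obtain ⟨j, hj⟩ := h3
    refine ⟨i, j, ?_⟩
    simp only at hj
    rw [hj]; group
  by_cases hz : z ∈ zpowers a
  · -- `A` is cyclic
    refine ⟨a, ?_⟩
    have hAeq : A = zpowers a := by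
      apply le_antisymm
      · intro c hc
        obtain ⟨i, j, rfl⟩ := hAmem c hc
        exact mul_mem (pow_mem (mem_zpowers a) i) (pow_mem hz j)
      · rwa [zpowers_le]
    rw [← hAeq, hAi]
  exfalso
  -- elements of `Z`
  have hZmem : ∀ c ∈ Z, c = 1 ∨ c = z := by
    intro c hc
    rw [hZ, ← mem_powers_iff_mem_zpowers] at hc
    obtain ⟨t, rfl⟩ := hc
    simp only
    rw [← pow_mod_orderOf, hzo]
    rcases Nat.mod_two_eq_zero_or_one t with h | h <;> rw [h] <;> simp
  have haN : a ^ N = 1 := by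
    have h1 : π (a ^ N) = 1 := by rw [map_pow, hN, pow_orderOf_eq_one]
    rcases hZmem _ ((hπk _).1 h1) with h | h
    · exact h
    · exact absurd (h ▸ pow_mem (mem_zpowers a) N) hz
  -- numerics
  have hk4 : 4 ≤ k := by
    by_contra hlt
    have h6 : Nat.card S < 16 := by
      rw [hk]
      calc 2 ^ k < 2 ^ 4 := Nat.pow_lt_pow_right (by norm_num) (by omega)
        _ = 16 := by norm_num
    omega
  obtain ⟨k', rfl⟩ : ∃ k', k = k' + 4 := ⟨k - 4, by omega⟩
  set M := 2 * 2 ^ k' with hM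
  have hMpos : 0 < M := by positivity
  have hNM : N = 2 * M := by
    have h1 : Nat.card S = 4 * N := by omega
    rw [hk, pow_add] at h1
    rw [hM]
    omega
  have hz_even : z ^ M = 1 := by
    rw [hM, pow_mul, hz2, one_pow]
  have hcent : ∀ (g : S) (j : ℕ), g * z ^ j = z ^ j * g := fun g j => (Commute.pow_right (hzc g) j).eq
  -- `A` is abelian
  have hAc : ∀ c ∈ A, ∀ d ∈ A, c * d = d * c := by
    intro c hc d hd
    obtain ⟨i, j, rfl⟩ := hAmem c hc
    obtain ⟨i', j', rfl⟩ := hAmem d hd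
    have h1 : Commute (a ^ i) (a ^ i') := (Commute.refl a).pow_pow i i'
    have h2 : Commute (a ^ i) (z ^ j') := hcent _ _
    have h3 : Commute (z ^ j) (a ^ i') := (hcent _ _ : Commute (a ^ i') (z ^ j)).symm
    have h4' : Commute (z ^ j) (z ^ j') := (Commute.refl z).pow_pow j j'
    exact ((h1.mul_right h2).mul_left (h3.mul_right h4')).eq
  haveI hAn : A.Normal := Subgroup.normal_of_index_eq_two hAi
  obtain ⟨x, hx⟩ : ∃ x, x ∉ A := by
    by_contra hcon
    push Not at hcon
    have : A = ⊤ := eq_top_iff.2 (fun g _ => hcon g)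
    rw [this, Subgroup.index_top] at hAi
    omega
  set w := x * a * x⁻¹ * a⁻¹ with hw
  have hxa : x * a * x⁻¹ ∈ A := hAn.conj_mem a haA x
  have hwA : w ∈ A := mul_mem hxa (inv_mem haA)
  -- the commutator formula
  have hform : ∀ i j : ℕ, x * (a ^ i * z ^ j) * x⁻¹ * (a ^ i * z ^ j)⁻¹ = w ^ i := by
    intro i j
    have h1 : x * (a ^ i * z ^ j) * x⁻¹ = (x * a * x⁻¹) ^ i * z ^ j := by
      have h2 : (x * a * x⁻¹) ^ i = x * a ^ i * x⁻¹ := by simp [conj_pow]
      rw [h2, mul_assoc x, mul_assoc x, mul_assoc x, mul_assoc (a ^ i), mul_assoc (a ^ i), hcent x⁻¹ j]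
    rw [h1]
    have h3 : x * a * x⁻¹ = w * a := by rw [hw]; group
    have h5 : Commute w a := hAc _ hwA _ haA
    rw [h3, h5.mul_pow]
    have h6 : Commute (w ^ i) (a ^ i) := h5.pow_pow i i
    group
  have hxc : ∀ c ∈ A, x * c * x⁻¹ * c⁻¹ ∈ zpowers w := by
    intro c hc
    obtain ⟨i, j, rfl⟩ := hAmem c hc
    rw [hform]
    exact pow_mem (mem_zpowers w) i
  -- normality of `⟨w⟩`
  have hxw : x * w * x⁻¹ ∈ zpowers w := by
    have h1 := hxc w hwA
    have h2 : x * w * x⁻¹ = (x * w * x⁻¹ * w⁻¹) * w := by group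
    rw [h2]
    exact mul_mem h1 (mem_zpowers w)
  have hconj : ∀ g : S, g * w * g⁻¹ ∈ zpowers w := by
    intro g
    by_cases hg : g ∈ A
    · have := hAc g hg w hwA
      rw [this, mul_inv_cancel_right]
      exact mem_zpowers w
    · have h1 : g * x⁻¹ ∈ A := by
        rw [Subgroup.mul_mem_iff_of_index_two hAi, Subgroup.inv_mem_iff]
        exact iff_of_false hg hx
      have h2 : g * w * g⁻¹ = (g * x⁻¹) * (x * w * x⁻¹) * (g * x⁻¹)⁻¹ := by group
      have h3 : x * w * x⁻¹ ∈ A := hAn.conj_mem w hwA x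
      rw [h2, hAc _ h1 _ h3, mul_inv_cancel_right]
      exact hxw
  haveI hWn : (zpowers w).Normal := ⟨fun y hy g => by
    obtain ⟨t, rfl⟩ := mem_zpowers_iff.1 hy
    have h1 : g * w ^ t * g⁻¹ = (g * w * g⁻¹) ^ t := by simp [conj_zpow]
    rw [h1]
    exact zpow_mem (hconj g) t⟩
  have hle : commutator S ≤ zpowers w := commutator_le_of_index_two A _ hAi hAc hx hxc
  -- bound on the order of `w`
  have hMlt : a ^ M ≠ 1 := by
    intro h
    have h1 : π a ^ M = 1 := by rw [← map_pow, h, map_one]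
    have h2 : N ∣ M := orderOf_dvd_of_pow_eq_one h1
    have h3 := Nat.le_of_dvd hMpos h2
    omega
  obtain ⟨u, j, huj⟩ := hAmem _ hxa
  have h1 : x * a ^ M * x⁻¹ = a ^ (u * M) := by
    have h2 : (x * a * x⁻¹) ^ M = x * a ^ M * x⁻¹ := by simp [conj_pow]
    rw [← h2, huj]
    have h3 : Commute (a ^ u) (z ^ j) := hcent _ _
    rw [h3.mul_pow, ← pow_mul z, mul_comm j, pow_mul z, hz_even, one_pow, mul_one, ← pow_mul]
  have h2M : a ^ (2 * M) = 1 := by rw [← hNM]; exact haN
  have hu : Odd u := by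
    rcases Nat.even_or_odd u with h | h
    · exfalso
      obtain ⟨v, rfl⟩ := h
      apply hMlt
      have h3 : x * a ^ M * x⁻¹ = 1 := by
        rw [h1, show (v + v) * M = 2 * M * v by ring, pow_mul, h2M, one_pow]
      have h4' : a ^ M = x⁻¹ * (x * a ^ M * x⁻¹) * x := by group
      rw [h4', h3]; group
    · exact h
  have h3 : x * a ^ M * x⁻¹ = a ^ M := by
    obtain ⟨v, rfl⟩ := hu
    rw [h1, show (2 * v + 1) * M = 2 * M * v + M by ring, pow_add, pow_mul, h2M, one_pow, one_mul]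
  have hwM : w ^ M = 1 := by
    have h4' : Commute (x * a * x⁻¹) a⁻¹ := hAc _ hxa _ (inv_mem haA)
    rw [hw, h4'.mul_pow]
    have h2 : (x * a * x⁻¹) ^ M = x * a ^ M * x⁻¹ := by simp [conj_pow]
    rw [h2, h3, inv_pow, mul_inv_cancel]
  have hole : orderOf w ≤ M := Nat.le_of_dvd hMpos (orderOf_dvd_of_pow_eq_one hwM)
  have hcardle : Nat.card (commutator S) ≤ Nat.card (zpowers w) := Subgroup.card_le_of_le hle
  rw [Nat.card_zpowers] at hcardle
  omega

/-- If `⟨a⟩` has index 2 and `x ∉ ⟨a⟩`, then `S'` is generated by `⁅x,a⁆`. -/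
lemma commutator_le_zpowers {S : Type*} [Group S] (a x : S) (hA : (zpowers a).index = 2)
    (hx : x ∉ zpowers a) : commutator S ≤ zpowers (x * a * x⁻¹ * a⁻¹) := by
  haveI hAn : (zpowers a).Normal := Subgroup.normal_of_index_eq_two hA
  have hAc : ∀ c ∈ zpowers a, ∀ d ∈ zpowers a, c * d = d * c := by
    intro c hc d hd
    obtain ⟨i, rfl⟩ := mem_zpowers_iff.1 hc
    obtain ⟨j, rfl⟩ := mem_zpowers_iff.1 hd
    exact ((Commute.refl a).zpow_zpow i j).eq
  set w := x * a * x⁻¹ * a⁻¹ with hw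
  have hxa : x * a * x⁻¹ ∈ zpowers a := hAn.conj_mem a (mem_zpowers a) x
  have hwA : w ∈ zpowers a := mul_mem hxa (inv_mem (mem_zpowers a))
  have hform : ∀ i : ℤ, x * a ^ i * x⁻¹ * (a ^ i)⁻¹ = w ^ i := by
    intro i
    have h2 : x * a ^ i * x⁻¹ = (x * a * x⁻¹) ^ i := by simp [conj_zpow]
    have h3 : x * a * x⁻¹ = w * a := by rw [hw]; group
    have h5 : Commute w a := hAc _ hwA _ (mem_zpowers a)
    rw [h2, h3, h5.mul_zpow]
    group
  have hxc : ∀ c ∈ zpowers a, x * c * x⁻¹ * c⁻¹ ∈ zpowers w := by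
    intro c hc
    obtain ⟨i, rfl⟩ := mem_zpowers_iff.1 hc
    rw [hform]
    exact zpow_mem (mem_zpowers w) i
  have hxw : x * w * x⁻¹ ∈ zpowers w := by
    have h1 := hxc w hwA
    have h2 : x * w * x⁻¹ = (x * w * x⁻¹ * w⁻¹) * w := by group
    rw [h2]
    exact mul_mem h1 (mem_zpowers w)
  have hconj : ∀ g : S, g * w * g⁻¹ ∈ zpowers w := by
    intro g
    by_cases hg : g ∈ zpowers a
    · have := hAc g hg w hwA
      rw [this, mul_inv_cancel_right]
      exact mem_zpowers w
    · have h1 : g * x⁻¹ ∈ zpowers a := by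
        rw [Subgroup.mul_mem_iff_of_index_two hA, Subgroup.inv_mem_iff]
        exact iff_of_false hg hx
      have h2 : g * w * g⁻¹ = (g * x⁻¹) * (x * w * x⁻¹) * (g * x⁻¹)⁻¹ := by group
      have h3 : x * w * x⁻¹ ∈ zpowers a := hAn.conj_mem w hwA x
      rw [h2, hAc _ h1 _ h3, mul_inv_cancel_right]
      exact hxw
  haveI hWn : (zpowers w).Normal := ⟨fun y hy g => by
    obtain ⟨t, rfl⟩ := mem_zpowers_iff.1 hy
    have h1 : g * w ^ t * g⁻¹ = (g * w * g⁻¹) ^ t := by simp [conj_zpow]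
    rw [h1]
    exact zpow_mem (hconj g) t⟩
  exact commutator_le_of_index_two (zpowers a) _ hA hAc hx hxc

/-- Main structure theorem. -/
theorem structure_data {S : Type u} [Group S] [Finite S] (h2 : IsPGroup 2 S)
    (h4 : (commutator S).index = 4) (hb : commutator S ≠ ⊥) :
    ∃ (m : ℕ) (a : S), 1 ≤ m ∧ CfsgLib.CycMax.Data 2 m a ∧ CfsgLib.CycMax.CaseB m a ∧
      (zpowers a).index = 2 := by
  haveI : Fact (Nat.Prime 2) := ⟨Nat.prime_two⟩
  obtain ⟨a, ha⟩ := exists_index_two (Nat.card S) S rfl h2 h4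
  have hS'card : 2 ≤ Nat.card (commutator S) := by
    have := (Subgroup.one_lt_card_iff_ne_bot (commutator S)).2 hb
    omega
  have hcardS : Nat.card S = Nat.card (commutator S) * 4 := by
    have := Subgroup.card_mul_index (commutator S)
    rw [h4] at this
    exact this.symm
  have hcarda : orderOf a * 2 = Nat.card S := by
    have := Subgroup.card_mul_index (zpowers a)
    rwa [Nat.card_zpowers, ha] at this
  have hcomm : ∀ g : S, g * a = a * g → g ∈ zpowers a := by
    intro g hg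
    by_contra hgn
    apply hb
    have h1 := commutator_le_zpowers a g ha hgn
    have h3 : g * a * g⁻¹ * a⁻¹ = 1 := by
      rw [hg]; group
    rw [h3, zpowers_one_eq_bot] at h1
    exact le_bot_iff.1 h1
  obtain ⟨k, hk⟩ := IsPGroup.iff_card.1 h2
  have hk3 : 3 ≤ k := by
    by_contra hlt
    have h6 : Nat.card S < 2 ^ 3 := by
      rw [hk]
      exact Nat.pow_lt_pow_right (by norm_num) (by omega)
    omega
  obtain ⟨m, rfl⟩ : ∃ m, k = m + 2 := ⟨k - 2, by omega⟩
  have hord : orderOf a = 2 ^ (m + 1) := by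
    rw [hk, show m + 2 = (m + 1) + 1 by ring, pow_succ (2 : ℕ) (m + 1)] at hcarda
    omega
  have hD : CfsgLib.CycMax.Data 2 m a := ⟨h2, hord, Subgroup.normal_of_index_eq_two ha, hcomm⟩
  refine ⟨m, a, by omega, hD, ?_, ha⟩
  by_cases hm : m = 1
  · exact Or.inl hm
  refine Or.inr ⟨by omega, ?_⟩
  intro g hg
  by_contra hgn
  rw [CfsgLib.CycMax.mem_MM] at hg
  exfalso
  have h1 := commutator_le_zpowers a g ha hgn
  have hAn := hD.nrm
  set w := g * a * g⁻¹ * a⁻¹ with hw
  have hw2 : w ^ 2 = 1 := by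
    have h3 : Commute (g * a * g⁻¹) a⁻¹ := by
      obtain ⟨i, hi⟩ := mem_zpowers_iff.1 (hAn.conj_mem a (mem_zpowers a) g)
      rw [← hi]
      exact ((Commute.refl a).zpow_left i).inv_right
    rw [hw, h3.mul_pow]
    have h5 : (g * a * g⁻¹) ^ 2 = g * a ^ 2 * g⁻¹ := by simp [conj_pow]
    rw [h5, hg, mul_inv_cancel_right, inv_pow, mul_inv_cancel]
  have h5 : orderOf w ≤ 2 := Nat.le_of_dvd (by norm_num) (orderOf_dvd_of_pow_eq_one hw2)
  have h6 := Subgroup.card_le_of_le h1
  rw [Nat.card_zpowers] at h6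
  have h7 : 8 ≤ orderOf a := by
    rw [hord]
    calc 8 = 2 ^ 3 := by norm_num
      _ ≤ 2 ^ (m + 1) := Nat.pow_le_pow_right (by norm_num) (by omega)
  omega

theorem main {S : Type u} [Group S] [Finite S] (h2 : IsPGroup 2 S)
    (h4 : (commutator S).index = 4) :
    Nat.card S = 4 ∨
    ((∃ k : ℕ, Nonempty (S ≃* DihedralGroup (2 ^ (k + 2)))) ∨
      (∃ k : ℕ, Nat.card S = 2 ^ (k + 4) ∧ ∃ a b : S, orderOf a = 2 ^ (k + 3) ∧ orderOf b = 2 ∧
        b * a * b⁻¹ = a ^ (2 ^ (k + 2) - 1)) ∨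
      (∃ k : ℕ, Nonempty (S ≃* QuaternionGroup (2 ^ (k + 1))))) := by
  by_cases hb : commutator S = ⊥
  · left
    rw [hb, Subgroup.index_bot] at h4
    exact h4
  right
  obtain ⟨m, a, hm, hD, hC, ha⟩ := structure_data h2 h4 hb
  obtain ⟨x, hx⟩ : ∃ x, x ∉ zpowers a := by
    by_contra hcon
    push Not at hcon
    have : zpowers a = ⊤ := eq_top_iff.2 (fun g _ => hcon g)
    rw [this, Subgroup.index_top] at ha
    omega
  obtain ⟨hcard, halt⟩ := hD.first_alt hm hC hx
  obtain ⟨m', rfl⟩ : ∃ m', m = m' + 1 := ⟨m - 1, by omega⟩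
  rcases halt with ⟨n, ⟨e⟩⟩ | ⟨n, ⟨e⟩⟩ | ⟨n, hn, hc, y, b, hy, hb2, hby⟩
  · left
    refine ⟨m', ?_⟩
    have h1 := Nat.card_congr e.toEquiv
    rw [DihedralGroup.nat_card, hcard] at h1
    have h3 : n = 2 ^ (m' + 2) := by
      rw [show m' + 1 + 2 = (m' + 2) + 1 by ring, pow_succ' (2 : ℕ)] at h1
      omega
    rw [← h3]
    exact ⟨e⟩
  · right; right
    refine ⟨m', ?_⟩
    have hn0 : n ≠ 0 := by
      rintro rfl
      haveI : Finite (QuaternionGroup 0) := Finite.of_equiv _ e.toEquiv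
      have hinj : Function.Injective (QuaternionGroup.a : ZMod (2 * 0) → QuaternionGroup 0) := by
        intro u v huv
        exact QuaternionGroup.a.inj huv
      haveI : Finite (ZMod (2 * 0)) := Finite.of_injective _ hinj
      haveI : Finite ℤ := (inferInstance : Finite (ZMod (2 * 0)))
      exact not_finite ℤ
    haveI : NeZero n := ⟨hn0⟩
    have h1 := Nat.card_congr e.toEquiv
    rw [Nat.card_eq_fintype_card (α := QuaternionGroup n), QuaternionGroup.card, hcard] at h1
    have h3 : n = 2 ^ (m' + 1) := by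
      rw [show m' + 1 + 2 = (m' + 1) + 2 by ring, pow_add] at h1
      omega
    rw [← h3]
    exact ⟨e⟩
  · right; left
    obtain ⟨k, rfl⟩ : ∃ k, n = k + 3 := ⟨n - 3, by omega⟩
    refine ⟨k, hc, y, b, hy, hb2, ?_⟩
    exact hby

lemma pow_four_of_not_mem {S : Type u} [Group S] [Finite S] {m : ℕ} {a : S}
    (D : CfsgLib.CycMax.Data 2 m a) (hm : 2 ≤ m) (hc : CfsgLib.CycMax.CaseB m a) {x : S}
    (hx : x ∉ zpowers a) : x ^ 4 = 1 := by
  have hsq := D.sq_mem hc x
  rw [← mem_powers_iff_mem_zpowers] at hsq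
  obtain ⟨s, hs⟩ := hsq
  simp only at hs
  obtain ⟨u, hu⟩ := D.act x
  obtain ⟨⟨t, ht⟩, -⟩ := D.act_neg hc hx hu
  have h1 : x * a ^ s * x⁻¹ = a ^ (u * s) := CfsgLib.CycMax.conj_pow_eq hu s
  have h2 : x * x ^ 2 * x⁻¹ = x ^ 2 := by
    rw [pow_two]; group
  rw [hs, h2, ← hs] at h1
  have h5 : a ^ (2 * s) = a ^ (2 ^ m * t * s) := by
    rw [← ht, add_mul, one_mul, pow_add, ← h1, two_mul, pow_add]
  set c := a ^ (2 * s) with hc'
  obtain ⟨f, hf⟩ : ∃ f, 2 ^ (m - 1) * t = 2 * f := by
    obtain ⟨m', rfl⟩ : ∃ m', m = m' + 2 := ⟨m - 2, by omega⟩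
    refine ⟨2 ^ m' * t, ?_⟩
    rw [show m' + 2 - 1 = m' + 1 by omega, pow_succ]
    ring
  have h6 : c ^ (2 * f) = c := by
    conv_rhs => rw [h5]
    rw [hc', ← pow_mul, ← hf]
    congr 1
    obtain ⟨m', rfl⟩ : ∃ m', m = m' + 1 := ⟨m - 1, by omega⟩
    rw [show m' + 1 - 1 = m' by omega, pow_succ]
    ring
  have h7 : ∀ j : ℕ, c ^ ((2 * f) ^ j) = c := by
    intro j
    induction j with
    | zero => simp
    | succ j ih => rw [pow_succ, pow_mul, ih, h6]
  obtain ⟨r, hr'⟩ := D.hG c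
  have h8 : c = 1 := by
    rw [← h7 r, mul_pow, pow_mul, hr', one_pow]
  calc x ^ 4 = (x ^ 2) ^ 2 := by rw [← pow_mul]
    _ = a ^ (2 * s) := by rw [← hs, ← pow_mul, mul_comm]
    _ = 1 := h8

theorem quat_of_aut {P : Type u} [Group P] [Finite P] (hP : IsPGroup 2 P)
    (hna : ¬ IsMulCommutative P) (h4 : (commutator P).index = 4) (haut : ¬ IsPGroup 2 (MulAut P)) :
    Nonempty (P ≃* QuaternionGroup 2) := by
  have hb : commutator P ≠ ⊥ := by
    intro h
    apply hna
    rw [commutator_eq_bot_iff_center_eq_top] at h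
    exact ⟨⟨fun a b => (Subgroup.mem_center_iff.1 (h ▸ trivial : (a : P) ∈ center P) b).symm⟩⟩
  obtain ⟨m, a, hm, hD, hC, ha⟩ := structure_data hP h4 hb
  obtain ⟨x, hxo, hx⟩ : ∃ x : P, orderOf x = orderOf a ∧ x ∉ zpowers a := by
    by_contra hcon
    push Not at hcon
    exact haut (CfsgLib.Fusion.isPGroup_mulAut_of_cyclic_index_two a hP ha hcon)
  have hm1 : m = 1 := by
    by_contra hne
    have h1 := pow_four_of_not_mem hD (by omega) hC hx
    have h2 : orderOf x ≤ 4 := Nat.le_of_dvd (by norm_num) (orderOf_dvd_of_pow_eq_one h1)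
    have h3 : 8 ≤ orderOf a := by
      rw [hD.ord]
      calc 8 = 2 ^ 3 := by norm_num
        _ ≤ 2 ^ (m + 1) := Nat.pow_le_pow_right (by norm_num) (by omega)
    omega
  subst hm1
  obtain ⟨hcard, halt⟩ := hD.first_alt hm hC hx
  rcases halt with ⟨n, ⟨e⟩⟩ | ⟨n, ⟨e⟩⟩ | ⟨n, hn, hc, y, b, hy, hb2, hby⟩
  · exfalso
    have h1 := Nat.card_congr e.toEquiv
    rw [DihedralGroup.nat_card, hcard] at h1
    have hn4 : n = 4 := by omega
    subst hn4
    apply haut
    have hcard' : Nat.card (DihedralGroup 4) = 2 ^ 3 := by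
      rw [DihedralGroup.nat_card]; norm_num
    have h2 : IsPGroup 2 (MulAut (DihedralGroup 4)) := by
      refine CfsgLib.Fusion.isPGroup_mulAut_of_cyclic_index_two (DihedralGroup.r 1)
        (IsPGroup.of_card hcard') ?_ ?_
      · apply CfsgLib.Fusion.card_eq_two_mul_index
        rw [DihedralGroup.nat_card, DihedralGroup.orderOf_r_one]
      · intro x hx
        rw [DihedralGroup.orderOf_r_one] at hx
        cases x with
        | r i =>
          refine ⟨(i.val : ℤ), ?_⟩
          simp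
        | sr i =>
          rw [DihedralGroup.orderOf_sr] at hx
          omega
    exact h2.of_equiv (MulAut.congr e).symm
  · have hn0 : n ≠ 0 := by
      rintro rfl
      haveI : Finite (QuaternionGroup 0) := Finite.of_equiv _ e.toEquiv
      have hinj : Function.Injective (QuaternionGroup.a : ZMod (2 * 0) → QuaternionGroup 0) := by
        intro u v huv
        exact QuaternionGroup.a.inj huv
      haveI : Finite (ZMod (2 * 0)) := Finite.of_injective _ hinj
      haveI : Finite ℤ := (inferInstance : Finite (ZMod (2 * 0)))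
      exact not_finite ℤ
    haveI : NeZero n := ⟨hn0⟩
    have h1 := Nat.card_congr e.toEquiv
    rw [Nat.card_eq_fintype_card (α := QuaternionGroup n), QuaternionGroup.card, hcard] at h1
    have hn2 : n = 2 := by omega
    subst hn2
    exact ⟨e⟩
  · exfalso
    have h1 : 2 ^ 4 ≤ 2 ^ (n + 1) := Nat.pow_le_pow_right (by norm_num) (by omega)
    rw [← hc, hcard] at h1
    norm_num at h1

end CfsgLib.Taussky
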