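import Cfsg.Agent.Lib.H3.TransferTools

/-! # Thompson's transfer lemma, the version with elements of order `2 ^ n`. -/

set_option autoImplicit false
set_option linter.unusedSectionVars false

namespace CfsgLib.ThompGen

open Subgroup

universe u

variable {G : Type u} [Group G] [Finite G]

theorem exists_index_two_of_order (P : Sylow 2 G) (Q : Subgroup G)
    (hQP : Q ≤ (P : Subgroup G)) (hQi : Q.relIndex (P : Subgroup G) = 2) (n : ℕ) (hn : 1 ≤ n)
    (hord : ∀ y ∈ (P : Subgroup G), y ∉ Q → 2 ^ (n - 1) < orderOf y)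
    (x : G) (hxP : x ∈ (P : Subgroup G)) (hxn : orderOf x = 2 ^ n) :
    (∃ M : Subgroup G, M.Normal ∧ M.index = 2 ∧ x ∉ M) ∨ ∃ g : G, g * x * g⁻¹ ∈ Q := by
  by_contra hcon
  push Not at hcon
  obtain ⟨h1, h2⟩ := hcon
  haveI hQn : (Q.subgroupOf (P : Subgroup G)).Normal := Subgroup.normal_of_index_eq_two hQi
  have hcard : Nat.card ((P : Subgroup G) ⧸ Q.subgroupOf (P : Subgroup G)) = 2 := hQi
  let e : ((P : Subgroup G) ⧸ Q.subgroupOf (P : Subgroup G)) ≃* Multiplicative (ZMod 2) :=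
    mulEquivOfPrimeCardEq (p := 2) hcard (by simp)
  let ϕ : (P : Subgroup G) →* Multiplicative (ZMod 2) :=
    e.toMonoidHom.comp (QuotientGroup.mk' (Q.subgroupOf (P : Subgroup G)))
  have hker : ∀ y : (P : Subgroup G), ϕ y = 1 ↔ (y : G) ∈ Q := by
    intro y
    show e (QuotientGroup.mk' (Q.subgroupOf (P : Subgroup G)) y) = 1 ↔ _
    rw [map_eq_one_iff e e.injective, QuotientGroup.mk'_apply, QuotientGroup.eq_one_iff]
    rfl
  have hne2 : ∀ x y : Multiplicative (ZMod 2), x ≠ 1 → y ≠ 1 → x = y := by decide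
  have hsq : ∀ x : Multiplicative (ZMod 2), x * x = 1 := by decide
  have hxQ : x ∉ Q := by
    intro h
    have := h2 1
    simp only [one_mul, inv_one, mul_one] at this
    exact this h
  set ε := ϕ ⟨x, hxP⟩ with hε
  have hεne : ε ≠ 1 := fun h => hxQ ((hker ⟨x, hxP⟩).1 h)
  let V : G →* Multiplicative (ZMod 2) := MonoidHom.transfer ϕ
  have hodd : ∀ (x : Multiplicative (ZMod 2)) (k : ℕ), Odd k → x ^ k = x := by
    intro x k hk
    obtain ⟨m, rfl⟩ := hk
    rw [pow_succ, pow_mul, pow_two, hsq, one_pow, one_mul]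
  have heven : ∀ (x : Multiplicative (ZMod 2)) (k : ℕ), Even k → x ^ k = 1 := by
    intro x k hk
    obtain ⟨m, rfl⟩ := hk
    rw [← two_mul, pow_mul, pow_two, hsq, one_pow]
  have hV : V x = ε ^ (P : Subgroup G).index := by
    apply CfsgLib.Tr.transfer_eq_pow_of_forall ϕ x hxP
    intro k g₀ hk
    rcases Nat.even_or_odd k with hke | hko
    · rw [heven _ k hke, hker]
      show g₀⁻¹ * x ^ k * g₀ ∈ Q
      by_contra hn2
      have h3 := hord _ hk hn2
      have h4 : orderOf (g₀⁻¹ * x ^ k * g₀) ∣ 2 ^ (n - 1) := by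
        apply orderOf_dvd_of_pow_eq_one
        have e1 : g₀⁻¹ * x ^ k * g₀ = g₀⁻¹ * x ^ k * g₀⁻¹⁻¹ := by simp
        rw [e1, conj_pow, ← pow_mul]
        have h5 : x ^ (k * 2 ^ (n - 1)) = 1 := by
          obtain ⟨m, rfl⟩ := hke
          rw [← two_mul, show 2 * m * 2 ^ (n - 1) = 2 ^ n * m by
            conv_rhs => rw [show n = (n - 1) + 1 by omega, pow_succ]
            ring]
          rw [pow_mul, ← hxn, pow_orderOf_eq_one, one_pow]
        rw [h5]
        simp
      have h6 := Nat.le_of_dvd (by positivity) h4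
      omega
    · rw [hodd _ k hko]
      apply hne2 _ _ _ hεne
      rw [Ne, hker]
      show g₀⁻¹ * x ^ k * g₀ ∉ Q
      intro hmem
      -- `x` is a power of `x ^ k`
      have hcop : k.Coprime (orderOf x) := by
        rw [hxn]
        exact Nat.Coprime.pow_right n (Nat.coprime_two_right.2 hko)
      obtain ⟨m, hm⟩ := exists_pow_eq_self_of_coprime hcop
      apply h2 g₀⁻¹
      have e1 : g₀⁻¹ * x * g₀⁻¹⁻¹ = (g₀⁻¹ * x ^ k * g₀) ^ m := by
        have e2 : g₀⁻¹ * x ^ k * g₀ = g₀⁻¹ * x ^ k * g₀⁻¹⁻¹ := by simp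
        rw [e2, conj_pow, hm]
      rw [e1]
      exact pow_mem hmem m
  have hidx : Odd (P : Subgroup G).index := by
    rw [← Nat.not_even_iff_odd, even_iff_two_dvd]
    exact P.not_dvd_index
  rw [hodd _ _ hidx] at hV
  have hsurj : Function.Surjective V := by
    intro y
    by_cases hy : y = 1
    · exact ⟨1, by rw [hy, map_one]⟩
    · exact ⟨x, by rw [hV]; exact hne2 _ _ hεne hy⟩
  have hMidx : V.ker.index = 2 := by
    rw [Subgroup.index_ker, MonoidHom.range_eq_top.2 hsurj]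
    simp
  exact hεne (by
    have := h1 V.ker inferInstance hMidx
    rw [MonoidHom.mem_ker, hV] at this
    exact this)

end CfsgLib.ThompGen
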