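import Cfsg.Agent.Lib.H3.AlpFus
import Cfsg.Prelude.Def_Local

/-! Tightly embedded subgroups. -/

set_option linter.style.haveILetI false
set_option linter.unusedSectionVars false

namespace CfsgLib.Tight

open Subgroup CfsgLib.CT1 CfsgLib.Solv CfsgLib.ConjFam

variable {G : Type*} [Group G] [Finite G]

/-- A `2`-element in an odd order subgroup is trivial. -/
lemma eq_one_of_two_elt {K : Subgroup G} (hK : Odd (Nat.card K)) {z : G} (hz : z ∈ K) {k : ℕ}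
    (hk : z ^ (2 ^ k) = 1) : z = 1 := by
  have h1 : z ^ Nat.card K = 1 := CfsgLib.Trans.pow_card_subgroup K hz
  exact CfsgLib.Tr.eq_one_of_pow_eq_one_of_coprime h1 hk (Nat.Coprime.pow_right k (Nat.coprime_two_right.2 hK))

lemma two_elt_of_mem {T : Subgroup G} (hT : IsPGroup 2 T) {z : G} (hz : z ∈ T) :
    ∃ k, z ^ (2 ^ k) = 1 := by
  obtain ⟨k, hk⟩ := hT ⟨z, hz⟩
  refine ⟨k, ?_⟩
  have := congrArg Subtype.val hk
  simpa using this

/-- The basic property of tight embedding. -/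
lemma tight_cent {Q : Subgroup G} (hQ : Cfsg.IsTightlyEmbedded Q) {z y : G} (hz : z ∈ Q) (hz1 : z ≠ 1)
    {k : ℕ} (hk : z ^ (2 ^ k) = 1) (hyz : y * z = z * y) : y ∈ normalizer (Q : Set G) := by
  by_contra hy
  have h1 := hQ.2 y hy
  apply hz1
  refine eq_one_of_two_elt h1 ⟨hz, ?_⟩ hk
  have h2 : z = y * z * y⁻¹ := by rw [hyz]; group
  rw [h2]
  exact CfsgLib.CT.conj_mem_map hz

/-- A conjugate of a tightly embedded subgroup is tightly embedded. -/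
lemma tight_conj {Q : Subgroup G} (hQ : Cfsg.IsTightlyEmbedded Q) (g : G) :
    Cfsg.IsTightlyEmbedded (Q.map (cj g)) := by
  refine ⟨?_, ?_⟩
  · rw [card_map_cj]
    exact hQ.1
  · intro h hh
    have h2 : (Q.map (cj g)).map (cj h) = (Q.map (cj (g⁻¹ * h * g))).map (cj g) := by
      rw [← map_cj_mul, ← map_cj_mul]
      congr 2
      group
    have h1 : g⁻¹ * h * g ∉ normalizer (Q : Set G) := by
      intro hn
      apply hh
      apply CfsgLib.CT.map_conj_eq_iff.1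
      change (Q.map (cj g)).map (cj h) = Q.map (cj g)
      rw [h2, map_cj_of_mem_normalizer hn]
    have h3 := hQ.2 _ h1
    have h4 : Q.map (cj g) ⊓ (Q.map (cj g)).map (MulAut.conj h).toMonoidHom =
        (Q ⊓ Q.map (cj (g⁻¹ * h * g))).map (cj g) := by
      rw [Subgroup.map_inf _ _ _ (MulAut.conj g).injective]
      change Q.map (cj g) ⊓ (Q.map (cj g)).map (cj h) = _
      rw [h2]
    rw [h4, card_map_cj]
    exact h3

section main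

variable {Q Q₁ T S₀ : Subgroup G}

lemma comm_of_comm_one (hQ₁ : Cfsg.IsTightlyEmbedded Q₁) (hodd : Odd (Nat.card (Q ⊓ Q₁ : Subgroup G)))
    (hTQ₁ : T ≤ Q₁) (hTN : T ≤ normalizer (Q : Set G)) (hTp : IsPGroup 2 T) (hS₀Q : S₀ ≤ Q)
    (hS₀p : IsPGroup 2 S₀) (hTS₀ : T ≤ normalizer (S₀ : Set G)) {t y : G} (ht : t ∈ T) (ht1 : t ≠ 1)
    (hy : y ∈ S₀) (hyt : y * t = t * y) {t' : G} (ht' : t' ∈ T) : y * t' = t' * y := by
  obtain ⟨k, hk⟩ := two_elt_of_mem hTp ht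
  have hyN := tight_cent hQ₁ (hTQ₁ ht) ht1 hk hyt
  have hc1 : t' * y⁻¹ * t'⁻¹ ∈ S₀ := CfsgLib.CT.conj_mem_of_mem_normalizer (hTS₀ ht') (Subgroup.inv_mem _ hy)
  have hc : y * (t' * y⁻¹ * t'⁻¹) ∈ S₀ := Subgroup.mul_mem _ hy hc1
  have hc2 : y * (t' * y⁻¹ * t'⁻¹) ∈ Q₁ := by
    have h1 : y * t' * y⁻¹ ∈ Q₁ := CfsgLib.CT.conj_mem_of_mem_normalizer hyN (hTQ₁ ht')
    have h2 : y * (t' * y⁻¹ * t'⁻¹) = (y * t' * y⁻¹) * t'⁻¹ := by group
    rw [h2]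
    exact Subgroup.mul_mem _ h1 (Subgroup.inv_mem _ (hTQ₁ ht'))
  obtain ⟨j, hj⟩ := two_elt_of_mem hS₀p hc
  have h3 := eq_one_of_two_elt hodd ⟨hS₀Q hc, hc2⟩ hj
  have h4 : y * t' * y⁻¹ * t'⁻¹ = 1 := by
    rw [← h3]
    group
  rw [mul_inv_eq_one, mul_inv_eq_iff_eq_mul] at h4
  exact h4

lemma exists_x (hTp : IsPGroup 2 T) (hS₀p : IsPGroup 2 S₀) (hTS₀ : T ≤ normalizer (S₀ : Set G))
    (hbot : T ⊓ S₀ = ⊥) (hne : S₀ ⊓ centralizer (T : Set G) ≠ S₀) :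
    ∃ x ∈ S₀, x ∉ centralizer (T : Set G) ∧ ∀ t ∈ T, x * t * x⁻¹ * t⁻¹ ∈ S₀ ⊓ centralizer (T : Set G) := by
  obtain ⟨D, hD⟩ : ∃ D, D = S₀ ⊓ centralizer (T : Set G) := ⟨_, rfl⟩
  rw [← hD] at hne ⊢
  have hDS : D ≤ S₀ := hD ▸ inf_le_left
  have hDC : D ≤ centralizer (T : Set G) := hD ▸ inf_le_right
  have hTD : T ≤ normalizer (D : Set G) := by
    intro t ht
    apply CfsgLib.CT.mem_normalizer_of_conj_le
    intro d hd
    have h1 : d * t = t * d := (Subgroup.mem_centralizer_iff.1 (hDC hd) t ht).symm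
    have h2 : t * d * t⁻¹ = d := by rw [← h1]; group
    rw [h2]
    exact hd
  have hBS : ∀ b ∈ D ⊔ T, b ∈ S₀ → b ∈ D := by
    intro b hb hbS
    obtain ⟨d, hd, t, ht, rfl⟩ := CfsgLib.Signal.mem_sup_mul hTD hb
    have h1 : t ∈ T ⊓ S₀ := by
      refine ⟨ht, ?_⟩
      have : t = d⁻¹ * (d * t) := by group
      rw [this]
      exact Subgroup.mul_mem _ (Subgroup.inv_mem _ (hDS hd)) hbS
    rw [hbot, Subgroup.mem_bot] at h1
    rw [h1, mul_one]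
    exact hd
  have hWp : IsPGroup 2 (T ⊔ S₀ : Subgroup G) := isPGroup_sup_of_le_normalizer hTp hS₀p hTS₀
  have hBW : D ⊔ T < T ⊔ S₀ := by
    refine lt_of_le_of_ne (sup_le (hDS.trans le_sup_right) le_sup_left) ?_
    intro he
    apply hne
    refine le_antisymm hDS ?_
    intro s hs
    refine hBS s ?_ hs
    rw [he]
    exact Subgroup.mem_sup_right hs
  have hlt := lt_inf_normalizer_of_pgroup hWp hBW
  obtain ⟨w, hw, hwB⟩ := SetLike.exists_of_lt hlt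
  have hw1 : w ∈ S₀ ⊔ T := by
    rw [sup_comm]
    exact hw.1
  obtain ⟨s, hs, t, ht, rfl⟩ := CfsgLib.Signal.mem_sup_mul hTS₀ hw1
  have htB : t ∈ D ⊔ T := Subgroup.mem_sup_right ht
  have hsN : s ∈ normalizer ((D ⊔ T : Subgroup G) : Set G) := by
    have h1 : s = s * t * t⁻¹ := by group
    rw [h1]
    exact Subgroup.mul_mem _ hw.2 (Subgroup.inv_mem _ (Subgroup.le_normalizer htB))
  have hsB : s ∉ D ⊔ T := fun h => hwB (Subgroup.mul_mem _ h htB)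
  refine ⟨s, hs, ?_, ?_⟩
  · intro hsC
    apply hsB
    apply Subgroup.mem_sup_left
    rw [hD]
    exact ⟨hs, hsC⟩
  · intro t' ht'
    have ht'B : t' ∈ D ⊔ T := Subgroup.mem_sup_right ht'
    apply hBS
    · exact Subgroup.mul_mem _ (CfsgLib.CT.conj_mem_of_mem_normalizer hsN ht'B) (Subgroup.inv_mem _ ht'B)
    · have h1 : s * t' * s⁻¹ * t'⁻¹ = s * (t' * s⁻¹ * t'⁻¹) := by group
      rw [h1]
      exact Subgroup.mul_mem _ hs (CfsgLib.CT.conj_mem_of_mem_normalizer (hTS₀ ht') (Subgroup.inv_mem _ hs))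

/-- The injection of `T` into `C_{S₀}(T)`. -/
lemma exists_inj (hQ₁ : Cfsg.IsTightlyEmbedded Q₁) (hodd : Odd (Nat.card (Q ⊓ Q₁ : Subgroup G)))
    (hTQ₁ : T ≤ Q₁) (hTN : T ≤ normalizer (Q : Set G)) (hTp : IsPGroup 2 T) (hS₀Q : S₀ ≤ Q)
    (hS₀p : IsPGroup 2 S₀) (hTS₀ : T ≤ normalizer (S₀ : Set G)) (hbot : T ⊓ S₀ = ⊥)
    (hne : S₀ ⊓ centralizer (T : Set G) ≠ S₀) :
    ∃ f : T →* ↥(S₀ ⊓ centralizer (T : Set G) : Subgroup G), Function.Injective f := by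
  obtain ⟨x, hx, hxC, hxT⟩ := exists_x hTp hS₀p hTS₀ hbot hne
  let f : T →* ↥(S₀ ⊓ centralizer (T : Set G) : Subgroup G) :=
    { toFun := fun t => ⟨x * t * x⁻¹ * (t : G)⁻¹, hxT t t.2⟩
      map_one' := by
        apply Subtype.ext
        simp
      map_mul' := by
        intro s t
        apply Subtype.ext
        have h1 := (Subgroup.mem_centralizer_iff.1 (hxT t t.2).2 s s.2)
        change x * (s * t : G) * x⁻¹ * (s * t : G)⁻¹ =
          (x * s * x⁻¹ * (s : G)⁻¹) * (x * t * x⁻¹ * (t : G)⁻¹)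
        obtain ⟨a, ha⟩ : ∃ a, a = x * (t : G) * x⁻¹ * (t : G)⁻¹ := ⟨_, rfl⟩
        rw [← ha] at h1 ⊢
        have h2 : x * (t : G) * x⁻¹ = a * t := by rw [ha]; group
        have h3 : a * (s : G)⁻¹ = (s : G)⁻¹ * a := by
          calc a * (s : G)⁻¹ = (s : G)⁻¹ * (s * a) * (s : G)⁻¹ := by group
            _ = (s : G)⁻¹ * (a * s) * (s : G)⁻¹ := by rw [h1]
            _ = (s : G)⁻¹ * a := by group
        calc x * (s * t : G) * x⁻¹ * (s * t : G)⁻¹ = (x * s * x⁻¹) * (x * (t : G) * x⁻¹) * (t : G)⁻¹ * (s : G)⁻¹ := by group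
          _ = (x * s * x⁻¹) * (a * (s : G)⁻¹) := by rw [h2]; group
          _ = _ := by rw [h3]; group }
  refine ⟨f, ?_⟩
  rw [injective_iff_map_eq_one]
  intro t ht
  by_contra ht1
  have h1 : x * (t : G) * x⁻¹ * (t : G)⁻¹ = 1 := congrArg Subtype.val ht
  have h2 : x * (t : G) = t * x := by
    rw [mul_inv_eq_one, mul_inv_eq_iff_eq_mul] at h1
    exact h1
  apply hxC
  rw [Subgroup.mem_centralizer_iff]
  intro t' ht'
  have ht2 : (t : G) ≠ 1 := fun h => ht1 (Subtype.ext h)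
  exact (comm_of_comm_one hQ₁ hodd hTQ₁ hTN hTp hS₀Q hS₀p hTS₀ t.2 ht2 hx h2 ht').symm

/-- The order of a `2`-subgroup in a conjugate is at most the Sylow order. -/
lemma card_le_of_conj {A K T : Subgroup G} {g : G} (hK : K = A.map (cj g)) {B : Subgroup G}
    (hB : IsSylowIn 2 B A) (hTK : T ≤ K) (hTp : IsPGroup 2 T) : Nat.card T ≤ Nat.card B := by
  have h1 : IsSylowIn 2 (B.map (cj g)) K := hK ▸ isSylowIn_cj hB g
  obtain ⟨y, _, hle⟩ := IsSylowIn_exists_conj_into h1 hTK hTp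
  have h2 := Subgroup.card_le_of_le hle
  rwa [card_map_cj, card_map_cj] at h2

/-- The order inequality. -/
lemma card_le_cent (hQ₁ : Cfsg.IsTightlyEmbedded Q₁) (hodd : Odd (Nat.card (Q ⊓ Q₁ : Subgroup G)))
    (hTQ₁ : T ≤ Q₁) (hTN : T ≤ normalizer (Q : Set G)) (hTp : IsPGroup 2 T) (hS₀Q : S₀ ≤ Q)
    (hS₀p : IsPGroup 2 S₀) (hTS₀ : T ≤ normalizer (S₀ : Set G)) (hbot : T ⊓ S₀ = ⊥)
    (hle : Nat.card T ≤ Nat.card S₀) : Nat.card T ≤ Nat.card (S₀ ⊓ centralizer (T : Set G) : Subgroup G) := by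
  by_cases hne : S₀ ⊓ centralizer (T : Set G) = S₀
  · rw [hne]
    exact hle
  · obtain ⟨f, hf⟩ := exists_inj hQ₁ hodd hTQ₁ hTN hTp hS₀Q hS₀p hTS₀ hbot hne
    exact Nat.card_le_card_of_injective f hf

/-- The main theorem. -/
theorem sylow_tight (Q : Subgroup G) (hQ : Cfsg.IsTightlyEmbedded Q)
    (g : G) (hg : g ∉ Subgroup.normalizer (Q : Set G))
    (T : Subgroup G) (hT1 : T ≠ ⊥) (hT : T ≤ Q.map (MulAut.conj g).toMonoidHom ⊓ Subgroup.normalizer (Q : Set G))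
    (hTsyl : IsPGroup 2 T ∧ ¬ 2 ∣ T.relIndex (Q.map (MulAut.conj g).toMonoidHom ⊓ Subgroup.normalizer (Q : Set G)))
    (S : Subgroup G) (hTS : T ≤ S) (hS : S ≤ Q ⊔ T) (hSsyl : IsPGroup 2 S ∧ ¬ 2 ∣ S.relIndex (Q ⊔ T)) :
    T ⊓ Q = ⊥ ∧
      T ⊓ (S ⊓ Subgroup.normalizer (T : Set G) ⊓ Q) = ⊥ ∧
      ⁅T, S ⊓ Subgroup.normalizer (T : Set G) ⊓ Q⁆ = ⊥ ∧
      T ⊔ (S ⊓ Subgroup.normalizer (T : Set G) ⊓ Q) = S ⊓ Subgroup.normalizer (T : Set G) ∧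
      Nonempty (↥(S ⊓ Subgroup.normalizer (T : Set G) ⊓ Q) ≃* T) := by
  obtain ⟨Q₁, hQ₁d⟩ : ∃ Q₁, Q₁ = Q.map (cj g) := ⟨_, rfl⟩
  rw [show Q.map (MulAut.conj g).toMonoidHom = Q₁ from hQ₁d.symm] at hT hTsyl
  have hQ₁ : Cfsg.IsTightlyEmbedded Q₁ := hQ₁d ▸ tight_conj hQ g
  have hodd : Odd (Nat.card (Q ⊓ Q₁ : Subgroup G)) := hQ₁d ▸ hQ.2 g hg
  have hodd' : Odd (Nat.card (Q₁ ⊓ Q : Subgroup G)) := by rwa [inf_comm]
  have hTQ₁ : T ≤ Q₁ := hT.trans inf_le_left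
  have hTN : T ≤ normalizer (Q : Set G) := hT.trans inf_le_right
  have hTp := hTsyl.1
  have hTsy : IsSylowIn 2 T (Q₁ ⊓ normalizer (Q : Set G)) := ⟨hT, hTsyl⟩
  have hbotTQ : T ⊓ Q = ⊥ := by
    rw [eq_bot_iff]
    rintro t ⟨ht, htQ⟩
    obtain ⟨k, hk⟩ := two_elt_of_mem hTp ht
    exact (Subgroup.mem_bot).2 (eq_one_of_two_elt hodd ⟨htQ, hTQ₁ ht⟩ hk)
  have hQn : Q ⊔ T ≤ normalizer (Q : Set G) := sup_le Subgroup.le_normalizer hTN
  have hSsy : IsSylowIn 2 S (Q ⊔ T) := ⟨hS, hSsyl⟩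
  have hS₀ : IsSylowIn 2 (S ⊓ Q) Q := CfsgLib.AlpGold.isSylowIn_inf_normal hSsy le_sup_left hQn
  have hTS₀ : T ≤ normalizer ((S ⊓ Q : Subgroup G) : Set G) := by
    intro t ht
    apply CfsgLib.CT.mem_normalizer_of_conj_le
    rintro a ⟨ha1, ha2⟩
    refine ⟨?_, CfsgLib.CT.conj_mem_of_mem_normalizer (hTN ht) ha2⟩
    exact Subgroup.mul_mem _ (Subgroup.mul_mem _ (hTS ht) ha1) (Subgroup.inv_mem _ (hTS ht))
  have hbotTS₀ : T ⊓ (S ⊓ Q) = ⊥ := by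
    rw [eq_bot_iff, ← hbotTQ]
    exact inf_le_inf_left _ inf_le_right
  have hDeq : S ⊓ normalizer (T : Set G) ⊓ Q = (S ⊓ Q) ⊓ centralizer (T : Set G) := by
    apply le_antisymm
    · rintro y ⟨⟨hyS, hyN⟩, hyQ⟩
      refine ⟨⟨hyS, hyQ⟩, ?_⟩
      change y ∈ centralizer (T : Set G)
      rw [Subgroup.mem_centralizer_iff]
      intro t ht
      have h1 : t * y * t⁻¹ * y⁻¹ ∈ T ⊓ Q := by
        constructor
        · have h2 : t * y * t⁻¹ * y⁻¹ = t * (y * t⁻¹ * y⁻¹) := by group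
          rw [h2]
          exact Subgroup.mul_mem _ ht (CfsgLib.CT.conj_mem_of_mem_normalizer hyN (Subgroup.inv_mem _ ht))
        · exact Subgroup.mul_mem _ (CfsgLib.CT.conj_mem_of_mem_normalizer (hTN ht) hyQ) (Subgroup.inv_mem _ hyQ)
      rw [hbotTQ, Subgroup.mem_bot, mul_inv_eq_one, mul_inv_eq_iff_eq_mul] at h1
      exact h1
    · rintro y ⟨⟨hyS, hyQ⟩, hyC⟩
      exact ⟨⟨hyS, Subgroup.centralizer_le_normalizer _ hyC⟩, hyQ⟩
  have hcard1 : Nat.card T ≤ Nat.card (S ⊓ normalizer (T : Set G) ⊓ Q : Subgroup G) := by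
    rw [hDeq]
    exact card_le_cent hQ₁ hodd hTQ₁ hTN hTp hS₀.1 hS₀.2.1 hTS₀ hbotTS₀ (card_le_of_conj hQ₁d hS₀ hTQ₁ hTp)
  have hTne : ∃ t ∈ T, t ≠ 1 := by
    by_contra hc
    push Not at hc
    exact hT1 ((Subgroup.eq_bot_iff_forall _).2 hc)
  obtain ⟨t₀, ht₀, ht₀1⟩ := hTne
  obtain ⟨k₀, hk₀⟩ := two_elt_of_mem hTp ht₀
  have hcard2 : Nat.card (S ⊓ normalizer (T : Set G) ⊓ Q : Subgroup G) ≤ Nat.card T := by
    rw [hDeq]
    have hDp : IsPGroup 2 ((S ⊓ Q) ⊓ centralizer (T : Set G) : Subgroup G) := hS₀.2.1.to_le inf_le_left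
    have hDle : (S ⊓ Q) ⊓ centralizer (T : Set G) ≤ Q ⊓ normalizer (Q₁ : Set G) := by
      rintro y ⟨⟨_, hyQ⟩, hyC⟩
      refine ⟨hyQ, tight_cent hQ₁ (hTQ₁ ht₀) ht₀1 hk₀ ?_⟩
      exact (Subgroup.mem_centralizer_iff.1 hyC t₀ ht₀).symm
    obtain ⟨T', hT', hDT'⟩ := CfsgLib.AlpFus.exists_sylowIn_ge hDp hDle
    have hT'p := hT'.2.1
    by_cases hT'bot : T' = ⊥
    · have h1 : (S ⊓ Q) ⊓ centralizer (T : Set G) = ⊥ := by
        rw [eq_bot_iff, ← hT'bot]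
        exact hDT'
      rw [h1, Subgroup.card_bot]
      exact Nat.card_pos
    have hT'ne : ∃ t ∈ T', t ≠ 1 := by
      by_contra hc
      push Not at hc
      exact hT'bot ((Subgroup.eq_bot_iff_forall _).2 hc)
    obtain ⟨t₁, ht₁, ht₁1⟩ := hT'ne
    obtain ⟨k₁, hk₁⟩ := two_elt_of_mem hT'p ht₁
    have hT'Q : T' ≤ Q := hT'.1.trans inf_le_left
    have hT'N : T' ≤ normalizer (Q₁ : Set G) := hT'.1.trans inf_le_right
    have hQ₁n : Q₁ ⊔ T' ≤ normalizer (Q₁ : Set G) := sup_le Subgroup.le_normalizer hT'N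
    obtain ⟨W, hW, hT'W⟩ := CfsgLib.AlpFus.exists_sylowIn_ge hT'p (le_sup_right : T' ≤ Q₁ ⊔ T')
    have hS₁ : IsSylowIn 2 (W ⊓ Q₁) Q₁ := CfsgLib.AlpGold.isSylowIn_inf_normal hW le_sup_left hQ₁n
    have hT'S₁ : T' ≤ normalizer ((W ⊓ Q₁ : Subgroup G) : Set G) := by
      intro t ht
      apply CfsgLib.CT.mem_normalizer_of_conj_le
      rintro a ⟨ha1, ha2⟩
      refine ⟨?_, CfsgLib.CT.conj_mem_of_mem_normalizer (hT'N ht) ha2⟩
      exact Subgroup.mul_mem _ (Subgroup.mul_mem _ (hT'W ht) ha1) (Subgroup.inv_mem _ (hT'W ht))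
    have hbot' : T' ⊓ (W ⊓ Q₁) = ⊥ := by
      rw [eq_bot_iff]
      rintro t ⟨ht, ⟨_, htQ⟩⟩
      obtain ⟨k, hk⟩ := two_elt_of_mem hT'p ht
      exact (Subgroup.mem_bot).2 (eq_one_of_two_elt hodd ⟨hT'Q ht, htQ⟩ hk)
    have hQeq : Q = Q₁.map (cj g⁻¹) := by
      rw [hQ₁d, map_cj_inv_cancel]
    have hc1 := card_le_cent (Q := Q₁) (Q₁ := Q) hQ hodd' hT'Q hT'N hT'p hS₁.1 hS₁.2.1 hT'S₁ hbot'
      (card_le_of_conj hQeq hS₁ hT'Q hT'p)
    have hD'le : (W ⊓ Q₁) ⊓ centralizer (T' : Set G) ≤ Q₁ ⊓ normalizer (Q : Set G) := by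
      rintro y ⟨⟨_, hyQ⟩, hyC⟩
      refine ⟨hyQ, tight_cent hQ (hT'Q ht₁) ht₁1 hk₁ ?_⟩
      exact (Subgroup.mem_centralizer_iff.1 hyC t₁ ht₁).symm
    obtain ⟨y, _, hyle⟩ := IsSylowIn_exists_conj_into hTsy hD'le (hS₁.2.1.to_le inf_le_left)
    have hc2 := Subgroup.card_le_of_le hyle
    rw [card_map_cj] at hc2
    have hc3 := Subgroup.card_le_of_le hDT'
    omega
  refine ⟨hbotTQ, ?_, ?_, ?_, ?_⟩
  · rw [eq_bot_iff, ← hbotTQ]
    exact inf_le_inf_left _ inf_le_right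
  · rw [CfsgLib.Comp.comm_bot_iff]
    intro t ht y hy
    rw [hDeq] at hy
    exact (Subgroup.mem_centralizer_iff.1 hy.2 t ht)
  · apply le_antisymm
    · exact sup_le (le_inf hTS Subgroup.le_normalizer) inf_le_left
    · rintro y ⟨hyS, hyN⟩
      obtain ⟨q, hq, t, ht, rfl⟩ := CfsgLib.Signal.mem_sup_mul hTN (hS hyS)
      rw [sup_comm]
      refine Subgroup.mul_mem _ (Subgroup.mem_sup_left ?_) (Subgroup.mem_sup_right ht)
      have h1 : q = q * t * t⁻¹ := by group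
      refine ⟨⟨?_, ?_⟩, hq⟩
      · rw [h1]
        exact Subgroup.mul_mem _ hyS (Subgroup.inv_mem _ (hTS ht))
      · rw [h1]
        exact Subgroup.mul_mem _ hyN (Subgroup.inv_mem _ (Subgroup.le_normalizer ht))
  · have hceq := le_antisymm hcard1 hcard2
    rw [hDeq] at hceq ⊢
    by_cases hne : (S ⊓ Q) ⊓ centralizer (T : Set G) = S ⊓ Q
    · rw [hne] at hceq ⊢
      have h1 : IsSylowIn 2 ((S ⊓ Q).map (cj g)) Q₁ := hQ₁d ▸ isSylowIn_cj hS₀ g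
      obtain ⟨y, _, hle⟩ := IsSylowIn_exists_conj_into h1 hTQ₁ hTp
      have h2 : T.map (cj y) = (S ⊓ Q).map (cj g) := by
        apply Subgroup.eq_of_le_of_card_ge hle
        rw [card_map_cj, card_map_cj, hceq]
      exact ⟨((Subgroup.equivMapOfInjective T (cj y) (MulAut.conj y).injective).trans
        ((MulEquiv.subgroupCongr h2).trans
          (Subgroup.equivMapOfInjective (S ⊓ Q) (cj g) (MulAut.conj g).injective).symm)).symm⟩
    · obtain ⟨f, hf⟩ := exists_inj hQ₁ hodd hTQ₁ hTN hTp hS₀.1 hS₀.2.1 hTS₀ hbotTS₀ hne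
      have hb : Function.Bijective f := hf.bijective_of_nat_card_le (le_of_eq hceq.symm)
      exact ⟨(MulEquiv.ofBijective f hb).symm⟩

end main

end CfsgLib.Tight
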