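import Mathlib

/-! # Transvections in groups of odd order -/

namespace CfsgLib.Transv

open Subgroup

variable {W : Type*} [CommGroup W] {p : ℕ}

/-- Unipotent automorphisms (`(α-1)^3=0`) of an elementary abelian group have order dividing `p`. -/
lemma pow_apply_of_unipotent (α : MulAut W) (v n1 n2 : W) (hn1 : α v = v * n1) (hn2 : α n1 = n1 * n2)
    (hn3 : α n2 = n2) (m : ℕ) : (α ^ m) v = v * n1 ^ m * n2 ^ (m.choose 2) := by
  induction m with
  | zero => simp
  | succ m ih =>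
    rw [pow_succ', MulAut.mul_apply, ih, map_mul, map_mul, map_pow, map_pow, hn3, hn2, hn1, mul_pow]
    have h5 : (m + 1).choose 2 = m + m.choose 2 := by
      rw [Nat.choose_succ_succ' m 1]; simp
    rw [h5, pow_add n2, pow_succ n1]
    simp only [mul_assoc, mul_left_comm, mul_comm]

lemma pow_eq_self_of_unipotent (hp : p.Prime) (hp2 : p ≠ 2) (hexp : ∀ v : W, v ^ p = 1)
    (α : MulAut W) (v n1 n2 : W) (hn1 : α v = v * n1) (hn2 : α n1 = n1 * n2)
    (hn3 : α n2 = n2) : (α ^ p) v = v := by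
  rw [pow_apply_of_unipotent α v n1 n2 hn1 hn2 hn3 p, hexp, mul_one]
  have hd : p ∣ p.choose 2 := hp.dvd_choose_self (by norm_num) (by
    have := hp.two_le; omega)
  obtain ⟨c, hc⟩ := hd
  rw [hc, pow_mul, hexp, one_pow, mul_one]

/-- The class of automorphisms stabilizing the chain `1 ≤ ⟨u'⟩ ≤ ⟨u,u'⟩ ≤ W`. -/
def Chain (u u' : W) (α : MulAut W) : Prop :=
  α u' = u' ∧ (∃ k : ℕ, α u = u * u' ^ k) ∧ ∀ v, ∃ i j : ℕ, α v = v * (u ^ i * u' ^ j)

lemma Chain.mul {u u' : W} {α β : MulAut W} (ha : Chain u u' α) (hb : Chain u u' β) :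
    Chain u u' (α * β) := by
  obtain ⟨ha1, ⟨k, ha2⟩, ha3⟩ := ha
  obtain ⟨hb1, ⟨l, hb2⟩, hb3⟩ := hb
  refine ⟨by rw [MulAut.mul_apply, hb1, ha1], ⟨k + l, ?_⟩, ?_⟩
  · rw [MulAut.mul_apply, hb2, map_mul, map_pow, ha1, ha2, pow_add, mul_assoc]
  · intro v
    obtain ⟨i, j, hv⟩ := hb3 v
    obtain ⟨i', j', hv'⟩ := ha3 v
    refine ⟨i' + i, j' + k * i + j, ?_⟩
    rw [MulAut.mul_apply, hv, map_mul, hv', map_mul, map_pow, map_pow, ha1, ha2, mul_pow, ← pow_mul,
      pow_add, pow_add, pow_add]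
    simp only [mul_assoc, mul_left_comm, mul_comm]

lemma Chain.pow {u u' : W} {α : MulAut W} (ha : Chain u u' α) (n : ℕ) : Chain u u' (α ^ n) := by
  induction n with
  | zero =>
    refine ⟨by simp, ⟨0, by simp⟩, fun v => ⟨0, 0, by simp⟩⟩
  | succ n ih =>
    rw [pow_succ]
    exact ih.mul ha

/-- Chain stabilizers have exponent `p`. -/
lemma Chain.pow_p (hp : p.Prime) (hp2 : p ≠ 2) (hexp : ∀ v : W, v ^ p = 1) {u u' : W} {α : MulAut W}
    (ha : Chain u u' α) : α ^ p = 1 := by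
  ext v
  obtain ⟨ha1, ⟨k, ha2⟩, ha3⟩ := ha
  obtain ⟨i, j, hv⟩ := ha3 v
  apply pow_eq_self_of_unipotent hp hp2 hexp α v (u ^ i * u' ^ j) (u' ^ (k * i)) hv
  · rw [map_mul, map_pow, map_pow, ha1, ha2, mul_pow, ← pow_mul, pow_mul]
    simp only [mul_assoc, mul_left_comm, mul_comm]
  · rw [map_pow, ha1]

lemma mem_chain_of_closure {G : Type*} [Group G] [Finite G] (ρ : G →* MulAut W) {x z : G} {u u' : W}
    (hx : Chain u u' (ρ x)) (hz : Chain u u' (ρ z)) {g : G} (hg : g ∈ closure ({x, z} : Set G)) :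
    Chain u u' (ρ g) := by
  induction hg using closure_induction with
  | mem a ha =>
    rcases ha with rfl | rfl
    · exact hx
    · exact hz
  | one => rw [map_one]; exact ⟨by simp, ⟨0, by simp⟩, fun v => ⟨0, 0, by simp⟩⟩
  | mul a b _ _ h1 h2 => rw [map_mul]; exact h1.mul h2
  | inv a _ h =>
    have h1 : a⁻¹ = a ^ (Nat.card G - 1) := by
      have h2 := pow_card_eq_one' (x := a)
      have h3 : Nat.card G = Nat.card G - 1 + 1 := by
        have := Nat.card_pos (α := G); omega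
      rw [h3, pow_succ] at h2
      exact (eq_inv_of_mul_eq_one_left h2).symm
    rw [h1, map_pow]
    exact h.pow _

/-- The key computation: two non-commuting transvections give an element inverting `u`. -/
lemma exists_invert (hp : p.Prime) (hexp : ∀ v : W, v ^ p = 1) (f h : MulAut W) (u u' : W)
    (a b : ℕ) (hfu : f u = u) (hfu' : f u' = u' * u ^ a) (hhu' : h u' = u') (hhu : h u = u * u' ^ b)
    (ha : u ^ a ≠ 1) (hb : u' ^ b ≠ 1) : ∃ t : ℕ, ((f * h ^ t) ^ 2) u = u⁻¹ := by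
  haveI : Fact p.Prime := ⟨hp⟩
  have hpa : ¬ p ∣ a := by
    rintro ⟨c, rfl⟩
    exact ha (by rw [pow_mul, hexp, one_pow])
  have hpb : ¬ p ∣ b := by
    rintro ⟨c, rfl⟩
    exact hb (by rw [pow_mul, hexp, one_pow])
  have hpab : ¬ p ∣ a * b := fun h => (hp.dvd_mul.1 h).elim hpa hpb
  -- choose `t` with `a b t ≡ -2`
  have hunit : ((a * b : ℕ) : ZMod p) ≠ 0 := by
    rwa [Ne, ZMod.natCast_eq_zero_iff]
  obtain ⟨t, ht⟩ : ∃ t : ℕ, ((t : ℕ) : ZMod p) = -2 / ((a * b : ℕ) : ZMod p) :=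
    ⟨(-2 / ((a * b : ℕ) : ZMod p)).val, by simp⟩
  set c := a * b * t with hc
  have hc2 : p ∣ c + 2 := by
    rw [← ZMod.natCast_eq_zero_iff]
    push_cast at ht hunit ⊢
    rw [hc]; push_cast
    rw [ht, mul_div_cancel₀ _ hunit]
    ring
  refine ⟨t, ?_⟩
  have hpow : ∀ t : ℕ, (h ^ t) u = u * u' ^ (b * t) := by
    intro t
    induction t with
    | zero => simp
    | succ t ih =>
      rw [pow_succ', MulAut.mul_apply, ih, map_mul, map_pow, hhu', hhu, mul_add, mul_one, pow_add]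
      simp only [mul_assoc, mul_left_comm, mul_comm]
  have hpow' : ∀ t : ℕ, (h ^ t) u' = u' := by
    intro t
    induction t with
    | zero => simp
    | succ t ih =>
      rw [pow_succ', MulAut.mul_apply, ih, hhu']
  have hw1 : (f * h ^ t) u = u ^ (1 + c) * u' ^ (b * t) := by
    rw [MulAut.mul_apply, hpow, map_mul, map_pow, hfu, hfu', mul_pow, ← pow_mul, hc]
    have : a * (b * t) = a * b * t := by ring
    rw [this, pow_add, pow_one]
    simp only [mul_assoc, mul_left_comm, mul_comm]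
  have hw2 : (f * h ^ t) u' = u' * u ^ a := by
    rw [MulAut.mul_apply, hpow', hfu']
  rw [pow_two, MulAut.mul_apply, hw1, map_mul, map_pow, map_pow, hw1, hw2, mul_pow, mul_pow,
    ← pow_mul, ← pow_mul, ← pow_mul]
  obtain ⟨d, hd⟩ := hc2
  -- exponents
  have e1 : u' ^ (b * t * (1 + c)) * u' ^ (b * t) = 1 := by
    rw [← pow_add]
    have : b * t * (1 + c) + b * t = (b * t * d) * p := by
      have : b * t * (1 + c) + b * t = b * t * (c + 2) := by ring
      rw [this, hd]; ring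
    rw [this, mul_comm _ p, pow_mul, hexp, one_pow]
  have e2 : u ^ ((1 + c) * (1 + c)) * u ^ (a * (b * t)) * u = 1 := by
    rw [← pow_add, ← pow_succ]
    have : (1 + c) * (1 + c) + a * (b * t) + 1 = ((1 + c) * d) * p := by
      have h1 : a * (b * t) = c := by rw [hc]; ring
      rw [h1]
      have : (1 + c) * (1 + c) + c + 1 = (1 + c) * (c + 2) := by ring
      rw [this, hd]; ring
    rw [this, mul_comm _ p, pow_mul, hexp, one_pow]
  have : u ^ ((1 + c) * (1 + c)) * u' ^ (b * t * (1 + c)) * (u' ^ (b * t) * u ^ (a * (b * t))) =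
      (u' ^ (b * t * (1 + c)) * u' ^ (b * t)) * (u ^ ((1 + c) * (1 + c)) * u ^ (a * (b * t)) * u) * u⁻¹ := by
    rw [← mul_assoc (u' ^ (b * t * (1 + c)) * u' ^ (b * t)) (u ^ ((1 + c) * (1 + c)) * u ^ (a * (b * t))) u,
      mul_inv_cancel_right]
    simp only [mul_assoc, mul_left_comm, mul_comm]
  rw [this, e1, e2]
  simp

/-- Main lemma. -/
theorem main {G : Type*} [Group G] [Finite G] (hG : Odd (Nat.card G)) (hp : p.Prime) (hp2 : p ≠ 2)
    (hexp : ∀ v : W, v ^ p = 1) (ρ : G →* MulAut W) {x z : G} {u u' : W}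
    (hx : ∀ v, ∃ k : ℕ, ρ x v = v * u ^ k) (hxu : ρ x u = u)
    (hz : ∀ v, ∃ k : ℕ, ρ z v = v * u' ^ k) (hzu : ρ z u' = u') {g : G}
    (hg : g ∈ closure ({x, z} : Set G)) : (ρ g) ^ p = 1 := by
  obtain ⟨a, ha⟩ := hx u'
  obtain ⟨b, hb⟩ := hz u
  by_cases hA : u ^ a = 1
  · have hcx : Chain u u' (ρ x) := by
      refine ⟨by rw [ha, hA, mul_one], ⟨0, by simp [hxu]⟩, fun v => ?_⟩
      obtain ⟨k, hk⟩ := hx v
      exact ⟨k, 0, by simpa using hk⟩
    have hcz : Chain u u' (ρ z) := by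
      refine ⟨hzu, ⟨b, hb⟩, fun v => ?_⟩
      obtain ⟨k, hk⟩ := hz v
      exact ⟨0, k, by simpa using hk⟩
    exact (mem_chain_of_closure ρ hcx hcz hg).pow_p hp hp2 hexp
  by_cases hB : u' ^ b = 1
  · have hcx : Chain u' u (ρ x) := by
      refine ⟨hxu, ⟨a, ha⟩, fun v => ?_⟩
      obtain ⟨k, hk⟩ := hx v
      exact ⟨0, k, by simpa using hk⟩
    have hcz : Chain u' u (ρ z) := by
      refine ⟨by rw [hb, hB, mul_one], ⟨0, by simp [hzu]⟩, fun v => ?_⟩
      obtain ⟨k, hk⟩ := hz v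
      exact ⟨k, 0, by simpa using hk⟩
    exact (mem_chain_of_closure ρ hcx hcz hg).pow_p hp hp2 hexp
  exfalso
  obtain ⟨t, ht⟩ := exists_invert hp hexp (ρ x) (ρ z) u u' a b hxu ha hzu hb hA hB
  set w := x * z ^ t with hw
  have hρw : ρ x * ρ z ^ t = ρ w := by rw [hw, map_mul, map_pow]
  rw [hρw, ← map_pow] at ht
  -- odd order
  have hodd : Odd (orderOf (w ^ 2)) := Odd.of_dvd_nat hG (orderOf_dvd_natCard _)
  obtain ⟨m, hm⟩ := hodd
  have h1 : (w ^ 2) ^ (2 * m + 1) = 1 := by rw [← hm]; exact pow_orderOf_eq_one _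
  have h2 : ∀ n : ℕ, ρ ((w ^ 2) ^ (2 * n)) u = u := by
    intro n
    induction n with
    | zero => simp
    | succ n ih =>
      have : (w ^ 2) ^ (2 * (n + 1)) = (w ^ 2) * (w ^ 2) * (w ^ 2) ^ (2 * n) := by
        have h9 : 2 * (n + 1) = 2 + 2 * n := by ring
        rw [h9, pow_add, pow_two (w ^ 2)]
      rw [this, map_mul, MulAut.mul_apply, ih, map_mul, MulAut.mul_apply, ht, map_inv, ht, inv_inv]
  have h3 : ρ ((w ^ 2) ^ (2 * m + 1)) u = u⁻¹ := by
    rw [pow_succ, map_mul, MulAut.mul_apply, ht, map_inv, h2]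
  rw [h1, map_one] at h3
  have h4 : u = u⁻¹ := h3
  have h5 : u ^ 2 = 1 := by
    rw [pow_two]; nth_rewrite 2 [h4]; simp
  have h6 : u = 1 := by
    have hc : Nat.Coprime p 2 := (Nat.coprime_primes hp Nat.prime_two).2 hp2
    have := pow_gcd_eq_one.2 ⟨hexp u, h5⟩
    rw [hc.gcd_eq_one] at this
    simpa using this
  exact hA (by rw [h6, one_pow])

end CfsgLib.Transv
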