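import Cfsg.Agent.Lib.Local.Isolated
import Cfsg.Agent.Lib.PLocal.RankTwo
import Cfsg.Agent.Lib.Trans.Basic
import Cfsg.Agent.Lib.Solv.Fit
import Cfsg.Agent.Lib.SS.Misc
import Cfsg.Prelude.Def_CaseTheorems

/-! # The `Z*_p` statement: rank one and the minimal counterexample. -/

set_option autoImplicit false
set_option linter.unusedSectionVars false
set_option linter.unusedVariables false

namespace CfsgLib.ZStar

open Subgroup Cfsg CfsgLib.Local
open scoped Pointwise

variable {G : Type*} [Group G] [Finite G] {p : ℕ} [hp : Fact p.Prime]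

/-- Odd rank one: the Sylow subgroups are cyclic. -/
theorem cyclic_of_rank_one (hp2 : p ≠ 2) (hrk : PRankLE p 1 G) (P : Sylow p G) : IsCyclic ↥(P : Subgroup G) := by
  by_contra hnc
  have htop : ¬ IsCyclic (⊤ : Subgroup ↥(P : Subgroup G)) := fun h => hnc (by
    exact isCyclic_of_surjective (Subgroup.topEquiv (G := ↥(P : Subgroup G))).toMonoidHom
      (Subgroup.topEquiv (G := ↥(P : Subgroup G))).surjective)
  obtain ⟨A, -, -, ⟨hAc, hAp⟩, hAcard⟩ :=
    CfsgLib.PLocal.exists_normal_rank_two hp2 P.2 _ ⊤ rfl inferInstance htop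
  have h1 := hrk (A.map (P : Subgroup G).subtype) ?_ ?_
  · rw [Subgroup.card_map_of_injective (P : Subgroup G).subtype_injective, hAcard] at h1
    have := hp.out.two_le
    rw [pow_one] at h1
    nlinarith
  · constructor
    constructor
    rintro ⟨_, a, ha, rfl⟩ ⟨_, b, hb, rfl⟩
    apply Subtype.ext
    have := hAc.is_comm.comm (⟨a, ha⟩ : A) ⟨b, hb⟩
    exact congrArg (fun t : A => ((t : ↥(P : Subgroup G)) : G)) this
  · rintro _ ⟨a, ha, rfl⟩
    have := hAp a ha
    exact congrArg Subtype.val this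

/-- S2971. -/
theorem rank_one (hp2 : p ≠ 2) (hrk : PRankLE p 1 G) (x : G) (hx : orderOf x = p) (hiso : IsIsolated x) :
    InZStar p x := by
  have hx1 : x ≠ 1 := by
    rintro rfl
    rw [orderOf_one] at hx
    exact hp.out.one_lt.ne hx
  obtain ⟨P, N, hN, hc⟩ := hasNormalPComplement_of_isolated (p := p) x ⟨1, by rw [hx, pow_one]⟩ hiso hx1
    (cyclic_of_rank_one hp2 hrk)
  haveI := hN
  have hcN : N ≤ pPrimeCore p G := by
    apply CfsgLib.Solv.le_pPrimeCore'
    rw [(CfsgLib.Trans.card_index_of_complement P N hc).1]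
    exact ((Nat.Prime.coprime_iff_not_dvd hp.out).2 P.not_dvd_index).symm
  haveI := cyclic_of_rank_one hp2 hrk P
  have hsurj : Function.Surjective ((QuotientGroup.mk' N).comp (P : Subgroup G).subtype) := by
    intro u
    obtain ⟨g, rfl⟩ := QuotientGroup.mk_surjective u
    obtain ⟨n, hn, h, hh, rfl⟩ := CfsgLib.SS.exists_mul_of_sup_eq_top hc.sup_eq_top g
    refine ⟨⟨h, hh⟩, ?_⟩
    show ((h : G) : G ⧸ N) = ((n * h : G) : G ⧸ N)
    rw [QuotientGroup.mk_mul, (QuotientGroup.eq_one_iff n).2 hn, one_mul]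
  have hcyc : IsCyclic (G ⧸ N) := isCyclic_of_surjective _ hsurj
  intro g
  apply hcN
  rw [← QuotientGroup.eq_one_iff]
  have hcomm := hcyc.isMulCommutative.is_comm.comm (g : G ⧸ N) (x : G ⧸ N)
  simp only [QuotientGroup.mk_mul, QuotientGroup.mk_inv]
  rw [hcomm]
  group

variable (x : G)

/-- The largest normal `p'`-subgroup of a minimal counterexample is trivial. -/
theorem core_bot (hnz : ¬ InZStar p x)
    (hquot : ∀ (N : Subgroup G) [N.Normal], N ≠ ⊥ → InZStar p (QuotientGroup.mk x : G ⧸ N)) :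
    pPrimeCore p G = ⊥ := by
  by_contra h
  haveI hN : (pPrimeCore p G).Normal := CfsgLib.Solv.pPrimeCore_normal' p
  apply hnz
  intro g
  have h1 := hquot (pPrimeCore p G) h (g : G ⧸ pPrimeCore p G)
  rw [CfsgLib.Solv.pPrimeCore_quotient_eq_bot, Subgroup.mem_bot] at h1
  rw [← QuotientGroup.eq_one_iff]
  simpa using h1

/-- A `p`-element normalizing a `p'`-group normalizes one of its Sylow subgroups. -/
theorem exists_fixed_sylow {W : Type*} [Group W] [Finite W] (φ : MulAut W) (hφ : φ ^ p = 1) (q : ℕ) [Fact q.Prime]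
    (hcop : (Nat.card W).Coprime p) : ∃ T : Sylow q W, φ • T = T := by
  have hP : IsPGroup p (zpowers φ) := by
    rintro ⟨_, m, rfl⟩
    refine ⟨1, Subtype.ext ?_⟩
    show (φ ^ m) ^ p ^ 1 = 1
    rw [pow_one, ← zpow_natCast, ← zpow_mul, mul_comm, zpow_mul, zpow_natCast, hφ, one_zpow]
  have hd : ¬ p ∣ Nat.card (Sylow q W) := by
    intro h
    let T : Sylow q W := default
    have h1 : Nat.card (Sylow q W) ∣ (T : Subgroup W).index := T.card_dvd_index
    have h2 : (T : Subgroup W).index ∣ Nat.card W := Subgroup.index_dvd_card _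
    have h3 := h.trans (h1.trans h2)
    exact (Nat.Prime.coprime_iff_not_dvd hp.out).1 hcop.symm h3
  obtain ⟨T, hT⟩ := hP.nonempty_fixed_point_of_prime_not_dvd_card (Sylow q W) hd
  refine ⟨T, ?_⟩
  exact hT ⟨φ, mem_zpowers φ⟩

/-- The key step: an `x`-invariant `q`-subgroup above a normal `q`-subgroup. -/
theorem exists_invariant {L : Type*} [Group L] [Finite L] (K : Subgroup L) [hK : K.Normal]
    (hKp : (Nat.card K).Coprime p) (y : L) (hy : y ^ p = 1) (hyK : ∀ w : L, w * y * w⁻¹ * y⁻¹ ∈ K)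
    (q : ℕ) [hq : Fact q.Prime] (hqp : q ≠ p) (Q R : Subgroup L) [hQn : Q.Normal] (hQ : IsPGroup q Q)
    (hR : IsPGroup q R) (hQR : Q ≤ R) :
    ∃ T : Subgroup L, IsPGroup q T ∧ y ∈ normalizer (T : Set L) ∧ Q ≤ T ∧ Nat.card R ≤ Nat.card T := by
  set W : Subgroup L := R ⊔ K with hW
  have hyW : y ∈ normalizer (W : Set L) := by
    apply Subgroup.mem_normalizer_fintype
    intro w hw
    have h1 : y * w * y⁻¹ * w⁻¹ ∈ K := by
      have h2 := K.inv_mem (hyK w)
      have e : (w * y * w⁻¹ * y⁻¹)⁻¹ = y * w * y⁻¹ * w⁻¹ := by group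
      rwa [e] at h2
    have e : y * w * y⁻¹ = (y * w * y⁻¹ * w⁻¹) * w := by group
    rw [e]
    exact W.mul_mem ((le_sup_right : K ≤ W) h1) hw
  let n : normalizer (W : Set L) := ⟨y, hyW⟩
  let φ : MulAut W := W.normalizerMonoidHom n
  have hφ : φ ^ p = 1 := by
    have h1 : n ^ p = 1 := Subtype.ext hy
    rw [← map_pow, h1, map_one]
  have hcop : (Nat.card W).Coprime p := by
    have h1 := CfsgLib.Trans.card_mul_relIndex (le_sup_right : K ≤ W)
    rw [← h1]
    apply Nat.Coprime.mul_left hKp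
    rw [Subgroup.relIndex_sup_right]
    have h2 : K.relIndex R ∣ Nat.card R := Subgroup.index_dvd_card _
    obtain ⟨k, hk⟩ := IsPGroup.iff_card.1 hR
    rw [hk] at h2
    exact Nat.Coprime.coprime_dvd_left h2
      (Nat.Coprime.pow_left k ((Nat.coprime_primes hq.out hp.out).2 hqp))
  obtain ⟨T, hT⟩ := exists_fixed_sylow (p := p) φ hφ q hcop
  refine ⟨(T : Subgroup W).map W.subtype, T.2.map _, ?_, ?_, ?_⟩
  · apply Subgroup.mem_normalizer_fintype
    rintro _ ⟨u, hu, rfl⟩
    have h1 : φ u ∈ (T : Subgroup W) := by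
      have h2 : φ u ∈ (φ • (T : Subgroup W)) := Subgroup.smul_mem_pointwise_smul u φ _ hu
      have h3 : ((φ • T : Sylow q W) : Subgroup W) = φ • (T : Subgroup W) := rfl
      rw [← h3, hT] at h2
      exact h2
    exact ⟨φ u, h1, rfl⟩
  · -- `Q` is a normal `q`-subgroup of `W`
    have hQW : Q ≤ W := hQR.trans le_sup_left
    have hQ' : IsPGroup q (Q.subgroupOf W) := IsPGroup.comap_subtype hQ
    haveI hQ'n : (Q.subgroupOf W).Normal := Subgroup.Normal.subgroupOf hQn W
    have h1 : (T : Subgroup W) ⊔ Q.subgroupOf W = (T : Subgroup W) :=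
      T.is_maximal' (IsPGroup.to_sup_of_normal_right T.2 hQ') le_sup_left
    intro u hu
    have h2 : (⟨u, hQW hu⟩ : W) ∈ (T : Subgroup W) := by
      rw [← h1]
      exact (le_sup_right : Q.subgroupOf W ≤ _) (mem_subgroupOf.2 hu)
    exact ⟨_, h2, rfl⟩
  · have hRW : R ≤ W := le_sup_left
    have hR' : IsPGroup q (R.subgroupOf W) := IsPGroup.comap_subtype hR
    obtain ⟨S, hS⟩ := hR'.exists_le_sylow
    have h1 : Nat.card (R.subgroupOf W) ≤ Nat.card S := Subgroup.card_le_of_le hS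
    have h2 : Nat.card S = Nat.card T := by
      rw [Sylow.card_eq_multiplicity, Sylow.card_eq_multiplicity]
    have h3 : Nat.card (R.subgroupOf W) = Nat.card R :=
      Nat.card_congr (Subgroup.subgroupOfEquivOfLe hRW).toEquiv
    rw [Subgroup.card_map_of_injective W.subtype_injective]
    rw [← h3]
    exact h1.trans (le_of_eq h2)

/-- In a minimal counterexample, a maximal `x`-invariant `q`-subgroup is trivial or Sylow. -/
theorem maximal_invariant (hx : orderOf x = p) (hiso : IsIsolated x) (hnz : ¬ InZStar p x)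
    (hmin : ∀ (H : Subgroup G) (hxH : x ∈ H), H ≠ ⊤ → InZStar p (⟨x, hxH⟩ : ↥H))
    (hquot : ∀ (N : Subgroup G) [N.Normal], N ≠ ⊥ → InZStar p (QuotientGroup.mk x : G ⧸ N))
    (q : ℕ) [hq : Fact q.Prime] (Q : Subgroup G) (hQ : IsPGroup q ↥Q) (hxQ : x ∈ normalizer (Q : Set G))
    (hmax : ∀ R : Subgroup G, IsPGroup q ↥R → x ∈ normalizer (R : Set G) → Q ≤ R → R = Q) :
    Q = ⊥ ∨ ∃ S : Sylow q G, (S : Subgroup G) = Q := by
  by_cases hQ1 : Q = ⊥
  · exact Or.inl hQ1
  right
  have hcore := core_bot x hnz hquot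
  obtain ⟨S, hS⟩ := hQ.exists_le_sylow
  refine ⟨S, ?_⟩
  by_contra hne
  have hlt : Q < S := lt_of_le_of_ne hS (fun h => hne h.symm)
  obtain ⟨t, htS, htQ, htN⟩ := exists_normalizing S.2 hlt
  by_cases hqp : q = p
  · subst hqp
    have hxp : IsPGroup q ↥(zpowers x) := isPGroup_zpowers ⟨1, by rw [hx, pow_one]⟩
    have hsup : IsPGroup q ↥(Q ⊔ zpowers x) :=
      IsPGroup.to_sup_of_normal_left' hQ hxp (zpowers_le.2 hxQ)
    have hxn : x ∈ normalizer ((Q ⊔ zpowers x : Subgroup G) : Set G) :=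
      Subgroup.le_normalizer ((le_sup_right : zpowers x ≤ Q ⊔ zpowers x) (mem_zpowers x))
    have hE := hmax _ hsup hxn le_sup_left
    have hxQ' : x ∈ Q := by
      rw [← hE]
      exact (le_sup_right : zpowers x ≤ Q ⊔ zpowers x) (mem_zpowers x)
    exact hne (hmax S S.2 (Subgroup.le_normalizer (hS hxQ')) hS)
  · -- the normalizer of `Q` is proper
    have hL : normalizer (Q : Set G) ≠ ⊤ := by
      intro h
      haveI hn : Q.Normal := normalizer_eq_top_iff.1 h
      have h1 : Q ≤ pPrimeCore p G := by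
        apply CfsgLib.Solv.le_pPrimeCore'
        obtain ⟨k, hk⟩ := IsPGroup.iff_card.1 hQ
        rw [hk]
        exact Nat.Coprime.pow_left k ((Nat.coprime_primes hq.out hp.out).2 hqp)
      rw [hcore] at h1
      exact hQ1 (le_bot_iff.1 h1)
    have hZ := hmin _ hxQ hL
    set L := normalizer (Q : Set G) with hLdef
    haveI hKn : (pPrimeCore p L).Normal := CfsgLib.Solv.pPrimeCore_normal' p
    have hRp : IsPGroup q ↥(Q ⊔ zpowers t) := by
      apply IsPGroup.to_sup_of_normal_left' hQ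
      · have : zpowers t ≤ (S : Subgroup G) := zpowers_le.2 htS
        exact S.2.to_le this
      · exact zpowers_le.2 htN
    have hRL : Q ⊔ zpowers t ≤ L := sup_le Subgroup.le_normalizer (zpowers_le.2 htN)
    haveI hQn : (Q.subgroupOf L).Normal := by
      rw [hLdef]
      exact Subgroup.normal_in_normalizer
    obtain ⟨T, hT1, hT2, hT3, hT4⟩ := exists_invariant (p := p) (L := L) (pPrimeCore p L)
      (CfsgLib.Solv.pPrimeCore_coprime p) (⟨x, hxQ⟩ : L)
      (Subtype.ext (by rw [← hx]; exact pow_orderOf_eq_one x)) hZ q hqp (Q.subgroupOf L)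
      ((Q ⊔ zpowers t).subgroupOf L) (IsPGroup.comap_subtype hQ) (IsPGroup.comap_subtype hRp)
      (Subgroup.comap_mono le_sup_left)
    have hT' : T.map L.subtype = Q := by
      apply hmax _ (hT1.map _)
      · apply Subgroup.mem_normalizer_fintype
        rintro _ ⟨u, hu, rfl⟩
        exact ⟨_, (mem_normalizer_iff.1 hT2 u).1 hu, rfl⟩
      · intro u hu
        exact ⟨⟨u, Subgroup.le_normalizer hu⟩, hT3 (mem_subgroupOf.2 hu), rfl⟩
    have hc : Nat.card ((Q ⊔ zpowers t : Subgroup G)) ≤ Nat.card Q := by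
      have h1 : Nat.card ((Q ⊔ zpowers t).subgroupOf L) = Nat.card ((Q ⊔ zpowers t : Subgroup G)) :=
        Nat.card_congr (Subgroup.subgroupOfEquivOfLe hRL).toEquiv
      have h2 : Nat.card Q = Nat.card T := by
        rw [show Nat.card Q = Nat.card (T.map L.subtype) by rw [hT'],
          Subgroup.card_map_of_injective L.subtype_injective]
      rw [h2, ← h1]
      exact hT4
    have heq : Q = Q ⊔ zpowers t := Subgroup.eq_of_le_of_card_ge le_sup_left hc
    apply htQ
    rw [heq]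
    exact (le_sup_right : zpowers t ≤ Q ⊔ zpowers t) (mem_zpowers t)

/-- For an isolated `x` of `p`-power order, `C_G(x)` is transitive on the `x`-invariant Sylow subgroups. -/
theorem transitive (hx : ∃ k : ℕ, orderOf x = p ^ k) (hiso : IsIsolated x) (q : ℕ) [hq : Fact q.Prime]
    (S₁ S₂ : Sylow q G) (h₁ : x ∈ normalizer ((S₁ : Subgroup G) : Set G))
    (h₂ : x ∈ normalizer ((S₂ : Subgroup G) : Set G)) :
    ∃ c ∈ centralizer ({x} : Set G), (S₁ : Subgroup G).map (MulAut.conj c).toMonoidHom = (S₂ : Subgroup G) := by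
  obtain ⟨g, hg⟩ := MulAction.exists_smul_eq G S₁ S₂
  have hg2 : (S₂ : Subgroup G) = (S₁ : Subgroup G).map (MulAut.conj g).toMonoidHom := by
    rw [← hg]
    rfl
  have hx' : g⁻¹ * x * g ∈ normalizer ((S₁ : Subgroup G) : Set G) := by
    apply Subgroup.mem_normalizer_fintype
    intro u hu
    have h3 : g * u * g⁻¹ ∈ (S₂ : Subgroup G) := by
      rw [hg2]
      exact ⟨u, hu, rfl⟩
    have h4 := (mem_normalizer_iff.1 h₂ _).1 h3
    have h5 : x * (g * u * g⁻¹) * x⁻¹ ∈ (S₁ : Subgroup G).map (MulAut.conj g).toMonoidHom := by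
      rw [← hg2]
      exact h4
    obtain ⟨v, hv, hve⟩ := h5
    have e : g⁻¹ * x * g * u * (g⁻¹ * x * g)⁻¹ = v := by
      have hve' : g * v * g⁻¹ = x * (g * u * g⁻¹) * x⁻¹ := hve
      have : v = g⁻¹ * (x * (g * u * g⁻¹) * x⁻¹) * g := by
        rw [← hve']
        group
      rw [this]
      group
    rw [e]
    exact hv
  have hox : ∃ k : ℕ, orderOf (g⁻¹ * x * g) = p ^ k := by
    obtain ⟨k, hk⟩ := hx
    refine ⟨k, ?_⟩
    rw [← hk]
    have := MulEquiv.orderOf_eq (MulAut.conj g⁻¹) x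
    simpa [MulAut.conj_apply] using this
  obtain ⟨R, hRp, hxR, d, hd, hdR⟩ := exists_conj_in_subgroup (p := p) (normalizer ((S₁ : Subgroup G) : Set G))
    (zpowers x) (zpowers (g⁻¹ * x * g)) (zpowers_le.2 h₁) (zpowers_le.2 hx') (isPGroup_zpowers hx)
    (isPGroup_zpowers hox)
  have hxR' : x ∈ R := hxR (mem_zpowers x)
  have hz : d * (g⁻¹ * x * g) * d⁻¹ ∈ R := hdR ⟨_, mem_zpowers _, rfl⟩
  have hc := isolated_central hRp hxR' hiso hz
  have e1 : d * (g⁻¹ * x * g) * d⁻¹ = (d * g⁻¹) * x * (d * g⁻¹)⁻¹ := by group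
  rw [e1] at hc
  have h6 := hiso (d * g⁻¹) hc.symm
  refine ⟨g * d⁻¹, ?_, ?_⟩
  · rw [Subgroup.mem_centralizer_singleton_iff]
    have h6' : (d * g⁻¹) * x = x * (d * g⁻¹) := mul_inv_eq_iff_eq_mul.1 h6
    have h7 : g * d⁻¹ * x * (g * d⁻¹)⁻¹ = x := by
      have e2 : g * d⁻¹ * x * (g * d⁻¹)⁻¹ = (d * g⁻¹)⁻¹ * (x * (d * g⁻¹)) := by group
      rw [e2, ← h6']
      group
    exact mul_inv_eq_iff_eq_mul.1 h7
  · rw [hg2]
    have h8 : (S₁ : Subgroup G).map (MulAut.conj d⁻¹).toMonoidHom = (S₁ : Subgroup G) := by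
      apply le_antisymm
      · rintro _ ⟨u, hu, rfl⟩
        exact (mem_normalizer_iff.1 (inv_mem hd) u).1 hu
      · intro u hu
        refine ⟨d * u * d⁻¹, (mem_normalizer_iff.1 hd u).1 hu, ?_⟩
        show d⁻¹ * (d * u * d⁻¹) * d⁻¹⁻¹ = u
        group
    calc (S₁ : Subgroup G).map (MulAut.conj (g * d⁻¹)).toMonoidHom
        = ((S₁ : Subgroup G).map (MulAut.conj d⁻¹).toMonoidHom).map (MulAut.conj g).toMonoidHom := by
          rw [Subgroup.map_map]
          congr 1
          ext u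
          simp [MulAut.conj_apply, mul_assoc]
      _ = _ := by rw [h8]

end CfsgLib.ZStar
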