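import Cfsg.Agent.Lib.H3.ZStar
import Cfsg.Agent.Lib.H3.AlpGold
import Cfsg.Agent.Lib.H3.Comp2
import Cfsg.Agent.Lib.SS.System
import Cfsg.Agent.Lib.H3.CycSyl

/-! # A minimal counterexample to the `Z*_p` statement is almost simple. -/

set_option autoImplicit false
set_option linter.unusedSectionVars false
set_option linter.unusedVariables false

namespace CfsgLib.ZStar

open Subgroup Cfsg CfsgLib.Local
open scoped commutatorElement

variable {G : Type*} [Group G] [Finite G] {p : ℕ} [hp : Fact p.Prime]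

/-- `O_{p'}` of a normal subgroup is trivial when `O_{p'}(G)` is. -/
theorem core_normal_bot (hO : pPrimeCore p G = ⊥) (N : Subgroup G) [hN : N.Normal] : pPrimeCore p ↥N = ⊥ := by
  haveI : (pPrimeCore p ↥N).Characteristic := CfsgLib.Comp.pPrimeCore_char p
  have h1 : ((pPrimeCore p ↥N).map N.subtype).Normal := by
    rw [← Subgroup.normalizer_eq_top_iff, eq_top_iff]
    have := CfsgLib.Comp.char_map_le_normalizer (A := N) (pPrimeCore p ↥N)
    rw [Subgroup.normalizer_eq_top_iff.2 hN] at this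
    exact this
  haveI := h1
  have h2 : (pPrimeCore p ↥N).map N.subtype ≤ pPrimeCore p G := by
    apply CfsgLib.Solv.le_pPrimeCore'
    rw [Subgroup.card_map_of_injective N.subtype_injective]
    exact CfsgLib.Solv.pPrimeCore_coprime p
  rw [hO, le_bot_iff] at h2
  exact (Subgroup.map_eq_bot_iff_of_injective _ N.subtype_injective).1 h2

variable (x : G)

/-- If `x` generates `G` as a normal subgroup and centralizes the normal subgroup `U`, then `U` is central. -/
theorem le_center_of_centralizes (hcl : normalClosure ({x} : Set G) = ⊤) (U : Subgroup G) [hU : U.Normal]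
    (h : ∀ u ∈ U, u * x = x * u) : U ≤ center G := by
  haveI : (centralizer (U : Set G)).Normal := Subgroup.normal_centralizer
  have h1 : normalClosure ({x} : Set G) ≤ centralizer (U : Set G) := by
    apply normalClosure_le_normal
    rintro _ rfl
    rw [SetLike.mem_coe, mem_centralizer_iff]
    exact h
  rw [hcl] at h1
  intro u hu
  rw [mem_center_iff]
  intro g
  exact ((mem_centralizer_iff.1 (h1 (mem_top g))) u hu).symm


/-- An abelian group with trivial `O_{p'}` is a `p`-group. -/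
theorem isPGroup_of_comm_core_bot {A : Type*} [Group A] [Finite A] (hc : ∀ a b : A, a * b = b * a)
    (h : pPrimeCore p A = ⊥) : IsPGroup p A := by
  obtain ⟨P⟩ : Nonempty (Sylow p A) := inferInstance
  have hPn : (P : Subgroup A).Normal := ⟨fun n hn g => by rw [hc g n]; simpa using hn⟩
  obtain ⟨H, hH⟩ := Subgroup.exists_right_complement'_of_coprime (N := (P : Subgroup A)) P.card_coprime_index
  have hHn : H.Normal := ⟨fun n hn g => by rw [hc g n]; simpa using hn⟩
  have hidx : (P : Subgroup A).index = Nat.card H := hH.symm.index_eq_card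
  have hcop : (Nat.card H).Coprime p := by
    rw [← hidx]
    exact ((Nat.Prime.coprime_iff_not_dvd hp.out).2 P.not_dvd_index).symm
  have hle : H ≤ pPrimeCore p A := CfsgLib.Solv.le_pPrimeCore' H hcop
  rw [h, le_bot_iff] at hle
  rw [hle] at hH
  have htop : (P : Subgroup A) = ⊤ := by
    have := hH.card_mul
    have h1 : Nat.card (⊥ : Subgroup A) = 1 := Subgroup.card_bot
    rw [h1, mul_one] at this
    exact Subgroup.eq_top_of_card_eq _ this
  have hP := P.isPGroup'
  rw [htop] at hP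
  exact IsPGroup.of_surjective hP (MonoidHom.id _ |>.comp (⊤ : Subgroup A).subtype) (fun a => ⟨⟨a, mem_top a⟩, rfl⟩)

/-- A central normal `p`-subgroup with trivial `O_{p'}(G)`: the preimage of `O_{p'}(G/M)` is `M`. -/
theorem comap_core_le_of_central (M : Subgroup G) [hMn : M.Normal] (hMp : IsPGroup p ↥M) (hcen : M ≤ center G)
    (hO : pPrimeCore p G = ⊥) : (pPrimeCore p (G ⧸ M)).comap (QuotientGroup.mk' M) ≤ M := by
  set D := pPrimeCore p (G ⧸ M) with hD
  set K := D.comap (QuotientGroup.mk' M) with hK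
  haveI : D.Normal := CfsgLib.Solv.pPrimeCore_normal' p
  haveI hKn : K.Normal := Subgroup.Normal.comap inferInstance _
  have hMK : M ≤ K := by
    intro m hm
    show QuotientGroup.mk' M m ∈ D
    have : QuotientGroup.mk' M m = 1 := (QuotientGroup.eq_one_iff m).2 hm
    rw [this]; exact one_mem _
  have hsurj : Function.Surjective (QuotientGroup.mk' M) := QuotientGroup.mk'_surjective M
  set f : ↥K →* G ⧸ M := (QuotientGroup.mk' M).comp K.subtype with hf
  have hfk : f.ker = M.subgroupOf K := by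
    ext k
    rw [MonoidHom.mem_ker, Subgroup.mem_subgroupOf]
    exact QuotientGroup.eq_one_iff (k : G)
  have hfr : f.range = D := by
    rw [hf, MonoidHom.range_comp, Subgroup.range_subtype, hK, Subgroup.map_comap_eq_self_of_surjective hsurj]
  have hidx : (M.subgroupOf K).index = Nat.card D := by
    rw [← hfk, Subgroup.index_ker, hfr]
  have hcopD : (Nat.card D).Coprime p := CfsgLib.Solv.pPrimeCore_coprime p
  set N₀ := M.subgroupOf K with hN₀
  haveI hN₀n : N₀.Normal := Subgroup.Normal.subgroupOf inferInstance K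
  have hN₀p : IsPGroup p ↥N₀ := by
    exact hMp.of_equiv (Subgroup.subgroupOfEquivOfLe hMK).symm
  obtain ⟨k, hk⟩ := hN₀p.exists_card_eq
  have hcop1 : (Nat.card N₀).Coprime N₀.index := by
    rw [hk, hidx]
    exact (Nat.Coprime.pow_left k hcopD.symm)
  obtain ⟨H₀, hH₀⟩ := Subgroup.exists_right_complement'_of_coprime hcop1
  have hcentr : ∀ n ∈ N₀, ∀ k' : ↥K, n * k' = k' * n := by
    intro n hn k'
    have h1 : ((n : ↥K) : G) ∈ M := hn
    have h2 := (mem_center_iff.1 (hcen h1)) (k' : G)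
    apply Subtype.ext
    exact h2.symm
  have hH₀n : H₀.Normal := by
    constructor
    intro n hn g
    obtain ⟨u, hu, v, hv, rfl⟩ : ∃ u ∈ N₀, ∃ v ∈ H₀, u * v = g := by
      obtain ⟨⟨a, b⟩, hab⟩ := hH₀.2 g
      exact ⟨a, a.2, b, b.2, hab⟩
    have : u * v * n * (u * v)⁻¹ = v * n * v⁻¹ := by
      have h1 := hcentr u hu (v * n * v⁻¹)
      calc u * v * n * (u * v)⁻¹ = u * (v * n * v⁻¹) * u⁻¹ := by group
        _ = (v * n * v⁻¹) * u * u⁻¹ := by rw [h1]
        _ = v * n * v⁻¹ := by group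
    rw [this]
    exact H₀.mul_mem (H₀.mul_mem hv hn) (H₀.inv_mem hv)
  have hH₀c : (Nat.card H₀).Coprime p := by
    rw [← hH₀.symm.index_eq_card, hidx]
    exact hcopD
  have hH₀le : H₀ ≤ pPrimeCore p ↥K := CfsgLib.Solv.le_pPrimeCore' H₀ hH₀c
  rw [core_normal_bot hO K, le_bot_iff] at hH₀le
  rw [hH₀le] at hH₀
  have htop : N₀ = ⊤ := by
    have := hH₀.card_mul
    have h1 : Nat.card (⊥ : Subgroup ↥K) = 1 := Subgroup.card_bot
    rw [h1, mul_one] at this
    exact Subgroup.eq_top_of_card_eq _ this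
  intro y hy
  have : (⟨y, hy⟩ : ↥K) ∈ N₀ := htop ▸ mem_top _
  exact this

/-- S2972. -/
theorem minimal_counterexample (hx : orderOf x = p) (hiso : IsIsolated x) (hnz : ¬ InZStar p x)
    (hmin : ∀ (H : Subgroup G) (hxH : x ∈ H), H ≠ ⊤ → InZStar p (⟨x, hxH⟩ : ↥H))
    (hquot : ∀ (N : Subgroup G) [N.Normal], N ≠ ⊥ → InZStar p (QuotientGroup.mk x : G ⧸ N)) :
    IsSimpleGroup ↥(commutator G) ∧ ¬ IsMulCommutative ↥(commutator G) ∧ commutator G ⊔ zpowers x = ⊤ := by
  have hO := core_bot x hnz hquot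
  have hxp : IsPGroup p ↥(zpowers x) := isPGroup_zpowers ⟨1, by rw [hx, pow_one]⟩
  have hcen : ¬ ∀ g : G, g * x = x * g := by
    intro h
    apply hnz
    intro g
    rw [h g]
    have : x * g * g⁻¹ * x⁻¹ = 1 := by group
    rw [this]
    exact one_mem _
  have hx1 : x ≠ 1 := by
    rintro rfl
    exact hcen (by simp)
  -- the normal closure of `x`
  have hcl : normalClosure ({x} : Set G) = ⊤ := by
    by_contra hne
    set L := normalClosure ({x} : Set G) with hL
    haveI hLn : L.Normal := Subgroup.normalClosure_normal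
    have hxL : x ∈ L := subset_normalClosure rfl
    have hZ := hmin L hxL hne
    have hbot := core_normal_bot (p := p) hO L
    apply hcen
    intro g
    have h1 : g * x * g⁻¹ ∈ L := hLn.conj_mem _ hxL g
    have h2 := hZ ⟨g * x * g⁻¹, h1⟩
    rw [hbot, Subgroup.mem_bot] at h2
    have h3 : (g * x * g⁻¹) * x * (g * x * g⁻¹)⁻¹ * x⁻¹ = 1 := congrArg Subtype.val h2
    have h4 : Commute x (g * x * g⁻¹) := by
      rw [mul_inv_eq_one, mul_inv_eq_iff_eq_mul] at h3
      exact h3.symm
    have h5 := hiso g h4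
    rw [mul_inv_eq_iff_eq_mul] at h5
    exact h5
  -- a minimal normal subgroup
  have hG1 : (⊤ : Subgroup G) ≠ ⊥ := by
    intro h
    apply hx1
    have : x ∈ (⊥ : Subgroup G) := h ▸ mem_top x
    exact Subgroup.mem_bot.1 this
  obtain ⟨M, hMn, hMb, -, hMmin⟩ := CfsgLib.SS.exists_minimal_normal_le (⊤ : Subgroup G) hG1
  haveI := hMn
  have hM0 : pPrimeCore p ↥M = ⊥ := core_normal_bot hO M
  have hpM : p ∣ Nat.card M := by
    by_contra h
    have h1 : M ≤ pPrimeCore p G := by
      apply CfsgLib.Solv.le_pPrimeCore'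
      exact ((Nat.Prime.coprime_iff_not_dvd hp.out).2 h).symm
    rw [hO, le_bot_iff] at h1
    exact hMb h1
  -- `M` is not abelian
  have hnonab : ¬ ∀ a ∈ M, ∀ b ∈ M, a * b = b * a := by
    intro hab
    have hMp : IsPGroup p ↥M := isPGroup_of_comm_core_bot (fun a b => Subtype.ext (hab a a.2 b b.2)) hM0
    have hMxp : IsPGroup p ↥(M ⊔ zpowers x) := by
      apply IsPGroup.to_sup_of_normal_left hMp hxp
    have hxM : ∀ u ∈ M, u * x = x * u := fun u hu =>
      isolated_central hMxp (mem_sup_right (mem_zpowers x)) hiso (mem_sup_left hu)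
    have hMc : M ≤ center G := le_center_of_centralizes x hcl M hxM
    have hle := comap_core_le_of_central M hMp hMc hO
    apply hcen
    intro g
    have h1 := hquot M hMb (QuotientGroup.mk g)
    have h2 : g * x * g⁻¹ * x⁻¹ ∈ M := by
      apply hle
      show QuotientGroup.mk' M _ ∈ pPrimeCore p (G ⧸ M)
      exact h1
    have h3 := mem_center_iff.1 (hMc h2)
    have h4 : Commute x (g * x * g⁻¹) := by
      have h5 : g * x * g⁻¹ = (g * x * g⁻¹ * x⁻¹) * x := by group
      show x * (g * x * g⁻¹) = (g * x * g⁻¹) * x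
      rw [h5]
      generalize g * x * g⁻¹ * x⁻¹ = c at *
      rw [← mul_assoc, h3 x]
    have h5 := hiso g h4
    rw [mul_inv_eq_iff_eq_mul] at h5
    exact h5
  have hMx : M ⊔ zpowers x = ⊤ := by
    by_contra hne
    set H := M ⊔ zpowers x with hH
    have hxH : x ∈ H := mem_sup_right (mem_zpowers x)
    have hMH : M ≤ H := le_sup_left
    have hZ := hmin H hxH hne
    set D := pPrimeCore p ↥H with hD
    haveI hDn : D.Normal := CfsgLib.Solv.pPrimeCore_normal' p
    have hcD : (Nat.card D).Coprime p := CfsgLib.Solv.pPrimeCore_coprime p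
    set E := (D.map H.subtype ⊓ M).subgroupOf M with hE
    have hEn : E.Normal := by
      constructor
      rintro ⟨n, hn⟩ hnE ⟨g, hg⟩
      have h1 : n ∈ D.map H.subtype ⊓ M := hnE
      obtain ⟨⟨d, hd, rfl⟩, hnM⟩ := h1
      show g * (H.subtype d) * g⁻¹ ∈ D.map H.subtype ⊓ M
      refine ⟨⟨⟨g, hMH hg⟩ * d * ⟨g, hMH hg⟩⁻¹, hDn.conj_mem _ hd _, rfl⟩, ?_⟩
      exact M.mul_mem (M.mul_mem hg hnM) (M.inv_mem hg)
    have hEc : (Nat.card E).Coprime p := by
      have hle : Nat.card E ∣ Nat.card D := by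
        have h1 : Nat.card E = Nat.card ↥(D.map H.subtype ⊓ M) := by
          rw [hE]
          exact Nat.card_congr (Subgroup.subgroupOfEquivOfLe inf_le_right).toEquiv
        have h2 : Nat.card ↥(D.map H.subtype) = Nat.card D :=
          Subgroup.card_map_of_injective H.subtype_injective
        rw [h1, ← h2]
        exact Subgroup.card_dvd_of_le inf_le_left
      exact Nat.Coprime.coprime_dvd_left hle hcD
    have hEb : E ≤ pPrimeCore p ↥M := by
      haveI := hEn
      exact CfsgLib.Solv.le_pPrimeCore' E hEc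
    rw [hM0, le_bot_iff] at hEb
    apply hnonab
    have hxM : ∀ u ∈ M, u * x = x * u := by
      intro m hm
      have h1 := hZ ⟨m, hMH hm⟩
      have h2 : m * x * m⁻¹ * x⁻¹ ∈ D.map H.subtype := ⟨_, h1, rfl⟩
      have h3 : m * x * m⁻¹ * x⁻¹ ∈ M := by
        have : m * x * m⁻¹ * x⁻¹ = m * (x * m⁻¹ * x⁻¹) := by group
        rw [this]
        exact M.mul_mem hm (hMn.conj_mem _ (M.inv_mem hm) x)
      have h4 : (⟨m * x * m⁻¹ * x⁻¹, h3⟩ : ↥M) ∈ E := ⟨h2, h3⟩
      rw [hEb, Subgroup.mem_bot] at h4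
      have h5 : m * x * m⁻¹ * x⁻¹ = 1 := congrArg Subtype.val h4
      rw [mul_inv_eq_one, mul_inv_eq_iff_eq_mul] at h5
      exact h5
    have hMc : M ≤ center G := le_center_of_centralizes x hcl M hxM
    intro a ha b hb
    exact ((mem_center_iff.1 (hMc hb)) a)
  have hsimple : ∀ N : Subgroup G, N ≤ M → (∀ m ∈ M, ∀ t ∈ N, m * t * m⁻¹ ∈ N) → N = ⊥ ∨ N = M := by
    intro N hNM hNn
    by_contra hcon
    push Not at hcon
    obtain ⟨hN0, hNne⟩ := hcon
    -- minimal member
    let F : Set (Subgroup G) := {T | T ≠ ⊥ ∧ T ≤ N ∧ ∀ m ∈ M, ∀ t ∈ T, m * t * m⁻¹ ∈ T}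
    have hFne : F.Nonempty := ⟨N, hN0, le_refl _, hNn⟩
    obtain ⟨S₁, ⟨hS0, hSN, hSn⟩, hSmin⟩ := (wellFounded_lt (α := Subgroup G)).has_min F hFne
    have hSM : S₁ ≤ M := hSN.trans hNM
    have hMS : M ≤ normalizer (S₁ : Set G) := by
      intro m hm
      exact Subgroup.mem_normalizer_fintype (fun t ht => hSn m hm t ht)
    have hpS : p ∣ Nat.card S₁ := by
      by_contra h
      have hc : (Nat.card S₁).Coprime p := ((Nat.Prime.coprime_iff_not_dvd hp.out).2 h).symm
      have hn : (S₁.subgroupOf M).Normal := by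
        constructor
        rintro ⟨n, hn⟩ hnS ⟨g, hg⟩
        exact hSn g hg n hnS
      have hc2 : (Nat.card (S₁.subgroupOf M)).Coprime p := by
        have : Nat.card (S₁.subgroupOf M) = Nat.card S₁ :=
          Nat.card_congr (Subgroup.subgroupOfEquivOfLe hSM).toEquiv
        rw [this]; exact hc
      have hle : S₁.subgroupOf M ≤ pPrimeCore p ↥M := CfsgLib.Solv.le_pPrimeCore' _ hc2
      rw [hM0, le_bot_iff] at hle
      apply hS0
      rw [eq_bot_iff]
      intro t ht
      have : (⟨t, hSM ht⟩ : ↥M) ∈ S₁.subgroupOf M := ht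
      rw [hle, Subgroup.mem_bot] at this
      exact Subgroup.mem_bot.2 (congrArg Subtype.val this)
    obtain ⟨P, hxP⟩ := hxp.exists_le_sylow
    have hP1 : CfsgLib.Solv.IsSylowIn p ((P : Subgroup G) ⊓ M) M :=
      CfsgLib.AlpGold.isSylowIn_inf_normal (CfsgLib.CycSyl.isSylowIn_top P) le_top (by
        rw [Subgroup.normalizer_eq_top_iff.2 hMn])
    have hP2 : CfsgLib.Solv.IsSylowIn p (((P : Subgroup G) ⊓ M) ⊓ S₁) S₁ :=
      CfsgLib.AlpGold.isSylowIn_inf_normal hP1 hSM hMS
    have hne : ((P : Subgroup G) ⊓ M) ⊓ S₁ ≠ ⊥ := by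
      intro hb
      have h1 := hP2.2.2
      have h2 := CfsgLib.Trans.card_mul_relIndex hP2.1
      rw [hb] at h1 h2
      rw [Subgroup.card_bot, one_mul] at h2
      rw [← h2] at hpS
      exact h1 hpS
    obtain ⟨u, hu, hu1⟩ := (Subgroup.bot_or_exists_ne_one _).resolve_left hne
    have hxu : u * x = x * u := isolated_central P.isPGroup' (hxP (mem_zpowers x)) hiso hu.1.1
    set T := S₁ ⊓ S₁.map (MulAut.conj x).toMonoidHom with hT
    have huT : u ∈ T := by
      refine ⟨hu.2, u, hu.2, ?_⟩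
      show x * u * x⁻¹ = u
      rw [← hxu]; group
    have hTF : T ∈ F := by
      refine ⟨?_, inf_le_left.trans hSN, ?_⟩
      · intro hb
        rw [hb] at huT
        exact hu1 (Subgroup.mem_bot.1 huT)
      · rintro m hm t ⟨ht, s, hs, hst⟩
        refine ⟨hSn m hm t ht, ?_⟩
        have hst' : x * s * x⁻¹ = t := hst
        have hm' : x⁻¹ * m * x ∈ M := by
          have := hMn.conj_mem m hm x⁻¹
          simpa using this
        refine ⟨(x⁻¹ * m * x) * s * (x⁻¹ * m * x)⁻¹, hSn _ hm' s hs, ?_⟩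
        show x * ((x⁻¹ * m * x) * s * (x⁻¹ * m * x)⁻¹) * x⁻¹ = m * t * m⁻¹
        rw [← hst']
        group
    have hTeq : T = S₁ := by
      by_contra hne'
      exact hSmin T hTF (lt_of_le_of_ne inf_le_left hne')
    have hxinv : x⁻¹ ∈ normalizer (S₁ : Set G) := by
      apply Subgroup.mem_normalizer_fintype
      intro t ht
      have ht' : t ∈ T := hTeq ▸ ht
      obtain ⟨s, hs, hst⟩ := ht'.2
      have hst' : x * s * x⁻¹ = t := hst
      rw [← hst']
      have : x⁻¹ * (x * s * x⁻¹) * x⁻¹⁻¹ = s := by group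
      rw [SetLike.mem_coe] at hs ⊢
      rw [this]; exact hs
    have hxS : x ∈ normalizer (S₁ : Set G) := by
      simpa using (normalizer (S₁ : Set G)).inv_mem hxinv
    have hnorm : normalizer (S₁ : Set G) = ⊤ := by
      rw [eq_top_iff, ← hMx]
      exact sup_le hMS ((zpowers_le).2 hxS)
    have hSnn : S₁.Normal := Subgroup.normalizer_eq_top_iff.1 hnorm
    rcases hMmin S₁ hSnn hSM with h | h
    · exact hS0 h
    · apply hNne
      apply le_antisymm hNM
      rw [← h]
      exact hSN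
  have hE : commutator G = M := by
    apply le_antisymm
    · rw [_root_.commutator_def, Subgroup.commutator_le]
      intro g _ h _
      obtain ⟨m₁, hm₁, y₁, hy₁, rfl⟩ := CfsgLib.SS.exists_mul_of_sup_eq_top hMx g
      obtain ⟨m₂, hm₂, y₂, hy₂, rfl⟩ := CfsgLib.SS.exists_mul_of_sup_eq_top hMx h
      obtain ⟨a, rfl⟩ := Subgroup.mem_zpowers_iff.1 hy₁
      obtain ⟨b, rfl⟩ := Subgroup.mem_zpowers_iff.1 hy₂
      rw [← QuotientGroup.eq_one_iff]
      have hm1 : ((m₁ : G) : G ⧸ M) = 1 := (QuotientGroup.eq_one_iff m₁).2 hm₁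
      have hm2 : ((m₂ : G) : G ⧸ M) = 1 := (QuotientGroup.eq_one_iff m₂).2 hm₂
      have : ((⁅m₁ * x ^ a, m₂ * x ^ b⁆ : G) : G ⧸ M) = ⁅((m₁ * x ^ a : G) : G ⧸ M), ((m₂ * x ^ b : G) : G ⧸ M)⁆ :=
        map_commutatorElement (QuotientGroup.mk' M) _ _
      rw [this, QuotientGroup.mk_mul, QuotientGroup.mk_mul, hm1, hm2, one_mul, one_mul,
        commutatorElement_eq_one_iff_mul_comm]
      rw [← QuotientGroup.mk_mul, ← QuotientGroup.mk_mul, (Commute.refl x).zpow_zpow a b |>.eq]
    · have h1 : (⁅M, M⁆ : Subgroup G).Normal := Subgroup.commutator_normal M M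
      have h2 : (⁅M, M⁆ : Subgroup G) ≤ M := Subgroup.commutator_le_left M M
      rcases hMmin _ h1 h2 with h | h
      · exfalso
        apply hnonab
        intro a ha b hb
        have := Subgroup.commutator_mem_commutator ha hb
        rw [h, Subgroup.mem_bot, commutatorElement_eq_one_iff_mul_comm] at this
        exact this
      · rw [← h, _root_.commutator_def]
        exact Subgroup.commutator_mono le_top le_top
  rw [hE]
  refine ⟨?_, ?_, hMx⟩
  · haveI : Nontrivial ↥M := (Subgroup.nontrivial_iff_ne_bot M).2 hMb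
    refine ⟨fun N' hN' => ?_⟩
    have hn' : ∀ m ∈ M, ∀ t ∈ N'.map M.subtype, m * t * m⁻¹ ∈ N'.map M.subtype := by
      rintro m hm _ ⟨t, ht, rfl⟩
      exact ⟨⟨m, hm⟩ * t * ⟨m, hm⟩⁻¹, hN'.conj_mem _ ht _, rfl⟩
    rcases hsimple (N'.map M.subtype) (map_subtype_le N') hn' with h | h
    · left
      exact (map_eq_bot_iff_of_injective _ M.subtype_injective).1 h
    · right
      rw [eq_top_iff]
      intro a _
      have h1 : (a : G) ∈ N'.map M.subtype := by rw [h]; exact a.2
      obtain ⟨b, hb, hba⟩ := h1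
      have h2 : b = a := Subtype.ext hba
      rwa [← h2]
  · intro hc
    apply hnonab
    intro a ha b hb
    have := hc.is_comm.comm ⟨a, ha⟩ ⟨b, hb⟩
    exact congrArg Subtype.val this

end CfsgLib.ZStar
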